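import Groth.Agent.Lib.SegLC.Map
import Groth.Agent.Lib.GrLC21.Pieces

/-!
# Acyclicity of Segre products
-/

universe u

open DirectSum TensorProduct
open Groth.Agent.GrLC21 Groth.Agent.GrSegLib

noncomputable section

set_option linter.unusedSectionVars false

namespace Groth.Agent.SegLC

variable {k : Type u} [Field k] {R : Type u} [CommRing R] [Algebra k R] [IsNoetherianRing R]
  {𝒜 : ℤ → Submodule k R} [GradedAlgebra 𝒜]
  {S : Type u} [CommRing S] [Algebra k S] [IsNoetherianRing S] {ℬ : ℤ → Submodule k S} [GradedAlgebra ℬ]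
  {T : Type u} [CommRing T] [Algebra k T] [IsNoetherianRing T] {𝒯 : ℤ → Submodule k T} [GradedAlgebra 𝒯]
  {ψ : T →ₐ[k] R ⊗[k] S}

/-- The standing hypotheses of a Segre product of positively graded algebras. -/
structure Data (𝒜 : ℤ → Submodule k R) [GradedAlgebra 𝒜] (ℬ : ℤ → Submodule k S) [GradedAlgebra ℬ]
    (𝒯 : ℤ → Submodule k T) [GradedAlgebra 𝒯] (ψ : T →ₐ[k] R ⊗[k] S) (mR : HomogeneousIdeal 𝒜)
    (mS : HomogeneousIdeal ℬ) (mT : HomogeneousIdeal 𝒯) : Prop where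
  isSegre : GrSeg.IsSegreRing 𝒜 ℬ 𝒯 ψ
  posR : ∀ n : ℤ, n < 0 → 𝒜 n = ⊥
  posS : ∀ n : ℤ, n < 0 → ℬ n = ⊥
  irrR : mR.toIdeal = Ideal.span (⋃ n ∈ Set.Ioi (0 : ℤ), (𝒜 n : Set R))
  irrS : mS.toIdeal = Ideal.span (⋃ n ∈ Set.Ioi (0 : ℤ), (ℬ n : Set S))
  irrT : mT.toIdeal = Ideal.span (⋃ n ∈ Set.Ioi (0 : ℤ), (𝒯 n : Set T))

variable {mR : HomogeneousIdeal 𝒜} {mS : HomogeneousIdeal ℬ} {mT : HomogeneousIdeal 𝒯}
  (D : Data 𝒜 ℬ 𝒯 ψ mR mS mT)

theorem posElem {A : Type u} [CommRing A] [Algebra k A] {𝒜' : ℤ → Submodule k A}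
    (h : ∀ n : ℤ, n < 0 → 𝒜' n = ⊥) : ∀ n : ℤ, n < 0 → ∀ a ∈ 𝒜' n, a = 0 :=
  fun n hn a ha => (Submodule.mem_bot k).1 (h n hn ▸ ha)

theorem mem_irr {A : Type u} [CommRing A] [Algebra k A] {𝒜' : ℤ → Submodule k A} [GradedAlgebra 𝒜']
    {m : HomogeneousIdeal 𝒜'} (hm : m.toIdeal = Ideal.span (⋃ n ∈ Set.Ioi (0 : ℤ), (𝒜' n : Set A)))
    {d : ℤ} (hd : 0 < d) {a : A} (ha : a ∈ 𝒜' d) : a ∈ m.toIdeal :=
  hm.ge (Ideal.subset_span (Set.mem_iUnion₂.2 ⟨d, hd, ha⟩))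

include D in
theorem Data.exists_preimage {g : ℤ} {w : R ⊗[k] S} (hw : w ∈ GrSeg.segrePiece k 𝒜 ℬ g) :
    ∃ t ∈ 𝒯 g, ψ t = w := (D.isSegre.2 g).ge hw

section Modules

variable {M N : Type u} [AddCommGroup M] [Module R M] [Module k M] [IsScalarTower k R M]
  [AddCommGroup N] [Module S N] [Module k N] [IsScalarTower k S N]
  {τ τ' : Type u} [SetLike τ M] [AddSubgroupClass τ M] [SetLike τ' N] [AddSubgroupClass τ' N]
  {ℳ : ℤ → τ} [Decomposition ℳ] [SetLike.GradedSMul 𝒜 ℳ]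
  {𝒩 : ℤ → τ'} [Decomposition 𝒩] [SetLike.GradedSMul ℬ 𝒩]

theorem act_eq_zero_left {g : ℤ} {a : M} (b : N) (ha : ∀ r ∈ 𝒜 g, r • a = 0) {w : R ⊗[k] S}
    (hw : w ∈ GrSeg.segrePiece k 𝒜 ℬ g) : GrSeg.act k R S M N w (a ⊗ₜ[k] b) = 0 := by
  induction hw using Submodule.span_induction with
  | mem w hw =>
    obtain ⟨r, hr, s, hs, rfl⟩ := hw
    rw [GrSeg.act_tmul, ha r hr, TensorProduct.zero_tmul]
  | zero => rw [map_zero, LinearMap.zero_apply]
  | add x y _ _ hx hy => rw [map_add, LinearMap.add_apply, hx, hy, add_zero]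
  | smul c x _ hx => rw [map_smul, LinearMap.smul_apply, hx, smul_zero]

theorem act_eq_zero_right {g : ℤ} (a : M) {b : N} (hb : ∀ s ∈ ℬ g, s • b = 0) {w : R ⊗[k] S}
    (hw : w ∈ GrSeg.segrePiece k 𝒜 ℬ g) : GrSeg.act k R S M N w (a ⊗ₜ[k] b) = 0 := by
  induction hw using Submodule.span_induction with
  | mem w hw =>
    obtain ⟨r, hr, s, hs, rfl⟩ := hw
    rw [GrSeg.act_tmul, hb s hs, TensorProduct.tmul_zero]
  | zero => rw [map_zero, LinearMap.zero_apply]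
  | add x y _ _ hx hy => rw [map_add, LinearMap.add_apply, hx, hy, add_zero]
  | smul c x _ hx => rw [map_smul, LinearMap.smul_apply, hx, smul_zero]

include D in
/-- `a ⊗ b` is torsion once one factor is killed in high degrees. -/
theorem Data.mem_gam_tmul {z : (seg ℳ 𝒩 D.isSegre).carrier} {a : M} {b : N}
    (hz : segι ℳ 𝒩 D.isSegre z = a ⊗ₜ[k] b)
    (h : ∃ B : ℤ, ∀ g, B ≤ g → (∀ r ∈ 𝒜 g, r • a = 0) ∨ (∀ s ∈ ℬ g, s • b = 0)) :
    z ∈ GrLC.gam mT.toIdeal (seg ℳ 𝒩 D.isSegre).carrier := by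
  obtain ⟨B, hB⟩ := h
  refine mem_gam_of_forall_pow D.irrT.le fun t ht => ?_
  simp only [Set.mem_iUnion, Set.mem_Ioi, SetLike.mem_coe, exists_prop] at ht
  obtain ⟨d, hd, ht⟩ := ht
  refine ⟨B.toNat, segι_injective ℳ 𝒩 D.isSegre ?_⟩
  rw [segι_smul, hz, map_zero]
  have hw := (D.isSegre.2 (B.toNat • d)).le ⟨t ^ B.toNat, SetLike.pow_mem_graded _ ht, rfl⟩
  have hge : B ≤ B.toNat • d := by
    rw [nsmul_eq_mul]
    have := Int.self_le_toNat B
    nlinarith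
  rcases hB _ hge with h | h
  · exact act_eq_zero_left b h hw
  · exact act_eq_zero_right a h hw

theorem exists_bound_of_mem_gam {A : Type u} [CommRing A] [Algebra k A] [IsNoetherianRing A]
    {𝒜' : ℤ → Submodule k A} [GradedAlgebra 𝒜'] (hpos : ∀ n : ℤ, n < 0 → 𝒜' n = ⊥) {m : HomogeneousIdeal 𝒜'}
    (hm : m.toIdeal = Ideal.span (⋃ n ∈ Set.Ioi (0 : ℤ), (𝒜' n : Set A))) {X : Type u} [AddCommGroup X] [Module A X]
    {x : X} (hx : x ∈ GrLC.gam m.toIdeal X) : ∃ B : ℤ, ∀ g, B ≤ g → ∀ r ∈ 𝒜' g, r • x = 0 := by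
  obtain ⟨j, hj⟩ := hx
  obtain ⟨B, -, hB⟩ := exists_degree_bound (posElem hpos) m hm
  exact ⟨(j : ℤ) * B, fun g hg r hr => hj r (hB j g hg r hr)⟩

include D in
theorem Data.mem_gam_left {z : (seg ℳ 𝒩 D.isSegre).carrier} {a : M} {b : N}
    (hz : segι ℳ 𝒩 D.isSegre z = a ⊗ₜ[k] b) (ha : a ∈ GrLC.gam mR.toIdeal M) :
    z ∈ GrLC.gam mT.toIdeal (seg ℳ 𝒩 D.isSegre).carrier := by
  obtain ⟨B, hB⟩ := exists_bound_of_mem_gam D.posR D.irrR ha
  exact D.mem_gam_tmul hz ⟨B, fun g hg => Or.inl (hB g hg)⟩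

include D in
theorem Data.mem_gam_right {z : (seg ℳ 𝒩 D.isSegre).carrier} {a : M} {b : N}
    (hz : segι ℳ 𝒩 D.isSegre z = a ⊗ₜ[k] b) (hb : b ∈ GrLC.gam mS.toIdeal N) :
    z ∈ GrLC.gam mT.toIdeal (seg ℳ 𝒩 D.isSegre).carrier := by
  obtain ⟨B, hB⟩ := exists_bound_of_mem_gam D.posS D.irrS hb
  exact D.mem_gam_tmul hz ⟨B, fun g hg => Or.inr (hB g hg)⟩

include D in
theorem Data.isTors_left (h : ∀ a : M, a ∈ GrLC.gam mR.toIdeal M) : IsTors mT (seg ℳ 𝒩 D.isSegre) := fun z =>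
  seg_induction ℳ 𝒩 D.isSegre z (Submodule.zero_mem _) (fun _ _ => Submodule.add_mem _)
    fun _ a _ _ _ _ hw => D.mem_gam_left hw (h a)

include D in
theorem Data.isTors_right (h : ∀ b : N, b ∈ GrLC.gam mS.toIdeal N) : IsTors mT (seg ℳ 𝒩 D.isSegre) := fun z =>
  seg_induction ℳ 𝒩 D.isSegre z (Submodule.zero_mem _) (fun _ _ => Submodule.add_mem _)
    fun _ _ b _ _ _ hw => D.mem_gam_right hw (h b)

include D in
theorem Data.isBij {d e : ℕ} (hd : 0 < d) (he : 0 < e) {x : R} {y : S} (hx : x ∈ 𝒜 (d : ℤ)) (hy : y ∈ ℬ (e : ℤ))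
    (hM : Function.Bijective fun m : M => x • m) (hN : Function.Bijective fun n : N => y • n) :
    IsBij mT (seg ℳ 𝒩 D.isSegre) := by
  have hx' : x ^ e ∈ 𝒜 ((d * e : ℕ) : ℤ) := by
    have := SetLike.pow_mem_graded e hx
    rwa [nsmul_eq_mul, mul_comm, ← Nat.cast_mul] at this
  have hy' : y ^ d ∈ ℬ ((d * e : ℕ) : ℤ) := by
    have := SetLike.pow_mem_graded d hy
    rwa [nsmul_eq_mul, ← Nat.cast_mul] at this
  obtain ⟨t, ht, hψ⟩ := D.exists_preimage (g := ((d * e : ℕ) : ℤ)) (w := (x ^ e) ⊗ₜ[k] (y ^ d))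
    (Submodule.subset_span ⟨_, hx', _, hy', rfl⟩)
  have hde : (0 : ℤ) < ((d * e : ℕ) : ℤ) := Int.natCast_pos.2 (Nat.mul_pos hd he)
  have hMp : Function.Bijective fun m : M => x ^ e • m := by
    rw [show (fun m : M => x ^ e • m) = (fun m : M => x • m)^[e] from (smul_iterate x e).symm]
    exact hM.iterate e
  have hNp : Function.Bijective fun n : N => y ^ d • n := by
    rw [show (fun n : N => y ^ d • n) = (fun n : N => y • n)^[d] from (smul_iterate y d).symm]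
    exact hN.iterate d
  refine ⟨_, t, ht, mem_irr D.irrT hde ht, fun z z' h => segι_injective ℳ 𝒩 D.isSegre ?_, fun z => ?_⟩
  · have h' : GrSeg.act k R S M N (ψ t) (segι ℳ 𝒩 D.isSegre z) = GrSeg.act k R S M N (ψ t) (segι ℳ 𝒩 D.isSegre z') := by
      rw [← segι_smul ℳ 𝒩 D.isSegre, ← segι_smul ℳ 𝒩 D.isSegre]; exact congrArg _ h
    refine tmap_injective (k := k) (f := x ^ e • (LinearMap.id : M →ₗ[R] M))
      (g := y ^ d • (LinearMap.id : N →ₗ[S] N)) hMp.1 hNp.1 ?_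
    have hact : ∀ w, GrSeg.act k R S M N (ψ t) w =
        tmap k (x ^ e • (LinearMap.id : M →ₗ[R] M)) (y ^ d • (LinearMap.id : N →ₗ[S] N)) w := fun w => by
      rw [hψ]
      induction w using TensorProduct.induction_on with
      | zero => simp
      | add a b ha hb => rw [map_add, map_add, ha, hb]
      | tmul a b => rw [GrSeg.act_tmul]; rfl
    rwa [← hact, ← hact]
  · refine seg_induction ℳ 𝒩 D.isSegre (P := fun z => ∃ v, t • v = z) z ⟨0, smul_zero t⟩ ?_ ?_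
    · rintro _ _ ⟨u, rfl⟩ ⟨v, rfl⟩
      exact ⟨u + v, smul_add t u v⟩
    · intro g a b ha hb w hw
      obtain ⟨a', rfl⟩ := hMp.2 a
      obtain ⟨b', rfl⟩ := hNp.2 b
      have ha' : a' ∈ ℳ (g - ((d * e : ℕ) : ℤ)) := by
        have h := GrLC21.proj_smul 𝒜 ℳ hx' g a'
        rw [GrLC21.proj_of_mem ℳ ha] at h
        exact hMp.1 h ▸ GrLC21.proj_mem ℳ _ a'
      have hb' : b' ∈ 𝒩 (g - ((d * e : ℕ) : ℤ)) := by
        have h := GrLC21.proj_smul ℬ 𝒩 hy' g b'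
        rw [GrLC21.proj_of_mem 𝒩 hb] at h
        exact hNp.1 h ▸ GrLC21.proj_mem 𝒩 _ b'
      obtain ⟨v, -, hv⟩ := exists_segι_piece ℳ 𝒩 D.isSegre (g := g - ((d * e : ℕ) : ℤ)) (w := a' ⊗ₜ[k] b')
        (Submodule.subset_span ⟨_, ha', _, hb', rfl⟩)
      refine ⟨v, segι_injective ℳ 𝒩 D.isSegre ?_⟩
      rw [segι_smul, hv, hψ, GrSeg.act_tmul, hw]

end Modules

theorem exists_pos_degree {A : Type u} [CommRing A] [Algebra k A] [IsNoetherianRing A]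
    {𝒜' : ℤ → Submodule k A} [GradedAlgebra 𝒜'] (hpos : ∀ n : ℤ, n < 0 → 𝒜' n = ⊥) {m : HomogeneousIdeal 𝒜'}
    (hm : m.toIdeal = Ideal.span (⋃ n ∈ Set.Ioi (0 : ℤ), (𝒜' n : Set A))) {X : GrLC.GMod.{u} 𝒜'}
    (h : IsBij m X) :
    Subsingleton X.carrier ∨ ∃ d : ℕ, 0 < d ∧ ∃ x ∈ 𝒜' (d : ℤ), Function.Bijective fun v : X.carrier => x • v := by
  obtain ⟨d, x, hxd, hxm, hbij⟩ := h
  rcases le_or_gt d 0 with hd | hd
  · left
    have h0 : x = 0 := by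
      rw [← GrLC21.proj_of_mem 𝒜' hxd]
      exact proj_eq_zero_of_mem_pos (posElem hpos) hm hxm hd
    exact ⟨fun v w => hbij.1 (by simp [h0])⟩
  · right
    obtain ⟨n, rfl⟩ := Int.eq_ofNat_of_zero_le hd.le
    exact ⟨n, Int.natCast_pos.1 hd, x, hxd, hbij⟩

include D in
theorem Data.isBij_seg {X : GrLC.GMod.{u} 𝒜} {Y : GrLC.GMod.{u} ℬ} (hX : IsBij mR X) (hY : IsBij mS Y) :
    IsBij mT (seg X.gr Y.gr D.isSegre) := by
  have hsub : Subsingleton (seg X.gr Y.gr D.isSegre).carrier → IsBij mT (seg X.gr Y.gr D.isSegre) := fun h =>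
    ⟨0, 0, Submodule.zero_mem _, Submodule.zero_mem _, fun _ _ _ => Subsingleton.elim _ _,
      fun z => ⟨z, Subsingleton.elim _ _⟩⟩
  have hsub' : (∀ w : X.carrier ⊗[k] Y.carrier, w = 0) → Subsingleton (seg X.gr Y.gr D.isSegre).carrier := fun h =>
    ⟨fun z z' => segι_injective X.gr Y.gr D.isSegre (by rw [h (segι X.gr Y.gr D.isSegre z), h (segι X.gr Y.gr D.isSegre z')])⟩
  rcases exists_pos_degree D.posR D.irrR hX with hX | ⟨d, hd, x, hx, hxb⟩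
  · refine hsub (hsub' fun w => ?_)
    induction w using TensorProduct.induction_on with
    | zero => rfl
    | add a b ha hb => rw [ha, hb, add_zero]
    | tmul a b => rw [Subsingleton.elim a 0, TensorProduct.zero_tmul]
  rcases exists_pos_degree D.posS D.irrS hY with hY | ⟨e, he, y, hy, hyb⟩
  · refine hsub (hsub' fun w => ?_)
    induction w using TensorProduct.induction_on with
    | zero => rfl
    | add a b ha hb => rw [ha, hb, add_zero]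
    | tmul a b => rw [Subsingleton.elim b 0, TensorProduct.tmul_zero]
  exact D.isBij hd he hx hy hxb hyb

include D in
/-- A Segre product of sums is the sum of the Segre products. -/
theorem Data.fac_seg {Q₁ : GrLC.GMod.{u} 𝒜 → Prop} {Q₂ : GrLC.GMod.{u} ℬ → Prop}
    {Q₃ : GrLC.GMod.{u} 𝒯 → Prop} (hQ : ∀ X Y, Q₁ X → Q₂ Y → Q₃ (seg X.gr Y.gr D.isSegre))
    {X X' : GrLC.GMod.{u} 𝒜} {Y Y' : GrLC.GMod.{u} ℬ} {φ : X.carrier →ₗ[R] X'.carrier}
    {χ : Y.carrier →ₗ[S] Y'.carrier} (hφ : FacThrough Q₁ X X' φ) (hχ : FacThrough Q₂ Y Y' χ) :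
    FacThrough Q₃ (seg X.gr Y.gr D.isSegre) (seg X'.gr Y'.gr D.isSegre) (segMap D.isSegre hφ.grHom hχ.grHom) := by
  induction hφ with
  | zero => rw [segMap_zero_left]; exact .zero
  | thru Z hZ f g hf hg =>
    induction hχ with
    | zero => rw [segMap_zero_right]; exact .zero
    | thru W hW f' g' hf' hg' =>
      rw [← segMap_comp D.isSegre hg hg' hf hf']
      exact .thru _ (hQ Z W hZ hW) _ _ (segMap_grHom D.isSegre hf hf') (segMap_grHom D.isSegre hg hg')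
    | add h₁ h₂ i₁ i₂ => rw [segMap_add_right D.isSegre _ h₁.grHom h₂.grHom]; exact .add i₁ i₂
  | add h₁ h₂ i₁ i₂ => rw [segMap_add_left D.isSegre h₁.grHom h₂.grHom]; exact .add i₁ i₂

include D in
theorem Data.isBasic_seg {X : GrLC.GMod.{u} 𝒜} {Y : GrLC.GMod.{u} ℬ} (hX : IsBasic mR X) (hY : IsBasic mS Y) :
    IsBasic mT (seg X.gr Y.gr D.isSegre) := by
  rcases hX with hX | hX
  · exact Or.inl (D.isTors_left hX)
  rcases hY with hY | hY
  · exact Or.inl (D.isTors_right hY)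
  exact Or.inr (D.isBij_seg hX hY)

include D in
/-- Segre products of *injective modules are acyclic. -/
theorem Data.fac_seg_starInj {X : GrLC.GMod.{u} 𝒜} {Y : GrLC.GMod.{u} ℬ} (hX : GrLC.IsStarInj 𝒜 X.gr)
    (hY : GrLC.IsStarInj ℬ Y.gr) :
    FacThrough (IsBasic mT) (seg X.gr Y.gr D.isSegre) (seg X.gr Y.gr D.isSegre) LinearMap.id := by
  have h := D.fac_seg (fun _ _ h h' => D.isBasic_seg h h') (fac_basic_of_starInj hX mR) (fac_basic_of_starInj hY mS)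
  rwa [segMap_id] at h

end Groth.Agent.SegLC
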