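import Mathlib.LinearAlgebra.TensorProduct.Map
import Mathlib.LinearAlgebra.Dimension.Constructions
import Mathlib.LinearAlgebra.Dimension.RankNullity
import Mathlib.LinearAlgebra.Dimension.StrongRankCondition
import Mathlib.RingTheory.Flat.Basic
import Mathlib.LinearAlgebra.Basis.VectorSpace
import Mathlib.LinearAlgebra.TensorProduct.RightExactness
import Mathlib.Algebra.Module.Submodule.Range
import Mathlib.LinearAlgebra.FiniteDimensional.Lemmas
import Mathlib.Data.Finset.NatAntidiagonal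
import Mathlib.LinearAlgebra.Pi

/-!
# Cochain complexes of vector spaces
-/

universe u v w

open TensorProduct

noncomputable section

set_option linter.unusedSectionVars false

namespace Groth.Agent.SegLC

variable {k : Type u} [Field k]
variable {A : ℕ → Type v} [∀ n, AddCommGroup (A n)] [∀ n, Module k (A n)] (dA : ∀ n, A n →ₗ[k] A (n + 1))

/-- Coboundaries. -/
def cob : (n : ℕ) → Submodule k (A n)
  | 0 => ⊥
  | n + 1 => LinearMap.range (dA n)

/-- Cohomology. -/
abbrev Coh (n : ℕ) : Type v :=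
  LinearMap.ker (dA n) ⧸ (cob dA n).comap (LinearMap.ker (dA n)).subtype

theorem nonempty_coh_zero : Nonempty (Coh dA 0 ≃ₗ[k] LinearMap.ker (dA 0)) :=
  ⟨Submodule.quotEquivOfEqBot _ ((Submodule.eq_bot_iff _).2 fun z hz => Subtype.ext ((Submodule.mem_bot k).1 hz))⟩

theorem subsingleton_coh_succ {n : ℕ} (h : LinearMap.ker (dA (n + 1)) ≤ LinearMap.range (dA n)) :
    Subsingleton (Coh dA (n + 1)) := by
  refine Submodule.Quotient.subsingleton_iff.2 (eq_top_iff.2 fun z _ => ?_)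
  exact h z.2

variable {B : ℕ → Type w} [∀ n, AddCommGroup (B n)] [∀ n, Module k (B n)] (dB : ∀ n, B n →ₗ[k] B (n + 1))

section Congr

variable (e : ∀ n, A n ≃ₗ[k] B n) (he : ∀ n x, dB n (e n x) = e (n + 1) (dA n x))

include he in
theorem nonempty_coh_congr (n : ℕ) : Nonempty (Coh dA n ≃ₗ[k] Coh dB n) := by
  have hker : (LinearMap.ker (dA n)).map (e n).toLinearMap = LinearMap.ker (dB n) := by
    refine SetLike.ext fun y => ⟨?_, fun hy => Submodule.mem_map.2 ⟨(e n).symm y, ?_, (e n).apply_symm_apply y⟩⟩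
    · rintro ⟨x, hx, rfl⟩
      rw [LinearMap.mem_ker, LinearEquiv.coe_coe, he, LinearMap.mem_ker.1 hx, map_zero]
    · have h := he n ((e n).symm y)
      rw [LinearEquiv.apply_symm_apply, LinearMap.mem_ker.1 hy] at h
      exact (e (n + 1)).injective (h.symm.trans (map_zero _).symm)
  refine ⟨Submodule.Quotient.equiv _ _ ((e n).submoduleMap _ |>.trans (LinearEquiv.ofEq _ _ hker)) ?_⟩
  refine SetLike.ext fun z => ⟨?_, fun hz => ?_⟩
  · rintro ⟨x, hx, rfl⟩
    rcases n with _ | n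
    · show e 0 x.1 ∈ (⊥ : Submodule k (B 0))
      rw [Submodule.mem_bot, show (x : A 0) = 0 from (Submodule.mem_bot k).1 hx, map_zero]
    · obtain ⟨y, hy⟩ := hx
      exact ⟨e n y, by rw [he, hy]; rfl⟩
  · refine ⟨((e n).submoduleMap _ |>.trans (LinearEquiv.ofEq _ _ hker)).symm z, ?_, LinearEquiv.apply_symm_apply _ z⟩
    rcases n with _ | n
    · show (e 0).symm z.1 ∈ (⊥ : Submodule k (A 0))
      rw [Submodule.mem_bot, show (z : B 0) = 0 from (Submodule.mem_bot k).1 hz, map_zero]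
    · obtain ⟨y, hy⟩ := hz
      refine ⟨(e n).symm y, (e (n + 1)).injective ?_⟩
      rw [← he, LinearEquiv.apply_symm_apply, hy]
      exact ((e (n + 1)).apply_symm_apply _).symm

end Congr

section Ses

variable (p : ∀ n, A n →ₗ[k] B n) (hp : ∀ n x, dB n (p n x) = p (n + 1) (dA n x))
  (hps : ∀ n, Function.Surjective (p n)) (hdd : ∀ n x, dA (n + 1) (dA n x) = 0)

/-- The differential of the kernel complex. -/
def kerD (n : ℕ) : LinearMap.ker (p n) →ₗ[k] LinearMap.ker (p (n + 1)) :=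
  (dA n ∘ₗ (LinearMap.ker (p n)).subtype).codRestrict _ fun x => by
    rw [LinearMap.mem_ker, LinearMap.comp_apply, ← hp, Submodule.subtype_apply, LinearMap.mem_ker.1 x.2, map_zero]

variable (n : ℕ) (hA : LinearMap.ker (dA (n + 1)) ≤ LinearMap.range (dA n))

include hp hps hdd hA in
theorem exists_connecting : ∃ δ : LinearMap.ker (dB n) →ₗ[k] Coh (kerD dA dB p hp) (n + 1),
    Function.Surjective δ ∧
    ∀ z, δ z = 0 ↔ ∃ a, dA n a = 0 ∧ (z : B n) - p n a ∈ cob dB n := by
  obtain ⟨s, hs⟩ := LinearMap.exists_rightInverse_of_surjective (p n) (LinearMap.range_eq_top.2 (hps n))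
  have hs' : ∀ x, p n (s x) = x := fun x => LinearMap.congr_fun hs x
  let f : LinearMap.ker (dB n) →ₗ[k] LinearMap.ker (kerD dA dB p hp (n + 1)) :=
    (((dA n ∘ₗ s ∘ₗ (LinearMap.ker (dB n)).subtype).codRestrict (LinearMap.ker (p (n + 1))) fun z => by
      rw [LinearMap.mem_ker, LinearMap.comp_apply, LinearMap.comp_apply, ← hp, hs']
      exact z.2).codRestrict _ fun z => Subtype.ext (hdd n _))
  refine ⟨(Submodule.mkQ _) ∘ₗ f, fun w => ?_, fun z => ?_⟩
  · obtain ⟨w, rfl⟩ := Submodule.mkQ_surjective _ w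
    obtain ⟨a, ha⟩ := hA (show (w.1.1 : A (n + 1)) ∈ LinearMap.ker (dA (n + 1)) from congrArg Subtype.val w.2)
    have haz : p n a ∈ LinearMap.ker (dB n) := by rw [LinearMap.mem_ker, hp, ha]; exact w.1.2
    refine ⟨⟨p n a, haz⟩, (Submodule.Quotient.eq _).2 ?_⟩
    refine ⟨⟨s (p n a) - a, by rw [LinearMap.mem_ker, map_sub, hs', sub_self]⟩, Subtype.ext ?_⟩
    show dA n (s (p n a) - a) = dA n (s (p n a)) - w.1.1
    rw [map_sub, ha]
  · rw [LinearMap.comp_apply, Submodule.mkQ_apply, Submodule.Quotient.mk_eq_zero]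
    constructor
    · rintro ⟨a, ha⟩
      have ha' : dA n a.1 = dA n (s z.1) := congrArg Subtype.val ha
      refine ⟨s z.1 - a.1, by rw [map_sub, ha', sub_self], ?_⟩
      rw [map_sub, hs', LinearMap.mem_ker.1 a.2, sub_zero, sub_self]
      exact Submodule.zero_mem _
    · rintro ⟨a, ha, hz⟩
      rcases n with _ | m
      · refine ⟨⟨s z.1 - a, ?_⟩, Subtype.ext ?_⟩
        · rw [LinearMap.mem_ker, map_sub, hs']
          exact (Submodule.mem_bot k).1 hz
        · show dA 0 (s z.1 - a) = dA 0 (s z.1)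
          rw [map_sub, ha, sub_zero]
      · obtain ⟨b, hb⟩ := hz
        obtain ⟨b', rfl⟩ := hps m b
        refine ⟨⟨s z.1 - a - dA m b', ?_⟩, Subtype.ext ?_⟩
        · rw [LinearMap.mem_ker, map_sub, map_sub, hs', ← hp, hb, sub_self]
        · show dA (m + 1) (s z.1 - a - dA m b') = dA (m + 1) (s z.1)
          rw [map_sub, map_sub, ha, hdd, sub_zero, sub_zero]

end Ses

section Homotopy

variable (hdd : ∀ n x, dA (n + 1) (dA n x) = 0)

include hdd in
/-- Over a field every complex is homotopy equivalent to its cohomology. -/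
theorem exists_split_homotopy : ∃ (h : ∀ n, A (n + 1) →ₗ[k] A n) (π : ∀ n, A n →ₗ[k] A n),
    (∀ n x, dA n (π n x) = 0) ∧ (∀ n x, π (n + 1) (dA n x) = 0) ∧
    (∀ n x, π n (π n x) = π n x) ∧ (∀ x, π 0 x + h 0 (dA 0 x) = x) ∧
    ∀ n x, π (n + 1) x + dA n (h n x) + h (n + 1) (dA (n + 1) x) = x := by
  have hg : ∀ n, ∃ g : A (n + 1) →ₗ[k] A n, ∀ x, dA n (g (dA n x)) = dA n x := by
    intro n
    obtain ⟨s, hs⟩ := LinearMap.exists_rightInverse_of_surjective (dA n).rangeRestrict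
      (LinearMap.range_rangeRestrict _)
    obtain ⟨q, hq⟩ := LinearMap.exists_leftInverse_of_injective (LinearMap.range (dA n)).subtype
      (Submodule.ker_subtype _)
    refine ⟨s ∘ₗ q, fun x => ?_⟩
    have h1 : q (dA n x) = (dA n).rangeRestrict x := LinearMap.congr_fun hq ((dA n).rangeRestrict x)
    rw [LinearMap.comp_apply, h1]
    exact congrArg Subtype.val (LinearMap.congr_fun hs ((dA n).rangeRestrict x))
  choose g₀ hg₀ using hg
  let g : ∀ n, A (n + 1) →ₗ[k] A n := fun n => g₀ n ∘ₗ (LinearMap.id - g₀ (n + 1) ∘ₗ dA (n + 1))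
  have gapp : ∀ n x, g n x = g₀ n (x - g₀ (n + 1) (dA (n + 1) x)) := fun n x => rfl
  have hg : ∀ n x, dA n (g n (dA n x)) = dA n x := fun n x => by
    rw [gapp, hdd, map_zero, sub_zero, hg₀]
  have hgg : ∀ n x, g n (g (n + 1) (dA (n + 1) x)) = 0 := fun n x => by
    rw [gapp (n + 1), hdd, map_zero, sub_zero, gapp n, hg₀, sub_self, map_zero]
  let π : ∀ n, A n →ₗ[k] A n
    | 0 => LinearMap.id - g 0 ∘ₗ dA 0
    | n + 1 => LinearMap.id - dA n ∘ₗ g n - g (n + 1) ∘ₗ dA (n + 1)
  have h1 : ∀ n x, dA n (π n x) = 0 := by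
    rintro (_ | n) x
    · show dA 0 (x - g 0 (dA 0 x)) = 0
      rw [map_sub, hg, sub_self]
    · show dA (n + 1) (x - dA n (g n x) - g (n + 1) (dA (n + 1) x)) = 0
      rw [map_sub, map_sub, hdd, sub_zero, hg, sub_self]
  have h2 : ∀ n x, π (n + 1) (dA n x) = 0 := fun n x => by
    show dA n x - dA n (g n (dA n x)) - g (n + 1) (dA (n + 1) (dA n x)) = 0
    rw [hg, hdd, map_zero, sub_zero, sub_self]
  have h3 : ∀ x, π 0 x + g 0 (dA 0 x) = x := fun x => by
    show x - g 0 (dA 0 x) + g 0 (dA 0 x) = x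
    rw [sub_add_cancel]
  have h4 : ∀ n x, π (n + 1) x + dA n (g n x) + g (n + 1) (dA (n + 1) x) = x := fun n x => by
    show x - dA n (g n x) - g (n + 1) (dA (n + 1) x) + dA n (g n x) + g (n + 1) (dA (n + 1) x) = x
    abel
  refine ⟨g, π, h1, h2, ?_, h3, h4⟩
  rintro (_ | n) x
  · conv_rhs => rw [← h3 x, map_add]
    rw [left_eq_add]
    show g 0 (dA 0 x) - g 0 (dA 0 (g 0 (dA 0 x))) = 0
    rw [hg, sub_self]
  · conv_rhs => rw [← h4 n x, map_add, map_add, h2, add_zero]
    rw [left_eq_add]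
    show g (n + 1) (dA (n + 1) x) - dA n (g n (g (n + 1) (dA (n + 1) x))) -
      g (n + 1) (dA (n + 1) (g (n + 1) (dA (n + 1) x))) = 0
    rw [hgg, map_zero, sub_zero, hg, sub_self]

theorem nonempty_coh_range (h : ∀ n, A (n + 1) →ₗ[k] A n) (π : ∀ n, A n →ₗ[k] A n)
    (h1 : ∀ n x, dA n (π n x) = 0) (h2 : ∀ n x, π (n + 1) (dA n x) = 0) (hidem : ∀ n x, π n (π n x) = π n x)
    (h3 : ∀ x, π 0 x + h 0 (dA 0 x) = x) (h4 : ∀ n x, π (n + 1) x + dA n (h n x) + h (n + 1) (dA (n + 1) x) = x)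
    (n : ℕ) : Nonempty (Coh dA n ≃ₗ[k] LinearMap.range (π n)) := by
  let f : LinearMap.ker (dA n) →ₗ[k] LinearMap.range (π n) := (π n).rangeRestrict ∘ₗ (LinearMap.ker (dA n)).subtype
  have hdiff : ∀ z, dA n z = 0 → z - π n z ∈ cob dA n := by
    intro z hz
    rcases n with _ | m
    · show z - π 0 z ∈ (⊥ : Submodule k (A 0))
      have := h3 z
      rw [hz, map_zero, add_zero] at this
      rw [this, sub_self]
      exact Submodule.zero_mem _
    · refine ⟨h m z, eq_sub_of_add_eq' ?_⟩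
      have := h4 m z
      rwa [hz, map_zero, add_zero] at this
  have hfs : Function.Surjective f := by
    rintro ⟨_, x, rfl⟩
    exact ⟨⟨π n x, h1 n x⟩, Subtype.ext (hidem n x)⟩
  have hker : LinearMap.ker f = (cob dA n).comap (LinearMap.ker (dA n)).subtype := by
    refine SetLike.ext fun z => ⟨fun hz => ?_, fun hz => Subtype.ext ?_⟩
    · have h0 : π n z.1 = 0 := congrArg Subtype.val hz
      have := hdiff z.1 z.2
      rwa [h0, sub_zero] at this
    · show π n z.1 = 0
      rcases n with _ | m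
      · rw [show (z : A 0) = 0 from (Submodule.mem_bot k).1 hz, map_zero]
      · obtain ⟨y, hy⟩ := hz
        show π (m + 1) z.1 = 0
        rw [show (z : A (m + 1)) = dA m y from hy.symm]
        exact h2 m y
  exact ⟨(Submodule.quotEquivOfEq _ _ hker.symm).trans (f.quotKerEquivOfSurjective hfs)⟩

end Homotopy

end Groth.Agent.SegLC
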