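import Groth.Agent.Lib.SegLC.PieceComplex
import Groth.Agent.Lib.GrLC21.Finite

/-!
# Pieces over the degree-zero subring and over the base field
-/

universe u

open DirectSum
open Groth.Agent.GrLC21

noncomputable section

set_option linter.unusedSectionVars false

namespace Groth.Agent.SegLC

variable {k : Type u} [Field k] {A : Type u} [CommRing A] [Algebra k A]
  {𝒞 : ℤ → Submodule k A} [GradedAlgebra 𝒞]

/-- The base field inside the degree-zero subring. -/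
def toDeg0 : k →+* GrLC.deg0 𝒞 :=
  (algebraMap k A).codRestrict (GrLC.deg0 𝒞) fun c => SetLike.algebraMap_mem_graded 𝒞 c

theorem toDeg0_bijective [Nontrivial A] (h0 : 𝒞 0 = Submodule.span k {(1 : A)}) :
    Function.Bijective (toDeg0 (𝒞 := 𝒞)) := by
  refine ⟨(toDeg0 (𝒞 := 𝒞)).injective, fun x => ?_⟩
  have hx : (x : A) ∈ Submodule.span k {(1 : A)} := h0.le x.2
  obtain ⟨c, hc⟩ := Submodule.mem_span_singleton.1 hx
  exact ⟨c, Subtype.ext ((Algebra.algebraMap_eq_smul_one c).trans hc)⟩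

theorem finrank_deg0_eq [Nontrivial A] (h0 : 𝒞 0 = Submodule.span k {(1 : A)}) {V W : Type u} [AddCommGroup V]
    [Module (GrLC.deg0 𝒞) V] [AddCommGroup W] [Module k W] (j : W ≃+ V)
    (hj : ∀ (c : k) (w : W), j (c • w) = toDeg0 (𝒞 := 𝒞) c • j w) :
    Module.finrank (GrLC.deg0 𝒞) V = Module.finrank k W ∧
      (Module.Finite (GrLC.deg0 𝒞) V → Module.Finite k W) := by
  refine ⟨congrArg Cardinal.toNat (rank_eq_of_equiv_equiv (toDeg0 (𝒞 := 𝒞)) j (toDeg0_bijective h0) hj).symm,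
    fun h => ?_⟩
  obtain ⟨s, hs⟩ := h.1
  classical
  refine ⟨⟨s.image j.symm, eq_top_iff.2 fun w _ => ?_⟩⟩
  suffices ∀ v ∈ Submodule.span (GrLC.deg0 𝒞) (s : Set V), j.symm v ∈ Submodule.span k ((s.image j.symm : Finset W) : Set W) by
    simpa using this (j w) (hs ▸ Submodule.mem_top)
  intro v hv
  induction hv using Submodule.span_induction with
  | mem x hx => exact Submodule.subset_span (Finset.mem_coe.2 (Finset.mem_image_of_mem _ hx))
  | zero => rw [map_zero]; exact Submodule.zero_mem _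
  | add x y _ _ hx hy => rw [map_add]; exact Submodule.add_mem _ hx hy
  | smul c x _ hx =>
    obtain ⟨c', rfl⟩ := (toDeg0_bijective h0).2 c
    have : j.symm (toDeg0 (𝒞 := 𝒞) c' • x) = c' • j.symm x :=
      j.injective (by rw [AddEquiv.apply_symm_apply, hj, AddEquiv.apply_symm_apply])
    rw [this]
    exact Submodule.smul_mem _ _ hx

variable {M : Type u} [AddCommGroup M] [Module A M] {τ : Type u} [SetLike τ M] [AddSubgroupClass τ M]
  {ℳ : ℤ → τ} [Decomposition ℳ] [SetLike.GradedSMul 𝒞 ℳ]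

theorem deg0_noetherian [IsNoetherianRing A] : IsNoetherianRing (GrLC.deg0 𝒞) := isNoetherianRing_deg0 𝒞

variable (ℳ) in
theorem finrank_comp_eq [Nontrivial A] (h0 : 𝒞 0 = Submodule.span k {(1 : A)}) (g : ℤ) :
    Module.finrank (GrLC.deg0 𝒞) (GrLC.comp 𝒞 ℳ g) = Module.finrank k (pieceK (toGMod 𝒞 ℳ) g) :=
  (finrank_deg0_eq h0 (V := GrLC.comp 𝒞 ℳ g) (W := pieceK (toGMod 𝒞 ℳ) g)
    (⟨⟨fun x => ⟨x.1, x.2⟩, fun x => ⟨x.1, x.2⟩, fun _ => rfl, fun _ => rfl⟩, fun _ _ => rfl⟩) fun _ _ => rfl).1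

variable (ℳ) in
theorem finite_piece [Nontrivial A] [IsNoetherianRing A] [Module.Finite A M]
    (h0 : 𝒞 0 = Submodule.span k {(1 : A)}) (g : ℤ) : Module.Finite k (pieceK (toGMod 𝒞 ℳ) g) :=
  (finrank_deg0_eq h0 (V := GrLC.comp 𝒞 ℳ g) (W := pieceK (toGMod 𝒞 ℳ) g)
    (⟨⟨fun x => ⟨x.1, x.2⟩, fun x => ⟨x.1, x.2⟩, fun _ => rfl, fun _ => rfl⟩, fun _ _ => rfl⟩) fun _ _ => rfl).2
    (have := isNoetherian_piece (𝒜 := 𝒞) ℳ (M := M) g; inferInstance)

/-- A *injective resolution as an exact coresolution. -/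
def toGRes (E : GrLC.StarInjRes 𝒞 ℳ) : GRes 𝒞 ℳ :=
  ⟨E.X, E.d, E.ε, E.d_grHom, E.ε_grHom, E.ε_injective, E.exact_zero, E.exact_succ⟩

variable (E : GrLC.StarInjRes 𝒞 ℳ) (a : HomogeneousIdeal 𝒞)

theorem hcomp_piece (i : ℕ) (g : ℤ) :
    ∃ j : pieceK ((toGRes E).Hmod a i) g ≃+ E.Hcomp a i g, ∀ (c : k) w, j (c • w) = toDeg0 (𝒞 := 𝒞) c • j w := by
  rcases i with _ | i
  · exact ⟨(⟨⟨fun x => ⟨x.1, x.2⟩, fun x => ⟨x.1, x.2⟩, fun _ => rfl, fun _ => rfl⟩, fun _ _ => rfl⟩), fun _ _ => rfl⟩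
  · exact ⟨(⟨⟨fun x => ⟨x.1, x.2⟩, fun x => ⟨x.1, x.2⟩, fun _ => rfl, fun _ => rfl⟩, fun _ _ => rfl⟩), fun _ _ => rfl⟩

theorem finrank_Hcomp_eq [Nontrivial A] (h0 : 𝒞 0 = Submodule.span k {(1 : A)}) (i : ℕ) (g : ℤ) :
    Module.finrank (GrLC.deg0 𝒞) (E.Hcomp a i g) = Module.finrank k (pieceK ((toGRes E).Hmod a i) g) := by
  obtain ⟨j, hj⟩ := hcomp_piece E a i g
  exact (finrank_deg0_eq h0 j hj).1

theorem finite_Hcomp_piece [Nontrivial A] [IsNoetherianRing A] [Module.Finite A M]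
    (h0 : 𝒞 0 = Submodule.span k {(1 : A)}) (hpos : ∀ n : ℤ, n < 0 → 𝒞 n = ⊥)
    (ha : a.toIdeal = Ideal.span (⋃ n ∈ Set.Ioi (0 : ℤ), (𝒞 n : Set A))) (i : ℕ) (g : ℤ) :
    Module.Finite k (pieceK ((toGRes E).Hmod a i) g) := by
  have : Module.Finite A (toGMod 𝒞 ℳ).carrier := (inferInstance : Module.Finite A M)
  have h1 := (bounded_finite (fun n hn r hr => (Submodule.mem_bot k).1 (hpos n hn ▸ hr)) a ha i (toGMod 𝒞 ℳ)
    (toGModRes E)).1 g
  have h2 : Module.Finite (GrLC.deg0 𝒞) (E.Hcomp a i g) := by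
    rcases i with _ | i <;> exact h1
  obtain ⟨j, hj⟩ := hcomp_piece E a i g
  exact (finrank_deg0_eq h0 j hj).2 h2

end Groth.Agent.SegLC
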