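import Groth.Agent.Lib.SegLC.Tot
import Groth.Agent.Lib.SegLC.Deg0
import Mathlib.LinearAlgebra.Dimension.Constructions
import Mathlib.LinearAlgebra.FiniteDimensional.Basic
import Mathlib.Algebra.BigOperators.NatAntidiagonal

/-!
# The Künneth formula for the local cohomology of a Segre product
-/

universe u

open DirectSum TensorProduct
open Groth.Agent.GrLC21 Groth.Agent.GrSegLib

noncomputable section

set_option linter.unusedSectionVars false

namespace Groth.Agent.SegLC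

theorem sum_ad {β : Type*} [AddCommMonoid β] (f : ℕ → ℕ → β) (n : ℕ) :
    ∑ p : AD n, f p.1.1 p.1.2 = ∑ i ∈ Finset.range (n + 1), f i (n - i) := by
  rw [← Finset.sum_subtype (Finset.HasAntidiagonal.antidiagonal n)
    (fun x => Finset.HasAntidiagonal.mem_antidiagonal) fun p => f p.1 p.2]
  exact Finset.Nat.sum_antidiagonal_eq_sum_range_succ f n

/-- The numerical part of the formula. -/
theorem sum_shift (h h' a b : ℕ → ℕ) (m n : ℕ) (h0 : h 0 = 0) (h0' : h' 0 = 0) (ha0 : a 0 = h 1 + m)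
    (ha : ∀ i, a (i + 1) = h (i + 2)) (hb0 : b 0 = h' 1 + n) (hb : ∀ j, b (j + 1) = h' (j + 2)) (q : ℕ) :
    ∑ i ∈ Finset.range (q + 2), a i * b (q + 1 - i) =
      m * h' (q + 2) + h (q + 2) * n + ∑ i ∈ Finset.range (q + 4), h i * h' (q + 3 - i) := by
  have ha' : ∀ i, a i = h (i + 1) + if i = 0 then m else 0 := by
    rintro (_ | i)
    · simpa using ha0
    · simpa using ha i
  have hb' : ∀ j, b j = h' (j + 1) + if j = 0 then n else 0 := by
    rintro (_ | j)
    · simpa using hb0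
    · simpa using hb j
  have hterm : ∀ i ∈ Finset.range (q + 2), a i * b (q + 1 - i) =
      h (i + 1) * h' (q + 2 - i) + ((if i = 0 then m * h' (q + 2) else 0) +
        (if i = q + 1 then h (q + 2) * n else 0)) := by
    intro i hi
    rw [Finset.mem_range] at hi
    rw [ha', hb', show q + 1 - i + 1 = q + 2 - i by omega]
    rcases eq_or_ne i 0 with rfl | h1
    · simp [add_mul]
    rcases eq_or_ne i (q + 1) with rfl | h2
    · simp [mul_add]
    simp [h1, h2, show ¬ q + 1 - i = 0 by omega]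
  rw [Finset.sum_congr rfl hterm, Finset.sum_add_distrib, Finset.sum_add_distrib, Finset.sum_ite_eq',
    Finset.sum_ite_eq', Finset.sum_range_succ' (fun i => h i * h' (q + 3 - i)) (q + 3), h0, zero_mul, add_zero,
    Finset.sum_range_succ (fun i => h (i + 1) * h' (q + 3 - (i + 1))) (q + 2)]
  simp only [Finset.mem_range, show 0 < q + 2 by omega, show q + 1 < q + 2 by omega, if_true,
    show q + 3 - (q + 2 + 1) = 0 by omega, h0', mul_zero, add_zero]
  simp only [show ∀ i, q + 3 - (i + 1) = q + 2 - i from fun i => by omega]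
  abel

variable {k : Type u} [Field k] {R : Type u} [CommRing R] [Algebra k R] [IsNoetherianRing R] [Nontrivial R]
  {𝒜 : ℤ → Submodule k R} [GradedAlgebra 𝒜]
  {S : Type u} [CommRing S] [Algebra k S] [IsNoetherianRing S] [Nontrivial S]
  {ℬ : ℤ → Submodule k S} [GradedAlgebra ℬ]
  {T : Type u} [CommRing T] [Algebra k T] [IsNoetherianRing T] {𝒯 : ℤ → Submodule k T} [GradedAlgebra 𝒯]
  {ψ : T →ₐ[k] R ⊗[k] S}
  {mR : HomogeneousIdeal 𝒜} {mS : HomogeneousIdeal ℬ} {mT : HomogeneousIdeal 𝒯}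
  (D : Data 𝒜 ℬ 𝒯 ψ mR mS mT)
  (h0R : 𝒜 0 = Submodule.span k {(1 : R)}) (h0S : ℬ 0 = Submodule.span k {(1 : S)})
  {M N P : Type u} [AddCommGroup M] [Module R M] [Module k M] [IsScalarTower k R M]
  [AddCommGroup N] [Module S N] [Module k N] [IsScalarTower k S N]
  [AddCommGroup P] [Module T P] [Module k P] [IsScalarTower k T P]
  {τ τ' τ'' : Type u} [SetLike τ M] [AddSubgroupClass τ M] [SetLike τ' N] [AddSubgroupClass τ' N]
  [SetLike τ'' P] [AddSubgroupClass τ'' P]
  {ℳ : ℤ → τ} [Decomposition ℳ] [SetLike.GradedSMul 𝒜 ℳ] [Module.Finite R M]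
  {𝒩 : ℤ → τ'} [Decomposition 𝒩] [SetLike.GradedSMul ℬ 𝒩] [Module.Finite S N]
  {𝒬 : ℤ → τ''} [Decomposition 𝒬] [SetLike.GradedSMul 𝒯 𝒬]

include D h0R h0S in
theorem Data.deg0T : Nontrivial T ∧ 𝒯 0 = Submodule.span k {(1 : T)} := by
  have : Nontrivial T := by
    have : Nontrivial (R ⊗[k] S) :=
      (Algebra.TensorProduct.includeLeft_injective (R := k) (A := R) (B := S) (S := k)
        (algebraMap k S).injective).nontrivial
    exact (ψ : T →+* R ⊗[k] S).domain_nontrivial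
  refine ⟨this, le_antisymm (fun t ht => ?_) (Submodule.span_le.2 fun t ht => ?_)⟩
  · have h : ψ t ∈ Submodule.span k {(1 : R ⊗[k] S)} := by
      refine (Submodule.span_le.2 ?_) ((D.isSegre.2 0).le ⟨t, ht, rfl⟩)
      rintro _ ⟨a, ha, b, hb, rfl⟩
      obtain ⟨c, rfl⟩ := Submodule.mem_span_singleton.1 (h0R.le ha)
      obtain ⟨c', rfl⟩ := Submodule.mem_span_singleton.1 (h0S.le hb)
      refine Submodule.mem_span_singleton.2 ⟨c * c', ?_⟩
      rw [Algebra.TensorProduct.one_def, TensorProduct.smul_tmul', TensorProduct.tmul_smul,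
        TensorProduct.smul_tmul', smul_smul, mul_comm]
    obtain ⟨c, hc⟩ := Submodule.mem_span_singleton.1 h
    exact Submodule.mem_span_singleton.2 ⟨c, D.isSegre.1 (by rw [map_smul, map_one, hc])⟩
  · rw [Set.mem_singleton_iff] at ht
    subst ht
    exact SetLike.GradedOne.one_mem

include D in
omit [Nontrivial R] [Nontrivial S] [Module.Finite R M] [Module.Finite S N] in
theorem Data.piece_finrank {φ : P →ₗ[k] M ⊗[k] N} (hP : GrSeg.IsSegreMod ψ ℳ 𝒩 𝒬 φ) (g : ℤ) :
    Nonempty (pieceK (toGMod 𝒯 𝒬) g ≃ₗ[k] pieceK (toGMod 𝒜 ℳ) g ⊗[k] pieceK (toGMod ℬ 𝒩) g) := by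
  let fM : pieceK (toGMod 𝒜 ℳ) g →ₗ[k] M :=
    { toFun := fun x => x.1, map_add' := fun _ _ => rfl, map_smul' := fun c x => algebraMap_smul (M := M) R c x.1 }
  let fN : pieceK (toGMod ℬ 𝒩) g →ₗ[k] N :=
    { toFun := fun x => x.1, map_add' := fun _ _ => rfl, map_smul' := fun c x => algebraMap_smul (M := N) S c x.1 }
  let f := TensorProduct.map fM fN
  let φ' : pieceK (toGMod 𝒯 𝒬) g →ₗ[k] M ⊗[k] N :=
    { toFun := fun x => φ (x.1 : P), map_add' := fun x y => map_add φ _ _,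
      map_smul' := fun c x => (congrArg φ (algebraMap_smul (M := P) T c x.1)).trans (map_smul φ c _) }
  have hf : Function.Injective f := by
    show Function.Injective (TensorProduct.map _ _)
    rw [← LinearMap.lTensor_comp_rTensor, LinearMap.coe_comp]
    exact (Module.Flat.lTensor_preserves_injective_linearMap fN fun x y h => Subtype.ext h).comp
      (Module.Flat.rTensor_preserves_injective_linearMap fM fun x y h => Subtype.ext h)
  have hr : LinearMap.range f = GrSeg.segrePiece k ℳ 𝒩 g := by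
    refine le_antisymm ?_ (Submodule.span_le.2 ?_)
    · rintro _ ⟨w, rfl⟩
      induction w using TensorProduct.induction_on with
      | zero => rw [map_zero]; exact Submodule.zero_mem _
      | add a b ha hb => rw [map_add]; exact Submodule.add_mem _ ha hb
      | tmul a b => exact Submodule.subset_span ⟨a.1, a.2, b.1, b.2, rfl⟩
    · rintro _ ⟨a, ha, b, hb, rfl⟩
      exact ⟨(⟨a, ha⟩ : pieceK (toGMod 𝒜 ℳ) g) ⊗ₜ[k] (⟨b, hb⟩ : pieceK (toGMod ℬ 𝒩) g), rfl⟩
  have hr' : LinearMap.range φ' = GrSeg.segrePiece k ℳ 𝒩 g := by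
    refine SetLike.ext' (Eq.trans ?_ (hP.image_piece g))
    refine Set.ext fun w => ⟨?_, ?_⟩
    · rintro ⟨x, rfl⟩; exact ⟨x.1, x.2, rfl⟩
    · rintro ⟨x, hx, rfl⟩; exact ⟨⟨x, hx⟩, rfl⟩
  exact ⟨(LinearEquiv.ofInjective φ' fun x y h => Subtype.ext (hP.injective h)).trans
    ((LinearEquiv.ofEq _ _ (hr'.trans hr.symm)).trans (LinearEquiv.ofInjective f hf).symm)⟩

variable (EM : GrLC.StarInjRes 𝒜 ℳ) (EN : GrLC.StarInjRes ℬ 𝒩) (EP : GrLC.StarInjRes 𝒯 𝒬)

theorem gam_eq_zero_of_van {A : Type u} [CommRing A] [Algebra k A] {𝒞 : ℤ → Submodule k A} [GradedAlgebra 𝒞]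
    {L : Type u} [AddCommGroup L] [Module A L] {τl : Type u} [SetLike τl L] [AddSubgroupClass τl L]
    {ℒ : ℤ → τl} [Decomposition ℒ] [SetLike.GradedSMul 𝒞 ℒ] (E : GrLC.StarInjRes 𝒞 ℒ)
    (a : HomogeneousIdeal 𝒞) (h : ∀ g, E.Hcomp a 0 g = ⊥) {l : L} (hl : l ∈ GrLC.gam a.toIdeal L) : l = 0 := by
  refine GrLC21.eq_zero_of_proj ℒ fun g => ?_
  have hl' : GrLC21.proj ℒ g l ∈ GrLC.gam a.toIdeal L := gam_isHomogeneous a ℒ g hl
  exact (Van.zero_iff (X := toGMod 𝒞 ℒ)).1 ((Hcomp_eq_bot_iff_van E).1 (h g)) _ (GrLC21.proj_mem ℒ g l) hl'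

include D in
omit [Nontrivial R] [Nontrivial S] in
/-- The Segre product has no torsion. -/
theorem Data.gam_segre (hM : ∀ g, EM.Hcomp mR 0 g = ⊥) (hN : ∀ g, EN.Hcomp mS 0 g = ⊥)
    {φ : P →ₗ[k] M ⊗[k] N} (hP : GrSeg.IsSegreMod ψ ℳ 𝒩 𝒬 φ) {p : P} (hp : p ∈ GrLC.gam mT.toIdeal P) : p = 0 := by
  obtain ⟨ε', hε', hεφ⟩ := exists_segEquiv D.isSegre hP
  let y := segMap D.isSegre EM.ε_grHom EN.ε_grHom (ε' p)
  have hy : y ∈ GrLC.gam mT.toIdeal _ := map_mem_gam _ (map_mem_gam ε'.toLinearMap hp)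
  have h0 := (D.gam_seg_starInj (EM.starInj 0) (EN.starInj 0) y).1 hy
  rw [segι_segMap] at h0
  let f := quotπ (EM.X 0) _ (gam_isHomogeneous mR (EM.X 0).gr) ∘ₗ EM.ε
  let f' := quotπ (EN.X 0) _ (gam_isHomogeneous mS (EN.X 0).gr) ∘ₗ EN.ε
  have hf : Function.Injective f := (injective_iff_map_eq_zero f).2 fun m hm =>
    gam_eq_zero_of_van EM mR hM (mem_gam_of_injective EM.ε EM.ε_injective ((Submodule.Quotient.mk_eq_zero _).1 hm))
  have hf' : Function.Injective f' := (injective_iff_map_eq_zero f').2 fun m hm =>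
    gam_eq_zero_of_van EN mS hN (mem_gam_of_injective EN.ε EN.ε_injective ((Submodule.Quotient.mk_eq_zero _).1 hm))
  have h1 : tmap k f f' (segι ℳ 𝒩 D.isSegre (ε' p)) = 0 := by
    refine Eq.trans ?_ h0
    show TensorProduct.map _ _ _ = TensorProduct.map _ _ (TensorProduct.map _ _ _)
    rw [TensorProduct.map_map]
    rfl
  have h2 : segι ℳ 𝒩 D.isSegre (ε' p) = 0 := tmap_injective hf hf' (h1.trans (map_zero _).symm)
  rw [hεφ] at h2
  exact hP.injective (h2.trans (map_zero φ).symm)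

include D h0R h0S in
set_option maxHeartbeats 1000000 in
/-- The Künneth formula. -/
theorem Data.finrank_formula (hM : ∀ g, EM.Hcomp mR 0 g = ⊥) (hN : ∀ g, EN.Hcomp mS 0 g = ⊥)
    {φ : P →ₗ[k] M ⊗[k] N} (hP : GrSeg.IsSegreMod ψ ℳ 𝒩 𝒬 φ) (q : ℕ) (d : ℤ) :
    Module.finrank (GrLC.deg0 𝒯) (EP.Hcomp mT q d) =
      Module.finrank (GrLC.deg0 𝒜) (GrLC.comp 𝒜 ℳ d) * Module.finrank (GrLC.deg0 ℬ) (EN.Hcomp mS q d) +
      Module.finrank (GrLC.deg0 𝒜) (EM.Hcomp mR q d) * Module.finrank (GrLC.deg0 ℬ) (GrLC.comp ℬ 𝒩 d) +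
      (Finset.range (q + 2)).sum (fun i => Module.finrank (GrLC.deg0 𝒜) (EM.Hcomp mR i d) *
        Module.finrank (GrLC.deg0 ℬ) (EN.Hcomp mS (q + 1 - i) d)) := by
  obtain ⟨_, h0T⟩ := D.deg0T h0R h0S
  simp only [finrank_Hcomp_eq _ _ h0R, finrank_Hcomp_eq _ _ h0S, finrank_Hcomp_eq _ _ h0T,
    finrank_comp_eq _ h0R, finrank_comp_eq _ h0S]
  have fh := fun i => finite_Hcomp_piece EM mR h0R D.posR D.irrR i d
  have fh' := fun i => finite_Hcomp_piece EN mS h0S D.posS D.irrS i d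
  have fm := finite_piece ℳ h0R d
  have fn := finite_piece 𝒩 h0S d
  have hz : ∀ {A : Type u} [CommRing A] [Algebra k A] {𝒞 : ℤ → Submodule k A} [GradedAlgebra 𝒞]
      {L : Type u} [AddCommGroup L] [Module A L] {τl : Type u} [SetLike τl L] [AddSubgroupClass τl L]
      {ℒ : ℤ → τl} [Decomposition ℒ] [SetLike.GradedSMul 𝒞 ℒ] (E : GrLC.StarInjRes 𝒞 ℒ) (a : HomogeneousIdeal 𝒞),
      E.Hcomp a 0 d = ⊥ → Module.finrank k (pieceK ((toGRes E).Hmod a 0) d) = 0 := by
    intros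
    rename_i E a h
    obtain ⟨j, -⟩ := hcomp_piece E a 0 d
    have := (GrLC21.Hcomp_subsingleton_iff (E := E) (a := a) (i := 0) d).2 h
    have := j.toEquiv.subsingleton
    exact Module.finrank_zero_of_subsingleton
  have hh0 := hz EM mR (hM d)
  have hh0' := hz EN mS (hN d)
  obtain ⟨ε', hε', -⟩ := exists_segEquiv D.isSegre hP
  let C := D.totRes EM EN ε' hε'
  obtain ⟨θ, hθ, -⟩ := C.exists_equiv_H mT EP (fun n => D.totRes_acyclic EM EN ε' hε' n) q
  have hθ' : GrLC.IsGrHom (C.Hmod mT q).gr ((toGRes EP).Hmod mT q).gr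
      (θ.toLinearMap : (C.Hmod mT q).carrier →ₗ[T] ((toGRes EP).Hmod mT q).carrier) := by
    intro g x hx
    have h := hθ g x hx
    rcases q with _ | q <;> exact h
  rw [← (pieceEquiv (X := C.Hmod mT q) (Y := (toGRes EP).Hmod mT q) θ hθ' d).finrank_eq]
  obtain ⟨fa0, ha0⟩ := finrank_piece_one (toGRes EM) mR d (fun m hm hg => gam_eq_zero_of_van EM mR hM hg)
  obtain ⟨fb0, hb0⟩ := finrank_piece_one (toGRes EN) mS d (fun m hm hg => gam_eq_zero_of_van EN mS hN hg)
  have fa : ∀ i, Module.Finite k (Coh (QVd (toGRes EM) mR d) i) := by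
    rintro (_ | i)
    · exact fa0
    · obtain ⟨e⟩ := nonempty_piece_succ (toGRes EM) mR d i
      exact Module.Finite.equiv e
  have fb : ∀ i, Module.Finite k (Coh (QVd (toGRes EN) mS d) i) := by
    rintro (_ | i)
    · exact fb0
    · obtain ⟨e⟩ := nonempty_piece_succ (toGRes EN) mS d i
      exact Module.Finite.equiv e
  obtain ⟨eP⟩ := D.piece_finrank hP d
  have fP : Module.Finite k (pieceK (toGMod 𝒯 𝒬) d) := Module.Finite.equiv eP.symm
  rcases q with _ | _ | q
  · have hsub : Subsingleton (pieceK (C.Hmod mT 0) d) := by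
      refine subsingleton_of_forall_eq 0 fun x => ?_
      obtain ⟨z, hz, e⟩ := (C.mem_Hmod_gr mT).1 x.2
      have hzr : z.1 ∈ LinearMap.range C.ε := C.exact_zero.le z.2.2
      obtain ⟨p, hp, e'⟩ := exists_homogeneous_preimage C.ε_grHom hz hzr
      have hp0 := D.gam_segre EM EN hM hN hP (mem_gam_of_injective C.ε C.ε_injective (e' ▸ z.2.1))
      have hz0 : z = 0 := Subtype.ext (e'.symm.trans (by rw [hp0, map_zero]; rfl))
      exact Subtype.ext (e.symm.trans (by rw [hz0, map_zero]; rfl))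
    rw [Module.finrank_zero_of_subsingleton]
    simp [Finset.sum_range_succ, hh0, hh0']
  · obtain ⟨eK⟩ := D.nonempty_QV_kunneth EM EN ε' hε' d 0
    have hQ : Module.finrank k (Coh (QVd C mT d) 0) =
        Module.finrank k (Coh (QVd (toGRes EM) mR d) 0) * Module.finrank k (Coh (QVd (toGRes EN) mS d) 0) := by
      rw [eK.finrank_eq, Module.finrank_pi_fintype,
        sum_ad (fun i j => Module.finrank k (Coh (QVd (toGRes EM) mR d) i ⊗[k] Coh (QVd (toGRes EN) mS d) j)) 0,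
        Finset.sum_range_one, Module.finrank_tensorProduct]
    obtain ⟨δ, hδ, -⟩ := exists_connecting (Vd C d) (QVd C mT d) (Qp C mT d) (Qp_comm C mT d) (Qp_surjective C mT d)
      (Vd_Vd C d) 0 (ker_Vd_succ C d 0)
    obtain ⟨e0⟩ := nonempty_coh_zero (QVd C mT d)
    obtain ⟨e1⟩ := nonempty_piece_coh C mT d 1
    have : Module.Finite k (Coh (QVd C mT d) 0) := Module.Finite.equiv eK.symm
    have : Module.Finite k (LinearMap.ker (QVd C mT d 0)) := Module.Finite.equiv e0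
    have : Module.Finite k (pieceK (C.Hmod mT 1) d) :=
      Module.Finite.of_surjective (e1.symm.toLinearMap ∘ₗ δ) (e1.symm.surjective.comp hδ)
    obtain ⟨-, hC⟩ := finrank_piece_one C mT d fun m _ hg => D.gam_segre EM EN hM hN hP hg
    rw [hQ, ← ha0, ← hb0, eP.finrank_eq, Module.finrank_tensorProduct] at hC
    have hs : (Finset.range (1 + 2)).sum (fun i => Module.finrank k (pieceK ((toGRes EM).Hmod mR i) d) *
        Module.finrank k (pieceK ((toGRes EN).Hmod mS (1 + 1 - i)) d)) =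
      Module.finrank k (pieceK ((toGRes EM).Hmod mR 1) d) * Module.finrank k (pieceK ((toGRes EN).Hmod mS 1) d) := by
      rw [Finset.sum_range_succ, Finset.sum_range_succ, Finset.sum_range_one, hh0]
      simp [hh0']
    rw [show (0 + 1 : ℕ) = 1 from rfl, hs]
    linarith [hC]
  · obtain ⟨e⟩ := nonempty_piece_succ C mT d q
    obtain ⟨eK⟩ := D.nonempty_QV_kunneth EM EN ε' hε' d (q + 1)
    rw [e.finrank_eq, eK.finrank_eq, Module.finrank_pi_fintype,
      sum_ad (fun i j => Module.finrank k (Coh (QVd (toGRes EM) mR d) i ⊗[k] Coh (QVd (toGRes EN) mS d) j)) (q + 1)]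
    simp only [Module.finrank_tensorProduct]
    refine sum_shift (fun i => Module.finrank k (pieceK ((toGRes EM).Hmod mR i) d))
      (fun i => Module.finrank k (pieceK ((toGRes EN).Hmod mS i) d))
      (fun i => Module.finrank k (Coh (QVd (toGRes EM) mR d) i))
      (fun i => Module.finrank k (Coh (QVd (toGRes EN) mS d) i))
      _ _ hh0 hh0' ha0.symm (fun i => ?_) hb0.symm (fun i => ?_) q
    · exact (nonempty_piece_succ (toGRes EM) mR d i).some.finrank_eq.symm
    · exact (nonempty_piece_succ (toGRes EN) mS d i).some.finrank_eq.symm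

end Groth.Agent.SegLC
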