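import Groth.Agent.Lib.SegLC.QuotGr
import Groth.Agent.Lib.SegLC.Formula
import Groth.Agent.Lib.GrSeg.Dim
import Groth.Agent.Lib.GrSeg.Std
import Groth.Agent.Lib.GrLC21.CMCrit
import Mathlib.LinearAlgebra.TensorProduct.RightExactness

/-!
# The dimension of a Segre product of graded modules
-/

universe u

open DirectSum TensorProduct
open Groth.Agent.GrLC21 Groth.Agent.GrSegLib

noncomputable section

set_option linter.unusedSectionVars false

namespace Groth.Agent.SegLC

variable {k : Type u} [Field k]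

section Irr

variable {A : Type u} [CommRing A] [Algebra k A] {𝒞 : ℤ → Submodule k A} [GradedAlgebra 𝒞]

theorem posA (hpos : ∀ n : ℤ, n < 0 → 𝒞 n = ⊥) : ∀ n : ℤ, n < 0 → ∀ r ∈ 𝒞 n, r = 0 := fun n hn r hr =>
  (Submodule.mem_bot k).1 (hpos n hn ▸ hr)

/-- The irrelevant ideal is the *maximal ideal when the degree zero part is the field. -/
theorem isStarLocal_plus [Nontrivial A] (hpos : ∀ n : ℤ, n < 0 → 𝒞 n = ⊥)
    (h0 : 𝒞 0 = Submodule.span k {(1 : A)}) {m : HomogeneousIdeal 𝒞}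
    (hm : m.toIdeal = Ideal.span (⋃ n ∈ Set.Ioi (0 : ℤ), (𝒞 n : Set A))) : GrLC.IsStarLocal 𝒞 m := by
  have hne : m.toIdeal ≠ ⊤ := fun h => by
    have h1 : (1 : A) ∈ Ideal.span (⋃ n ∈ Set.Ioi (0 : ℤ), (𝒞 n : Set A)) := hm ▸ h ▸ trivial
    have h2 := proj_eq_zero_of_mem_pos (posA hpos) rfl h1 le_rfl
    rw [GrLC21.proj_of_mem 𝒞 SetLike.GradedOne.one_mem] at h2
    exact one_ne_zero h2
  have hle : ∀ J : HomogeneousIdeal 𝒞, J ≠ ⊤ → J ≤ m := fun J hJ => by
    show J.toIdeal ≤ m.toIdeal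
    rw [hm]
    exact le_plus_of_isHomogeneous 𝒞 hpos h0 J.isHomogeneous fun h =>
      hJ (HomogeneousIdeal.ext (h.trans (HomogeneousIdeal.toIdeal_top (𝒜 := 𝒞)).symm))
  have hmt : m ≠ ⊤ := fun h => hne (by rw [h]; exact HomogeneousIdeal.toIdeal_top)
  have hco : IsCoatom m := ⟨hmt, fun J hJ => by_contra fun h => hJ.not_ge (hle J h)⟩
  refine ⟨hco, fun n hn => ?_⟩
  rcases (hle n hn.1).lt_or_eq with h | h
  · exact absurd (hn.2 m h) hmt
  · exact h

/-- The irrelevant ideal as a homogeneous ideal. -/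
def irr (𝒞 : ℤ → Submodule k A) [GradedAlgebra 𝒞] : HomogeneousIdeal 𝒞 :=
  ⟨Ideal.span (⋃ n ∈ Set.Ioi (0 : ℤ), (𝒞 n : Set A)), Ideal.homogeneous_span 𝒞 _ fun x hx => by
    simp only [Set.mem_iUnion, SetLike.mem_coe, exists_prop] at hx
    obtain ⟨n, -, hx⟩ := hx
    exact ⟨n, hx⟩⟩

theorem irr_toIdeal : (irr 𝒞).toIdeal = Ideal.span (⋃ n ∈ Set.Ioi (0 : ℤ), (𝒞 n : Set A)) := rfl

end Irr

variable {R : Type u} [CommRing R] [Algebra k R] [Algebra.FiniteType k R]
  {𝒜 : ℤ → Submodule k R} [GradedAlgebra 𝒜]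
  {S : Type u} [CommRing S] [Algebra k S] [Algebra.FiniteType k S]
  {ℬ : ℤ → Submodule k S} [GradedAlgebra ℬ]
  {T : Type u} [CommRing T] [Algebra k T] {𝒯 : ℤ → Submodule k T} [GradedAlgebra 𝒯]
  {ψ : T →ₐ[k] R ⊗[k] S}

/-- The map to the Segre product of two graded quotients. -/
def quotSeg (ψ : T →ₐ[k] R ⊗[k] S) (J : Ideal R) (K : Ideal S) : T →ₐ[k] (R ⧸ J) ⊗[k] (S ⧸ K) :=
  (Algebra.TensorProduct.map (Ideal.Quotient.mkₐ k J) (Ideal.Quotient.mkₐ k K)).comp ψ

variable (hT : GrSeg.IsSegreRing 𝒜 ℬ 𝒯 ψ)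

include hT in
theorem ringKrullDim_quotSeg (hposR : ∀ n : ℤ, n < 0 → 𝒜 n = ⊥) (h0R : 𝒜 0 = Submodule.span k {(1 : R)})
    (hposS : ∀ n : ℤ, n < 0 → ℬ n = ⊥) (h0S : ℬ 0 = Submodule.span k {(1 : S)})
    (J : HomogeneousIdeal 𝒜) (K : HomogeneousIdeal ℬ) {r s : ℕ} (hr : ringKrullDim (R ⧸ J.toIdeal) = r)
    (hs : ringKrullDim (S ⧸ K.toIdeal) = s) (h1r : 1 ≤ r) (h1s : 1 ≤ s) :
    ringKrullDim (T ⧸ RingHom.ker (quotSeg ψ J.toIdeal K.toIdeal)) = ((r + s - 1 : ℕ) : WithBot ℕ∞) := by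
  let qR := Ideal.Quotient.mkₐ k J.toIdeal
  let qS := Ideal.Quotient.mkₐ k K.toIdeal
  let θ := quotSeg ψ J.toIdeal K.toIdeal
  have hθ : ∀ n : ℤ, (𝒯 n).map θ.toLinearMap = GrSeg.segrePiece k (quotGrading J) (quotGrading K) n := by
    intro n
    show (𝒯 n).map ((Algebra.TensorProduct.map qR qS).toLinearMap ∘ₗ ψ.toLinearMap) = _
    rw [Submodule.map_comp, hT.2 n, GrSeg.segrePiece, GrSeg.segrePiece, Submodule.map_span]
    congr 1
    ext z
    constructor
    · rintro ⟨_, ⟨a, ha, b, hb, rfl⟩, rfl⟩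
      exact ⟨qR a, ⟨a, ha, rfl⟩, qS b, ⟨b, hb, rfl⟩, Algebra.TensorProduct.map_tmul qR qS a b⟩
    · rintro ⟨_, ⟨a, ha, rfl⟩, _, ⟨b, hb, rfl⟩, rfl⟩
      exact ⟨a ⊗ₜ[k] b, ⟨a, ha, b, hb, rfl⟩, Algebra.TensorProduct.map_tmul qR qS a b⟩
  have hmem : ∀ (n : ℤ) t, t ∈ 𝒯 n → θ t ∈ GrSeg.segrePiece k (quotGrading J) (quotGrading K) n :=
    fun n t ht => hθ n ▸ ⟨t, ht, rfl⟩
  have hhom : (RingHom.ker θ).IsHomogeneous 𝒯 := by
    intro n t ht
    have key : ∀ t : T, pr2 (quotGrading J) (quotGrading K) (quotGrading J) (quotGrading K) n (θ t) =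
        θ (GrLC21.proj 𝒯 n t) := by
      intro t
      refine GrLC21.spans_induction (GrLC21.spans_of_decomposition 𝒯) t (by simp)
        (fun u v hu hv => by simp only [map_add, hu, hv]) fun g s hs => ?_
      rcases eq_or_ne g n with rfl | hg
      · rw [GrLC21.proj_of_mem 𝒯 hs, pr2_of_mem _ _ (hmem g s hs)]
      · rw [GrLC21.proj_of_mem_ne 𝒯 hs hg, map_zero, pr2_of_mem_ne _ _ (hmem g s hs) hg]
    rw [RingHom.mem_ker] at ht ⊢
    show θ (GrLC21.proj 𝒯 n t) = 0
    rw [← key, ht, map_zero]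
  obtain ⟨I, hI⟩ : ∃ I : HomogeneousIdeal 𝒯, I.toIdeal = RingHom.ker θ := ⟨⟨_, hhom⟩, rfl⟩
  let θ' : (T ⧸ I.toIdeal) →ₐ[k] (R ⧸ J.toIdeal) ⊗[k] (S ⧸ K.toIdeal) :=
    Ideal.Quotient.liftₐ I.toIdeal θ fun _ h => RingHom.mem_ker.1 (hI.le h)
  have hθ' : Function.Injective θ' := (injective_iff_map_eq_zero θ').2 fun x hx => by
    obtain ⟨t, rfl⟩ := Ideal.Quotient.mk_surjective x
    exact Ideal.Quotient.eq_zero_iff_mem.2 (hI.ge (RingHom.mem_ker.2 hx))
  have hdeg : ∀ n : ℤ, (quotGrading I n).map θ'.toLinearMap =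
      GrSeg.segrePiece k (quotGrading J) (quotGrading K) n := fun n => by
    rw [← hθ n, quotGrading, ← Submodule.map_comp]
    rfl
  have hq : ∀ {A : Type u} [CommRing A] [Algebra k A] {𝒞 : ℤ → Submodule k A} [GradedAlgebra 𝒞]
      (L : HomogeneousIdeal 𝒞), (∀ n : ℤ, n < 0 → 𝒞 n = ⊥) → 𝒞 0 = Submodule.span k {(1 : A)} →
      (∀ n : ℤ, n < 0 → quotGrading L n = ⊥) ∧ quotGrading L 0 = Submodule.span k {(1 : A ⧸ L.toIdeal)} := by
    intro A _ _ 𝒞 _ L hpos h0
    refine ⟨fun n hn => ?_, ?_⟩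
    · rw [quotGrading, hpos n hn, Submodule.map_bot]
    · rw [quotGrading, h0, Submodule.map_span, Set.image_singleton]
      rfl
  obtain ⟨a, rfl⟩ : ∃ a, r = a + 1 := ⟨r - 1, by omega⟩
  obtain ⟨b, rfl⟩ : ∃ b, s = b + 1 := ⟨s - 1, by omega⟩
  rw [show a + 1 + (b + 1) - 1 = a + b + 1 by omega]
  show ringKrullDim (T ⧸ RingHom.ker θ) = _
  rw [← hI]
  exact GrSegLib.ringKrullDim_segre (quotGrading J) (quotGrading K) (quotGrading I) (hq J hposR h0R).1
    (hq J hposR h0R).2 (hq K hposS h0S).1 (hq K hposS h0S).2 hθ' hdeg hr hs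

section Module

variable {M N P : Type u} [AddCommGroup M] [Module R M] [Module k M] [IsScalarTower k R M]
  [AddCommGroup N] [Module S N] [Module k N] [IsScalarTower k S N]
  [AddCommGroup P] [Module T P] [Module k P] [IsScalarTower k T P]
  {τ τ' τ'' : Type u} [SetLike τ M] [AddSubgroupClass τ M] [SetLike τ' N] [AddSubgroupClass τ' N]
  [SetLike τ'' P] [AddSubgroupClass τ'' P]
  {ℳ : ℤ → τ} [Decomposition ℳ] [SetLike.GradedSMul 𝒜 ℳ]
  {𝒩 : ℤ → τ'} [Decomposition 𝒩] [SetLike.GradedSMul ℬ 𝒩]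
  {𝒬 : ℤ → τ''} [Decomposition 𝒬]
  {φ : P →ₗ[k] M ⊗[k] N}

include hT in
/-- The Segre product of finite graded modules is finite and graded. -/
theorem segre_module_facts [Module.Finite R M] [Module.Finite S N] (hP : GrSeg.IsSegreMod ψ ℳ 𝒩 𝒬 φ) :
    IsNoetherianRing T ∧ Module.Finite T P ∧ SetLike.GradedSMul 𝒯 𝒬 := by
  have h1 : IsNoetherianRing T := isNoetherianRing_segre 𝒜 ℬ 𝒯 hT.1 hT.2
  have h2 : IsNoetherian T P := isNoetherian_segre 𝒜 ℬ ℳ 𝒩 𝒬 (range_mem 𝒜 ℬ 𝒯 hT.2) hP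
  exact ⟨h1, inferInstance, ⟨fun {i j t p} ht hp => smul_mem_segre 𝒜 ℬ 𝒯 ℳ 𝒩 𝒬 hT.2 hP ht hp⟩⟩

omit [Algebra.FiniteType k R] [Algebra.FiniteType k S] in
theorem act_eq_zero_of_mem_ker {J : Ideal R} {K : Ideal S} (hJ : J ≤ Module.annihilator R M)
    (hK : K ≤ Module.annihilator S N) {w : R ⊗[k] S}
    (hw : Algebra.TensorProduct.map (Ideal.Quotient.mkₐ k J) (Ideal.Quotient.mkₐ k K) w = 0) :
    GrSeg.act k R S M N w = 0 := by
  let Z : Ideal (R ⊗[k] S) :=
    { carrier := {w | GrSeg.act k R S M N w = 0}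
      zero_mem' := map_zero _
      add_mem' := fun {a b} ha hb => by
        show GrSeg.act k R S M N (a + b) = 0
        rw [map_add, ha, hb, add_zero]
      smul_mem' := fun c {a} ha => by
        show GrSeg.act k R S M N (c * a) = 0
        rw [GrSegLib.act_mul k R S M N, ha, LinearMap.comp_zero] }
  have hw' : w ∈ RingHom.ker (Algebra.TensorProduct.map (Ideal.Quotient.mkₐ k J) (Ideal.Quotient.mkₐ k K)) := hw
  rw [Algebra.TensorProduct.map_ker _ _ (Ideal.Quotient.mkₐ_surjective k J) (Ideal.Quotient.mkₐ_surjective k K)] at hw'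
  have hle : (RingHom.ker (Ideal.Quotient.mkₐ k J)).map (Algebra.TensorProduct.includeLeft : R →ₐ[k] R ⊗[k] S) ⊔
      (RingHom.ker (Ideal.Quotient.mkₐ k K)).map (Algebra.TensorProduct.includeRight : S →ₐ[k] R ⊗[k] S) ≤ Z := by
    refine sup_le (Ideal.map_le_iff_le_comap.2 fun a ha => ?_) (Ideal.map_le_iff_le_comap.2 fun b hb => ?_)
    · have ha' : a ∈ J := Ideal.Quotient.eq_zero_iff_mem.1 ha
      refine TensorProduct.ext' fun x y => ?_
      show GrSeg.act k R S M N (a ⊗ₜ[k] (1 : S)) (x ⊗ₜ[k] y) = 0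
      rw [GrSeg.act_tmul, Module.mem_annihilator.1 (hJ ha') x, TensorProduct.zero_tmul]
    · have hb' : b ∈ K := Ideal.Quotient.eq_zero_iff_mem.1 hb
      refine TensorProduct.ext' fun x y => ?_
      show GrSeg.act k R S M N ((1 : R) ⊗ₜ[k] b) (x ⊗ₜ[k] y) = 0
      rw [GrSeg.act_tmul, Module.mem_annihilator.1 (hK hb') y, TensorProduct.tmul_zero]
  exact hle hw'

include hT in
/-- The dimension of a Segre product is at most the sum of the dimensions minus one. -/
theorem supportDim_segre_le [Module.Finite R M] [Module.Finite S N] (hposR : ∀ n : ℤ, n < 0 → 𝒜 n = ⊥)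
    (h0R : 𝒜 0 = Submodule.span k {(1 : R)}) (hposS : ∀ n : ℤ, n < 0 → ℬ n = ⊥)
    (h0S : ℬ 0 = Submodule.span k {(1 : S)}) (hP : GrSeg.IsSegreMod ψ ℳ 𝒩 𝒬 φ) {r s : ℕ}
    (hdM : Module.supportDim R M = r) (hdN : Module.supportDim S N = s) (h1r : 1 ≤ r) (h1s : 1 ≤ s) :
    Module.supportDim T P ≤ ((r + s - 1 : ℕ) : WithBot ℕ∞) := by
  obtain ⟨_, _, _⟩ := segre_module_facts hT hP
  rw [Module.supportDim_eq_ringKrullDim_quotient_annihilator] at hdM hdN ⊢
  let J : HomogeneousIdeal 𝒜 := ⟨Module.annihilator R M, isHomogeneous_module_annihilator ℳ⟩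
  let K : HomogeneousIdeal ℬ := ⟨Module.annihilator S N, isHomogeneous_module_annihilator 𝒩⟩
  rw [← ringKrullDim_quotSeg hT hposR h0R hposS h0S J K hdM hdN h1r h1s]
  have hker : RingHom.ker (quotSeg ψ J.toIdeal K.toIdeal) ≤ Module.annihilator T P := fun t ht =>
    Module.mem_annihilator.2 fun p => hP.injective (by
      rw [hP.map_smul, map_zero]
      exact LinearMap.congr_fun (act_eq_zero_of_mem_ker (M := M) (N := N) le_rfl le_rfl (RingHom.mem_ker.1 ht)) _)
  exact ringKrullDim_le_of_surjective (Ideal.Quotient.factor hker) (Ideal.Quotient.factor_surjective hker)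

include hT in
/-- An elementary tensor with annihilators of full dimension bounds the dimension from below. -/
theorem le_supportDim_segre [Module.Finite R M] [Module.Finite S N] (hposR : ∀ n : ℤ, n < 0 → 𝒜 n = ⊥)
    (h0R : 𝒜 0 = Submodule.span k {(1 : R)}) (hposS : ∀ n : ℤ, n < 0 → ℬ n = ⊥)
    (h0S : ℬ 0 = Submodule.span k {(1 : S)}) (hP : GrSeg.IsSegreMod ψ ℳ 𝒩 𝒬 φ) {d : ℤ} {m : M} {n : N}
    (hm : m ∈ ℳ d) (hn : n ∈ 𝒩 d) {r s : ℕ} (hr : ringKrullDim (R ⧸ (R ∙ m).annihilator) = r)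
    (hs : ringKrullDim (S ⧸ (S ∙ n).annihilator) = s) (h1r : 1 ≤ r) (h1s : 1 ≤ s) :
    ((r + s - 1 : ℕ) : WithBot ℕ∞) ≤ Module.supportDim T P := by
  obtain ⟨_, _, _⟩ := segre_module_facts hT hP
  let J : HomogeneousIdeal 𝒜 := ⟨(R ∙ m).annihilator, GrLC21.isHomogeneous_annihilator ℳ hm⟩
  let K : HomogeneousIdeal ℬ := ⟨(S ∙ n).annihilator, GrLC21.isHomogeneous_annihilator 𝒩 hn⟩
  obtain ⟨p, hp, hφ⟩ : ∃ p ∈ 𝒬 d, φ p = m ⊗ₜ[k] n := exists_preimage ℳ 𝒩 𝒬 hP
    (Submodule.subset_span ⟨m, hm, n, hn, rfl⟩)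
  rw [← ringKrullDim_quotSeg hT hposR h0R hposS h0S J K hr hs h1r h1s]
  let f : (R ⧸ J.toIdeal) →ₗ[k] M := (Submodule.liftQ J.toIdeal (LinearMap.toSpanSingleton R M m)
    (fun a ha => (Submodule.mem_annihilator_span_singleton m a).1 ha)).restrictScalars k
  let g : (S ⧸ K.toIdeal) →ₗ[k] N := (Submodule.liftQ K.toIdeal (LinearMap.toSpanSingleton S N n)
    (fun a ha => (Submodule.mem_annihilator_span_singleton n a).1 ha)).restrictScalars k
  have hf : Function.Injective f := (injective_iff_map_eq_zero f).2 fun x hx => by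
    obtain ⟨a, rfl⟩ := Submodule.Quotient.mk_surjective J.toIdeal x
    exact (Submodule.Quotient.mk_eq_zero _).2 ((Submodule.mem_annihilator_span_singleton m a).2 hx)
  have hg : Function.Injective g := (injective_iff_map_eq_zero g).2 fun x hx => by
    obtain ⟨a, rfl⟩ := Submodule.Quotient.mk_surjective K.toIdeal x
    exact (Submodule.Quotient.mk_eq_zero _).2 ((Submodule.mem_annihilator_span_singleton n a).2 hx)
  have hfg : Function.Injective (TensorProduct.map f g) := by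
    rw [← LinearMap.lTensor_comp_rTensor, LinearMap.coe_comp]
    exact (Module.Flat.lTensor_preserves_injective_linearMap g hg).comp
      (Module.Flat.rTensor_preserves_injective_linearMap f hf)
  have hann : (T ∙ p).annihilator ≤ RingHom.ker (quotSeg ψ J.toIdeal K.toIdeal) := fun t ht => by
    have h := congrArg φ ((Submodule.mem_annihilator_span_singleton p t).1 ht)
    rw [hP.map_smul, hφ, map_zero] at h
    have key : ∀ w : R ⊗[k] S, TensorProduct.map f g
        (Algebra.TensorProduct.map (Ideal.Quotient.mkₐ k J.toIdeal) (Ideal.Quotient.mkₐ k K.toIdeal) w) =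
        GrSeg.act k R S M N w (m ⊗ₜ[k] n) := by
      intro w
      induction w using TensorProduct.induction_on with
      | zero => simp
      | add a b ha hb => simp only [map_add, ha, hb, LinearMap.add_apply]
      | tmul a b =>
        rw [Algebra.TensorProduct.map_tmul, TensorProduct.map_tmul, GrSeg.act_tmul]
        rfl
    exact RingHom.mem_ker.2 (hfg ((key (ψ t)).trans (h.trans (map_zero _).symm)))
  refine Order.krullDim_le_of_strictMono
    (fun q => (⟨PrimeSpectrum.comap (Ideal.Quotient.mk (RingHom.ker (quotSeg ψ J.toIdeal K.toIdeal))) q, ?_⟩ :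
      Module.support T P)) fun a b hab => ?_
  · refine Module.mem_support_iff_exists_annihilator.2 ⟨p, fun t ht => ?_⟩
    show Ideal.Quotient.mk _ t ∈ q.asIdeal
    rw [Ideal.Quotient.eq_zero_iff_mem.2 (hann ht)]
    exact q.asIdeal.zero_mem
  · exact (Monotone.strictMono_of_injective (f := PrimeSpectrum.comap
        (Ideal.Quotient.mk (RingHom.ker (quotSeg ψ J.toIdeal K.toIdeal)))) (fun x y h => Ideal.comap_mono h)
      (PrimeSpectrum.comap_injective_of_surjective _ Ideal.Quotient.mk_surjective)) hab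

omit [Algebra.FiniteType k R] [Algebra.FiniteType k S] in
/-- A nonzero Segre product has a degree in which both factors are nonzero. -/
theorem exists_pair_of_nontrivial [Nontrivial P] (hP : GrSeg.IsSegreMod ψ ℳ 𝒩 𝒬 φ) :
    ∃ g : ℤ, ∃ x ∈ ℳ g, x ≠ 0 ∧ ∃ y ∈ 𝒩 g, y ≠ 0 := by
  by_contra h
  push Not at h
  obtain ⟨p, hp⟩ := exists_ne (0 : P)
  refine hp (GrLC21.eq_zero_of_proj 𝒬 fun g => hP.injective ?_)
  have hbot : GrSeg.segrePiece k ℳ 𝒩 g ≤ ⊥ := Submodule.span_le.2 fun z ⟨a, ha, b, hb, e⟩ => by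
    subst e
    rcases eq_or_ne a 0 with rfl | ha0
    · simp
    · simp [h g a ha ha0 b hb]
  rw [map_zero]
  exact (Submodule.mem_bot k).1 (hbot (by
    rw [← SetLike.mem_coe, ← hP.image_piece g]
    exact ⟨_, GrLC21.proj_mem 𝒬 g p, rfl⟩))

end Module

/-- The annihilator of a nonzero element of a Cohen-Macaulay module has full dimension. -/
theorem le_ringKrullDim_annihilator_of_cm {A : Type u} [CommRing A] [IsNoetherianRing A] {L : Type u}
    [AddCommGroup L] [Module A L] [Module.Finite A L] {q : Ideal A} [q.IsPrime]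
    (h : LocCoh.IsCohenMacaulayModule (Localization.AtPrime q) (LocalizedModule q.primeCompl L)) {x : L}
    (hx : LocalizedModule.mk x 1 ≠ (0 : LocalizedModule q.primeCompl L)) :
    Module.supportDim (Localization.AtPrime q) (LocalizedModule q.primeCompl L) ≤
      ringKrullDim (A ⧸ (A ∙ x).annihilator) := by
  let L' : Submodule (Localization.AtPrime q) (LocalizedModule q.primeCompl L) :=
    Localization.AtPrime q ∙ LocalizedModule.mk x 1
  have : Nontrivial L' := ⟨⟨⟨_, Submodule.mem_span_singleton_self _⟩, 0, fun e => hx (congrArg Subtype.val e)⟩⟩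
  obtain ⟨P, hP⟩ := associatedPrimes.nonempty (Localization.AtPrime q) L'
  have hP' := associatedPrimes.subset_of_injective (f := L'.subtype) L'.injective_subtype hP
  have hprime := IsAssociatedPrime.isPrime hP
  rw [← DepthLib.ringKrullDim_quotient_eq_of_mem_associatedPrimes h hP']
  have hle : (A ∙ x).annihilator ≤ P.comap (algebraMap A (Localization.AtPrime q)) := fun a ha => by
    have hl : Module.annihilator (Localization.AtPrime q) L' ≤ P :=
      Module.annihilator_le_of_mem_support (p := ⟨P, hprime⟩) (DepthLib.mem_support_of_mem_associatedPrimes hP)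
    refine hl (Module.mem_annihilator.2 fun z => Subtype.ext ?_)
    obtain ⟨c, hc⟩ := Submodule.mem_span_singleton.1 z.2
    show algebraMap A (Localization.AtPrime q) a • (z : LocalizedModule q.primeCompl L) = 0
    rw [← hc, smul_comm, algebraMap_smul, LocalizedModule.smul'_mk,
      (Submodule.mem_annihilator_span_singleton x a).1 ha, LocalizedModule.zero_mk, smul_zero]
  rw [ringKrullDim_quotient, ringKrullDim_quotient]
  refine Order.krullDim_le_of_strictMono (fun Q => ⟨PrimeSpectrum.comap (algebraMap A (Localization.AtPrime q)) Q.1,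
    fun a ha => Q.2 (hle ha)⟩) fun a b hab => ?_
  exact (Monotone.strictMono_of_injective (f := PrimeSpectrum.comap (algebraMap A (Localization.AtPrime q)))
    (fun x y h => Ideal.comap_mono h) (PrimeSpectrum.localization_comap_injective (Localization.AtPrime q) q.primeCompl)) hab

section Elem

variable {A : Type u} [CommRing A] [Algebra k A] {𝒞 : ℤ → Submodule k A} [GradedAlgebra 𝒞]
  {L : Type u} [AddCommGroup L] [Module A L] {τl : Type u} [SetLike τl L] [AddSubgroupClass τl L]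
  {ℒ : ℤ → τl} [Decomposition ℒ] [SetLike.GradedSMul 𝒞 ℒ]

theorem ringKrullDim_annihilator_le [Module.Finite A L] (x : L) :
    ringKrullDim (A ⧸ (A ∙ x).annihilator) ≤ Module.supportDim A L := by
  rw [Module.supportDim_eq_ringKrullDim_quotient_annihilator]
  have h : Module.annihilator A L ≤ (A ∙ x).annihilator := fun a ha =>
    (Submodule.mem_annihilator_span_singleton x a).2 (Module.mem_annihilator.1 ha x)
  exact ringKrullDim_le_of_surjective (Ideal.Quotient.factor h) (Ideal.Quotient.factor_surjective h)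

/-- In a graded Cohen-Macaulay module every nonzero homogeneous element has annihilator of full dimension. -/
theorem ringKrullDim_annihilator_of_cm [Nontrivial A] [IsNoetherianRing A] [Module.Finite A L]
    (hpos : ∀ n : ℤ, n < 0 → 𝒞 n = ⊥) (h0 : 𝒞 0 = Submodule.span k {(1 : A)})
    (hL : ∀ (q : Ideal A) [q.IsPrime], Subsingleton (LocalizedModule q.primeCompl L) ∨
      LocCoh.IsCohenMacaulayModule (Localization.AtPrime q) (LocalizedModule q.primeCompl L))
    {g : ℤ} {x : L} (hx : x ∈ ℒ g) (hx0 : x ≠ 0) :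
    ringKrullDim (A ⧸ (A ∙ x).annihilator) = Module.supportDim A L := by
  refine le_antisymm (ringKrullDim_annihilator_le x) ?_
  have hm := isStarLocal_plus hpos h0 (m := irr 𝒞) rfl
  have := (GrLC21.isMaximal_starMax (posA hpos) hm.1).isPrime
  rw [GrLC21.supportDim_eq_localized (posA hpos) hm ℒ]
  have hne : LocalizedModule.mk x 1 ≠ (0 : LocalizedModule (irr 𝒞).toIdeal.primeCompl L) := by
    rw [← LocalizedModule.zero_mk 1, Ne, LocalizedModule.mk_eq]
    rintro ⟨⟨c, hc⟩, h⟩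
    simp only [one_smul, smul_zero, Submonoid.smul_def] at h
    have hann : (A ∙ x).annihilator ≤ (irr 𝒞).toIdeal :=
      GrLC21.le_of_isStarLocal hm (GrLC21.isHomogeneous_annihilator ℒ hx) fun h => hx0 (by
        simpa using (Submodule.mem_annihilator_span_singleton x (1 : A)).1 (h ▸ Submodule.mem_top : (1 : A) ∈ _))
    exact hc (hann ((Submodule.mem_annihilator_span_singleton x c).2 h))
  rcases hL (irr 𝒞).toIdeal with h | h
  · exact absurd (Subsingleton.elim _ _) hne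
  · exact le_ringKrullDim_annihilator_of_cm h hne

/-- A module of dimension at least one over a standard graded algebra has homogeneous elements of full dimension in
all large degrees. -/
theorem exists_full_elem [IsNoetherianRing A] [Module.Finite A L] (hpos : ∀ n : ℤ, n < 0 → 𝒞 n = ⊥)
    (h0 : 𝒞 0 = Submodule.span k {(1 : A)})
    (hstd : Ideal.span (⋃ n ∈ Set.Ioi (0 : ℤ), (𝒞 n : Set A)) = Ideal.span ((𝒞 1 : Submodule k A) : Set A))
    (ℒ : ℤ → τl) [Decomposition ℒ] [SetLike.GradedSMul 𝒞 ℒ]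
    {d : ℕ} (hd : Module.supportDim A L = d) (h1 : 1 ≤ d) :
    ∃ d0 : ℤ, ∀ g, d0 ≤ g → ∃ x ∈ ℒ g, ringKrullDim (A ⧸ (A ∙ x).annihilator) = d := by
  classical
  have : Nontrivial A := by
    by_contra hA
    rw [not_nontrivial_iff_subsingleton] at hA
    have := Module.subsingleton A L
    rw [Module.supportDim_eq_bot_of_subsingleton] at hd
    simp at hd
  obtain ⟨P, hP, hPd⟩ : ∃ P : PrimeSpectrum A, Module.annihilator A L ≤ P.asIdeal ∧
      (d : WithBot ℕ∞) ≤ ringKrullDim (A ⧸ P.asIdeal) := by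
    obtain ⟨l, hl⟩ : ∃ l : LTSeries (Module.support A L), l.length = d :=
      Order.le_krullDim_iff.1 (show (d : WithBot ℕ∞) ≤ Order.krullDim (Module.support A L) from hd.ge)
    refine ⟨l.head.1, Module.annihilator_le_of_mem_support l.head.2, ?_⟩
    rw [ringKrullDim_quotient, ← hl]
    exact Order.LTSeries.length_le_krullDim (LTSeries.mk l.length
      (fun i => (⟨(l i).1, (show l.head.1 ≤ (l i).1 from LTSeries.head_le l i)⟩ :
        PrimeSpectrum.zeroLocus (l.head.1.asIdeal : Set A))) fun i j hij => l.strictMono hij)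
  obtain ⟨s, hs⟩ := (Module.finite_def.1 (inferInstance : Module.Finite A L))
  obtain ⟨g0, x0, hx0, hann⟩ : ∃ g0, ∃ x0 ∈ ℒ g0, (A ∙ x0).annihilator ≤ P.asIdeal := by
    by_contra hall
    push Not at hall
    choose a ha ha' using fun gx : Σ g, ℒ g => SetLike.not_le_iff_exists.1 (hall gx.1 gx.2 gx.2.2)
    let F : Finset (Σ g, ℒ g) := s.biUnion fun y =>
      (GrLC21.degs ℒ y).image fun g => ⟨g, GrLC21.proj ℒ g y, GrLC21.proj_mem ℒ g y⟩
    have hmem : ∏ gx ∈ F, a gx ∈ Module.annihilator A L := by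
      refine Module.mem_annihilator.2 fun z => ?_
      have hz : z ∈ Submodule.span A (s : Set L) := hs ▸ Submodule.mem_top
      refine Submodule.span_induction (p := fun z _ => (∏ gx ∈ F, a gx) • z = 0) (fun y hy => ?_) (smul_zero _)
        (fun u v _ _ hu hv => by rw [smul_add, hu, hv, add_zero])
        (fun c u _ hu => by rw [smul_comm, hu, smul_zero]) hz
      rw [← GrLC21.sum_proj ℒ y, Finset.smul_sum]
      refine Finset.sum_eq_zero fun g hg => ?_
      have hF : (⟨g, GrLC21.proj ℒ g y, GrLC21.proj_mem ℒ g y⟩ : Σ g, ℒ g) ∈ F :=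
        Finset.mem_biUnion.2 ⟨y, hy, Finset.mem_image.2 ⟨g, hg, rfl⟩⟩
      rw [← Finset.prod_erase_mul F a hF, mul_smul]
      exact (congrArg (HSMul.hSMul _) ((Submodule.mem_annihilator_span_singleton _ _).1 (ha _))).trans (smul_zero _)
    obtain ⟨gx, -, hgx⟩ := (Ideal.IsPrime.prod_mem_iff (hp := P.isPrime)).1 (hP hmem)
    exact ha' gx hgx
  obtain ⟨y, hy, hyP⟩ : ∃ y ∈ 𝒞 1, y ∉ P.asIdeal := by
    by_contra hall
    push Not at hall
    have hle : (irr 𝒞).toIdeal ≤ P.asIdeal := by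
      rw [irr_toIdeal, hstd, Ideal.span_le]
      exact hall
    have hmax := GrLC21.isMaximal_starMax (posA hpos) (isStarLocal_plus hpos h0 (m := irr 𝒞) rfl).1
    have hPmax : P.asIdeal.IsMaximal := hmax.eq_of_le P.isPrime.ne_top hle ▸ hmax
    letI := Ideal.Quotient.field P.asIdeal
    rw [ringKrullDim_eq_zero_of_field] at hPd
    have : d ≤ 0 := by exact_mod_cast hPd
    omega
  refine ⟨g0, fun g hg => ?_⟩
  obtain ⟨j, rfl⟩ : ∃ j : ℕ, g = g0 + j := ⟨(g - g0).toNat, by omega⟩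
  refine ⟨y ^ j • x0, ?_, le_antisymm ((ringKrullDim_annihilator_le _).trans hd.le) (hPd.trans ?_)⟩
  · have h := GrLC21.smul_mem 𝒞 ℒ (SetLike.pow_mem_graded j hy) hx0
    rwa [show j • (1 : ℤ) + g0 = g0 + j by simp [add_comm]] at h
  · have h : (A ∙ y ^ j • x0).annihilator ≤ P.asIdeal := fun c hc => by
      rw [Submodule.mem_annihilator_span_singleton, ← mul_smul] at hc
      exact (P.isPrime.mem_or_mem (hann ((Submodule.mem_annihilator_span_singleton x0 _).2 hc))).resolve_right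
        fun h => hyP (P.isPrime.mem_of_pow_mem j h)
    exact ringKrullDim_le_of_surjective (Ideal.Quotient.factor h) (Ideal.Quotient.factor_surjective h)

end Elem

end Groth.Agent.SegLC
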