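import Groth.Agent.Lib.SegLC.TopSeg
import Groth.Agent.Lib.GrDual21.Basic
import Groth.Agent.Lib.GrLC21.CanonPair
import Groth.Agent.Lib.GrLC21.CanonExist
import Groth.Agent.Lib.GrLC21.CMCrit
import Groth.Agent.Lib.SegLC.SegDim
import Mathlib.LinearAlgebra.Contraction

/-!
# Graded duals of Segre products
-/

universe u

open DirectSum TensorProduct
open Groth.Agent.GrLC21 Groth.Agent.GrSegLib

noncomputable section

set_option linter.unusedSectionVars false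
set_option maxHeartbeats 1600000

namespace Groth.Agent.SegLC

variable {k : Type u} [Field k]

section One

variable {A : Type u} [CommRing A] [Algebra k A] {𝒞 : ℤ → Submodule k A} [GradedAlgebra 𝒞]

theorem hcomp_eq_bot_of_gt [IsNoetherianRing A] (E : GrLC.StarInjRes 𝒞 𝒞) (a : HomogeneousIdeal 𝒞) {r i : ℕ}
    (hr : ringKrullDim A = r) (hi : r < i) (g : ℤ) : E.Hcomp a i g = ⊥ :=
  (Hcomp_eq_bot_iff_van E).2 (van_of_supportDim_lt a 𝒞 (by
    rw [Module.supportDim_self_eq_ringKrullDim, hr]; exact_mod_cast hi) g)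

variable {M : Type u} [AddCommGroup M] [Module A M] [Module k M] [IsScalarTower k A M]
  {ℳ : ℤ → AddSubgroup M} [Decomposition ℳ] [SetLike.GradedSMul 𝒞 ℳ]
  {D : Type u} [AddCommGroup D] [Module A D] [Module k D] [IsScalarTower k A D]
  {τd : Type u} [SetLike τd D] [AddSubgroupClass τd D] {𝒟 : ℤ → τd} [Decomposition 𝒟] [SetLike.GradedSMul 𝒞 𝒟]
  {β : D →ₗ[k] M →ₗ[k] k}

theorem gdual_pair_of_mem (hD : GrSeg.IsGDual A ℳ 𝒟 β) {n : ℤ} {d : D} (hd : d ∈ 𝒟 n) (x : M) :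
    β d x = β d (GrLC21.proj ℳ (-n) x) := by
  refine spans_induction (spans_of_decomposition ℳ) x (by simp) (fun a b ha hb => by simp [ha, hb])
    fun m a ha => ?_
  rcases eq_or_ne m (-n) with rfl | e
  · rw [proj_of_mem ℳ ha]
  · rw [proj_of_mem_ne ℳ ha e, map_zero, hD.vanish n d hd m e a ha]

theorem gdual_ext (hD : GrSeg.IsGDual A ℳ 𝒟 β) {d d' : D} (h : ∀ x, β d x = β d' x) : d = d' := by
  refine ext_proj 𝒟 fun n => sub_eq_zero.1 ?_
  rw [← map_sub]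
  refine hD.eq_zero n _ (GrLC21.proj_mem 𝒟 n _) fun x hx => ?_
  have hz : ∀ d, β d x = β (GrLC21.proj 𝒟 n d) x := fun d => by
    refine spans_induction (spans_of_decomposition 𝒟) d (by simp) (fun a b ha hb => by simp [ha, hb])
      fun m a ha => ?_
    rcases eq_or_ne m n with rfl | e
    · rw [proj_of_mem 𝒟 ha]
    · rw [proj_of_mem_ne 𝒟 ha e, map_zero, LinearMap.zero_apply,
        hD.vanish m a ha (-n) (fun h => e (by omega)) x hx]
  rw [← hz, map_sub, LinearMap.sub_apply, h, sub_self]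

variable {D' : Type u} [AddCommGroup D'] [Module A D'] [Module k D'] [IsScalarTower k A D']
  {τd' : Type u} [SetLike τd' D'] [AddSubgroupClass τd' D'] {𝒟' : ℤ → τd'} [Decomposition 𝒟']
  [SetLike.GradedSMul 𝒞 𝒟'] {β' : D' →ₗ[k] M →ₗ[k] k}

theorem exists_gdual_map (hD : GrSeg.IsGDual A ℳ 𝒟 β) (hD' : GrSeg.IsGDual A ℳ 𝒟' β') :
    ∃ f : D →ₗ[A] D', GrLC.IsGrHom 𝒟 𝒟' f ∧ ∀ d x, β' (f d) x = β d x := by
  have hhom : ∀ g, ∀ d ∈ 𝒟 g, ∃ d' ∈ 𝒟' g, ∀ x, β' d' x = β d x := fun g d hd => by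
    obtain ⟨d', hd', e⟩ := hD'.exists_eq g (β d)
    exact ⟨d', hd', fun x => by
      rw [gdual_pair_of_mem hD' hd', gdual_pair_of_mem hD hd, e _ (GrLC21.proj_mem ℳ (-g) x)]⟩
  have hall : ∀ d, ∃ d', ∀ x, β' d' x = β d x := fun d => by
    refine spans_induction (spans_of_decomposition 𝒟) d ⟨0, fun x => by simp⟩
      (fun a b ⟨a', ha⟩ ⟨b', hb⟩ => ⟨a' + b', fun x => by simp [ha x, hb x]⟩) fun g a ha => ?_
    obtain ⟨d', -, e⟩ := hhom g a ha
    exact ⟨d', e⟩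
  choose f hf using hall
  have hext : ∀ {p q : D'}, (∀ x, β' p x = β' q x) → p = q := fun h => gdual_ext hD' h
  refine ⟨{ toFun := f, map_add' := fun a b => hext fun x => ?_, map_smul' := fun r a => hext fun x => ?_ },
    fun g d hd => ?_, hf⟩
  · simp [hf]
  · rw [RingHom.id_apply, hD'.map_smul, hf, hf, hD.map_smul]
  · obtain ⟨d', hd', e⟩ := hhom g d hd
    show f d ∈ 𝒟' g
    rw [hext fun x => (hf d x).trans (e x).symm]
    exact hd'

/-- Graded duals of one module are isomorphic. -/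
theorem exists_gdual_equiv (hD : GrSeg.IsGDual A ℳ 𝒟 β) (hD' : GrSeg.IsGDual A ℳ 𝒟' β') :
    ∃ e : D ≃ₗ[A] D', GrLC.IsGrHom 𝒟 𝒟' e.toLinearMap ∧ GrLC.IsGrHom 𝒟' 𝒟 e.symm.toLinearMap := by
  obtain ⟨f, hf, ef⟩ := exists_gdual_map hD hD'
  obtain ⟨g, hg, eg⟩ := exists_gdual_map hD' hD
  exact ⟨LinearEquiv.ofLinearMap f g
    (LinearMap.ext fun d => gdual_ext hD' fun x => (ef _ x).trans (eg d x))
    (LinearMap.ext fun d => gdual_ext hD fun x => (eg _ x).trans (ef d x)), hf, hg⟩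

variable {M' : Type u} [AddCommGroup M'] [Module A M'] [Module k M'] [IsScalarTower k A M']
  {ℳ' : ℤ → AddSubgroup M'} [Decomposition ℳ'] [SetLike.GradedSMul 𝒞 ℳ']

/-- A graded dual of an isomorphic module. -/
theorem exists_gdual_congr (hD : GrSeg.IsGDual A ℳ 𝒟 β) (e : M ≃ₗ[A] M') (he : GrLC.IsGrHom ℳ ℳ' e.toLinearMap) :
    ∃ β'' : D →ₗ[k] M' →ₗ[k] k, GrSeg.IsGDual A ℳ' 𝒟 β'' := by
  have hes : ∀ g, ∀ x ∈ ℳ' g, e.symm x ∈ ℳ g := GrLC21.isGrHom_symm (e := e) he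
  refine ⟨(LinearMap.lcomp k k (e.symm.toLinearMap.restrictScalars k)).comp β, ?_, ?_, ?_, ?_⟩
  · intro r d x
    show β (r • d) (e.symm x) = β d (e.symm (r • x))
    exact (hD.map_smul _ _ _).trans (congrArg (β d) (e.symm.map_smul r x).symm)
  · exact fun n d hd m hm x hx => hD.vanish n d hd m hm _ (hes m x hx)
  · refine fun n d hd h => hD.eq_zero n d hd fun x hx => ?_
    have h' : β d (e.symm (e x)) = 0 := h (e x) (he _ x hx)
    rwa [e.symm_apply_apply] at h'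
  · intro n g
    obtain ⟨d, hd, hdg⟩ := hD.exists_eq n (g.comp (e.toLinearMap.restrictScalars k))
    exact ⟨d, hd, fun x hx => (hdg _ (hes _ x hx)).trans (congrArg g (e.apply_symm_apply x))⟩

variable {E : Type u} [AddCommGroup E] [Module A E] {τ' : Type u} [SetLike τ' E] [AddSubgroupClass τ' E]
  {𝓔 : ℤ → τ'} [Decomposition 𝓔] [SetLike.GradedSMul 𝒞 𝓔]

/-- Being *canonical only depends on the isomorphism class. -/
theorem isStarCanonical_congr {C₁ C₂ : Type u} [AddCommGroup C₁] [Module A C₁] [AddCommGroup C₂] [Module A C₂]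
    {σ₁ σ₂ : Type u} [SetLike σ₁ C₁] [AddSubgroupClass σ₁ C₁] [SetLike σ₂ C₂] [AddSubgroupClass σ₂ C₂]
    {𝒞₁ : ℤ → σ₁} [Decomposition 𝒞₁] [SetLike.GradedSMul 𝒞 𝒞₁]
    {𝒞₂ : ℤ → σ₂} [Decomposition 𝒞₂] [SetLike.GradedSMul 𝒞 𝒞₂]
    {m : HomogeneousIdeal 𝒞} {n : ℕ} {I : GrLC.StarInjRes 𝒞 𝒞}
    (e : C₁ ≃ₗ[A] C₂) (he : GrLC.IsGrHom 𝒞₁ 𝒞₂ e.toLinearMap)
    (h : GrLC.IsStarCanonical 𝒞 𝒞₁ 𝓔 m n I) : GrLC.IsStarCanonical 𝒞 𝒞₂ 𝓔 m n I := by
  obtain ⟨hfin, φ, hφ⟩ := h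
  refine ⟨Module.Finite.equiv e, (e.arrowCongr (LinearEquiv.refl A E)).symm.trans φ, fun d f hf => ?_⟩
  refine hφ d _ fun g x hx => ?_
  show f (e x) ∈ 𝓔 (g + d)
  exact hf g (e x) (he g x hx)

variable {m : HomogeneousIdeal 𝒞} {e : (A ⧸ m.toIdeal) →ₗ[A] E}
  {C : Type u} [AddCommGroup C] [Module A C] [Module k C] [IsScalarTower k A C]
  {σc : Type u} [SetLike σc C] [AddSubgroupClass σc C] {𝒦 : ℤ → σc} [Decomposition 𝒦] [SetLike.GradedSMul 𝒞 𝒦]

/-- A *canonical module is the graded dual of the top cohomology. -/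
theorem exists_gdual_canonical [IsNoetherianRing A] [Nontrivial A] (Γ : FieldCtx 𝒞 m)
    (h0 : 𝒞 0 = Submodule.span k {(1 : A)}) (he : GrLC.IsStarInjHull 𝒞 (GrLC.quotGr 𝒞 m) 𝓔 e) {n : ℕ}
    {I : GrLC.StarInjRes 𝒞 𝒞} (hC : GrLC.IsStarCanonical 𝒞 𝒦 𝓔 m n I) :
    ∃ β : C →ₗ[k] (GrLC21.Hmod I m n).carrier →ₗ[k] k, GrSeg.IsGDual A (GrLC21.Hmod I m n).gr 𝒦 β := by
  obtain ⟨hfin, φ, hφ⟩ := hC
  let δ := RingEquiv.ofBijective (toDeg0 (𝒞 := 𝒞)) (toDeg0_bijective h0)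
  have hδ : ∀ c : k, (δ c : A) = algebraMap k A c := fun c => rfl
  let b : C → (GrLC21.Hmod I m n).carrier → k := fun c h => δ.symm (Γ.pairing he φ c h)
  have badd₂ : ∀ c h h', b c (h + h') = b c h + b c h' := fun c h h' => by
    exact (congrArg δ.symm ((Γ.pairing he φ c).map_add (h : I.H m n) h')).trans (map_add δ.symm _ _)
  have bsmul₂ : ∀ (x : k) c (h : (GrLC21.Hmod I m n).carrier), b c (algebraMap k A x • h) = x * b c h := fun x c h => by
    refine (congrArg δ.symm (Γ.pairing_deg0_smul he φ (δ x) c (h : I.H m n))).trans ?_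
    rw [map_mul, RingEquiv.symm_apply_apply]
  have bA : ∀ (r : A) c (h : (GrLC21.Hmod I m n).carrier), b (r • c) h = b c (r • h) := fun r c h =>
    congrArg δ.symm (Γ.pairing_smul he φ r c (h : I.H m n))
  let β : C →ₗ[k] (GrLC21.Hmod I m n).carrier →ₗ[k] k :=
    LinearMap.mk₂ k b (fun c c' h =>
      (congrArg δ.symm (Γ.pairing_add_left he φ c c' (h : I.H m n))).trans (map_add δ.symm _ _))
      (fun x c h => by rw [← IsScalarTower.algebraMap_smul A x c, bA, bsmul₂]; rfl) badd₂ fun x c h => bsmul₂ x c h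
  refine ⟨β, bA, fun i c hc j hj x hx => ?_, fun j c hc h => ?_, fun j g => ?_⟩
  · show δ.symm _ = 0
    rw [Γ.pairing_eq_zero he φ hφ (by omega : i + j ≠ 0) hc (hx : (x : I.H m n) ∈ I.Hcomp m n j), map_zero]
  · exact Γ.eq_zero_of_pairing he φ hφ hc fun x hx =>
      δ.symm.injective ((h x hx).trans (map_zero δ.symm).symm)
  · let lam : I.Hcomp m n (-j) →ₗ[GrLC.deg0 𝒞] GrLC.deg0 𝒞 :=
      { toFun := fun x => δ (g (x.1 : (GrLC21.Hmod I m n).carrier))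
        map_add' := fun x y => (congrArg δ (g.map_add (x.1 : (GrLC21.Hmod I m n).carrier) y.1)).trans (map_add δ _ _)
        map_smul' := fun s x => by
          obtain ⟨c, rfl⟩ := δ.surjective s
          have hg : ∀ (c : k) (h : (GrLC21.Hmod I m n).carrier), g (algebraMap k A c • h) = c * g h :=
            fun c h => g.map_smul c h
          rw [RingHom.id_apply, smul_eq_mul, ← map_mul δ]
          exact congrArg δ (hg c (x.1 : (GrLC21.Hmod I m n).carrier)) }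
    obtain ⟨c, hc, hlam⟩ := Γ.exists_pairing_eq he φ hφ j lam
    refine ⟨c, hc, fun x hx => ?_⟩
    show δ.symm (Γ.pairing he φ c (x : I.H m n)) = g x
    rw [hlam ⟨x, hx⟩]
    exact δ.symm_apply_apply _

end One

section Two

variable {R : Type u} [CommRing R] [Algebra k R] {𝒜 : ℤ → Submodule k R} [GradedAlgebra 𝒜]
  {S : Type u} [CommRing S] [Algebra k S] {ℬ : ℤ → Submodule k S} [GradedAlgebra ℬ]
  {T : Type u} [CommRing T] [Algebra k T] {𝒯 : ℤ → Submodule k T} [GradedAlgebra 𝒯]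
  {ψ : T →ₐ[k] R ⊗[k] S} (hT : GrSeg.IsSegreRing 𝒜 ℬ 𝒯 ψ)

theorem gdual_piece_bijective {A : Type u} [CommRing A] [Algebra k A] {𝒞 : ℤ → Submodule k A} [GradedAlgebra 𝒞]
    {X Y : GrLC.GMod.{u} 𝒞} {β : Y.carrier →ₗ[k] X.carrier →ₗ[k] k} (hD : GrSeg.IsGDual A X.gr Y.gr β) (n : ℤ) :
    Function.Bijective ((LinearMap.lcomp k k (pieceK X (-n)).subtype).comp (β.comp (pieceK Y n).subtype)) := by
  refine ⟨?_, fun f => ?_⟩
  · rw [injective_iff_map_eq_zero]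
    intro q hq
    exact Subtype.ext (hD.eq_zero n q.1 q.2 fun x hx => LinearMap.congr_fun hq ⟨x, hx⟩)
  · obtain ⟨g, hg⟩ := LinearMap.exists_extend f
    obtain ⟨d, hd, e⟩ := hD.exists_eq n g
    exact ⟨⟨d, hd⟩, LinearMap.ext fun x => (e x.1 x.2).trans (LinearMap.congr_fun hg x)⟩

/-- The Segre product of graded duals is the graded dual of the Segre product. -/
theorem exists_gdual_seg {X Y : GrLC.GMod.{u} 𝒜} {X' Y' : GrLC.GMod.{u} ℬ}
    {β : Y.carrier →ₗ[k] X.carrier →ₗ[k] k} (hD : GrSeg.IsGDual R X.gr Y.gr β)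
    {β' : Y'.carrier →ₗ[k] X'.carrier →ₗ[k] k} (hD' : GrSeg.IsGDual S X'.gr Y'.gr β')
    (hfin : ∀ n, Module.Finite k (pieceK X n)) (hfin' : ∀ n, Module.Finite k (pieceK X' n)) :
    ∃ γ : (seg Y.gr Y'.gr hT).carrier →ₗ[k] (seg X.gr X'.gr hT).carrier →ₗ[k] k,
      GrSeg.IsGDual T (seg X.gr X'.gr hT).gr (seg Y.gr Y'.gr hT).gr γ := by
  let B : Y.carrier ⊗[k] Y'.carrier →ₗ[k] X.carrier ⊗[k] X'.carrier →ₗ[k] k :=
    TensorProduct.dualDistrib k X.carrier X'.carrier ∘ₗ TensorProduct.map β β'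
  have hB : ∀ y y' x x', B (y ⊗ₜ[k] y') (x ⊗ₜ[k] x') = β y x * β' y' x' := fun y y' x x' =>
    TensorProduct.dualDistrib_apply _ _ _ _
  have hact : ∀ w z v, B (GrSeg.act k R S Y.carrier Y'.carrier w z) v =
      B z (GrSeg.act k R S X.carrier X'.carrier w v) := by
    intro w z v
    induction w using TensorProduct.induction_on with
    | zero => simp
    | add p q hp hq => simp [hp, hq]
    | tmul r s =>
      induction z using TensorProduct.induction_on with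
      | zero => simp
      | add p q hp hq => simp [hp, hq]
      | tmul y y' =>
        induction v using TensorProduct.induction_on with
        | zero => simp
        | add p q hp hq => simp [hp, hq]
        | tmul x x' => rw [GrSeg.act_tmul, GrSeg.act_tmul, hB, hB, hD.map_smul, hD'.map_smul]
  let γ : (seg Y.gr Y'.gr hT).carrier →ₗ[k] (seg X.gr X'.gr hT).carrier →ₗ[k] k :=
    (LinearMap.lcomp k k (segι X.gr X'.gr hT)).comp (B.comp (segι Y.gr Y'.gr hT))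
  have hγ : ∀ z x, γ z x = B (segι Y.gr Y'.gr hT z) (segι X.gr X'.gr hT x) := fun _ _ => rfl
  have hF : ∀ n, ∃ F : pieceK Y n ⊗[k] pieceK Y' n ≃ₗ[k] Module.Dual k (pieceK X (-n) ⊗[k] pieceK X' (-n)),
      ∀ u v, F u v = B (pieceTensor Y Y' n u) (pieceTensor X X' (-n) v) := fun n => by
    have := hfin (-n)
    have := hfin' (-n)
    let F := (TensorProduct.congr (LinearEquiv.ofBijective _ (gdual_piece_bijective hD n))
      (LinearEquiv.ofBijective _ (gdual_piece_bijective hD' n))).trans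
        (TensorProduct.dualDistribEquiv k (pieceK X (-n)) (pieceK X' (-n)))
    refine ⟨F, fun u v => ?_⟩
    induction u using TensorProduct.induction_on with
    | zero => simp
    | add p q hp hq => simp [hp, hq]
    | tmul y y' =>
      induction v using TensorProduct.induction_on with
      | zero => simp
      | add p q hp hq => simp [hp, hq]
      | tmul x x' => exact (TensorProduct.dualDistrib_apply _ _ _ _).trans (hB _ _ _ _).symm
  refine ⟨γ, ?_, ?_, ?_, ?_⟩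
  · intro t d x
    rw [hγ, hγ, segι_smul, segι_smul, hact]
  · intro n z hz m hm x hx
    rw [hγ]
    refine Submodule.span_induction (p := fun w _ => B w (segι X.gr X'.gr hT x) = 0) ?_ (by simp)
      (fun p q _ _ hp hq => by simp [hp, hq]) (fun c p _ hp => by simp [hp])
      ((mem_seg_gr Y.gr Y'.gr hT).1 hz)
    rintro _ ⟨y, hy, y', hy', rfl⟩
    refine Submodule.span_induction (p := fun v _ => B (y ⊗ₜ[k] y') v = 0) ?_ (by simp)
      (fun p q _ _ hp hq => by simp [hp, hq]) (fun c p _ hp => by simp [hp])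
      ((mem_seg_gr X.gr X'.gr hT).1 hx)
    rintro _ ⟨a, ha, b, hb, rfl⟩
    rw [hB, hD.vanish n y hy m hm a ha, zero_mul]
  · intro n z hz h
    obtain ⟨F, hFe⟩ := hF n
    obtain ⟨u, hu⟩ : segι Y.gr Y'.gr hT z ∈ LinearMap.range (pieceTensor Y Y' n) :=
      (range_pieceTensor Y Y' n).ge ((mem_seg_gr Y.gr Y'.gr hT).1 hz)
    refine segι_injective Y.gr Y'.gr hT ?_
    rw [map_zero, ← hu]
    suffices hu0 : u = 0 by rw [hu0, map_zero]
    refine F.injective ((LinearMap.ext fun v => ?_).trans (map_zero F).symm)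
    rw [hFe, hu, LinearMap.zero_apply]
    obtain ⟨x, hx, hxv⟩ := exists_segι_piece X.gr X'.gr hT (g := -n) (w := pieceTensor X X' (-n) v)
      ((range_pieceTensor X X' (-n)).le ⟨v, rfl⟩)
    rw [← hxv]
    exact h x hx
  · intro n g
    obtain ⟨F, hFe⟩ := hF n
    obtain ⟨q, hq⟩ := LinearMap.exists_leftInverse_of_injective (segι X.gr X'.gr hT)
      (LinearMap.ker_eq_bot.2 (segι_injective X.gr X'.gr hT))
    let u := F.symm (g ∘ₗ q ∘ₗ pieceTensor X X' (-n))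
    obtain ⟨z, hz, hzu⟩ := exists_segι_piece Y.gr Y'.gr hT (g := n) (w := pieceTensor Y Y' n u)
      ((range_pieceTensor Y Y' n).le ⟨u, rfl⟩)
    refine ⟨z, hz, fun x hx => ?_⟩
    obtain ⟨v, hv⟩ : segι X.gr X'.gr hT x ∈ LinearMap.range (pieceTensor X X' (-n)) :=
      (range_pieceTensor X X' (-n)).ge ((mem_seg_gr X.gr X'.gr hT).1 hx)
    rw [hγ, hzu, ← hv, ← hFe]
    show F (F.symm _) v = g x
    rw [LinearEquiv.apply_symm_apply]
    show g (q (pieceTensor X X' (-n) v)) = g x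
    rw [hv]
    exact congrArg g (LinearMap.congr_fun hq x)

end Two

section Canon

variable {R : Type u} [CommRing R] [Algebra k R] [IsNoetherianRing R] [Nontrivial R]
  {𝒜 : ℤ → Submodule k R} [GradedAlgebra 𝒜]
  {S : Type u} [CommRing S] [Algebra k S] [IsNoetherianRing S] [Nontrivial S]
  {ℬ : ℤ → Submodule k S} [GradedAlgebra ℬ]
  {T : Type u} [CommRing T] [Algebra k T] [IsNoetherianRing T] {𝒯 : ℤ → Submodule k T} [GradedAlgebra 𝒯]
  {ψ : T →ₐ[k] R ⊗[k] S}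
  {mR : HomogeneousIdeal 𝒜} {mS : HomogeneousIdeal ℬ} {mT : HomogeneousIdeal 𝒯}
  (D : Data 𝒜 ℬ 𝒯 ψ mR mS mT)
  (h0R : 𝒜 0 = Submodule.span k {(1 : R)}) (h0S : ℬ 0 = Submodule.span k {(1 : S)})
  {a b : ℕ} (hr : ringKrullDim R = ((a + 1 + 1 : ℕ) : ℕ)) (hs : ringKrullDim S = ((b + 1 + 1 : ℕ) : ℕ))
  (I : GrLC.StarInjRes 𝒜 𝒜) (J : GrLC.StarInjRes ℬ ℬ) (IT : GrLC.StarInjRes 𝒯 𝒯)

include D h0R h0S hr hs in
theorem Data.exists_top_equiv_self :
    ∃ Φ : (seg (GrLC21.Hmod I mR (a + 1 + 1)).gr (GrLC21.Hmod J mS (b + 1 + 1)).gr D.isSegre).carrier ≃ₗ[T]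
        (GrLC21.Hmod IT mT (a + b + 1 + 2)).carrier,
      GrLC.IsGrHom (seg (GrLC21.Hmod I mR (a + 1 + 1)).gr (GrLC21.Hmod J mS (b + 1 + 1)).gr D.isSegre).gr
        (GrLC21.Hmod IT mT (a + b + 1 + 2)).gr Φ.toLinearMap :=
  D.exists_top_equiv h0R h0S I J IT a b (fun i hi g => hcomp_eq_bot_of_gt I mR hr (by omega) g)
    (fun i hi g => hcomp_eq_bot_of_gt J mS hs (by omega) g)
    (isSegreMod_self 𝒜 ℬ 𝒯 D.isSegre.1 D.isSegre.2)

include D h0R h0S hr hs in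
theorem Data.finrank_top (g : ℤ) :
    Module.finrank (GrLC.deg0 𝒯) (IT.Hcomp mT (a + b + 1 + 2) g) =
      Module.finrank (GrLC.deg0 𝒜) (I.Hcomp mR (a + 1 + 1) g) *
        Module.finrank (GrLC.deg0 ℬ) (J.Hcomp mS (b + 1 + 1) g) := by
  obtain ⟨_, h0T⟩ := D.deg0T h0R h0S
  rw [finrank_Hcomp_eq I mR h0R, finrank_Hcomp_eq J mS h0S, finrank_Hcomp_eq IT mT h0T]
  obtain ⟨Φ, hΦ⟩ := D.exists_top_equiv_self h0R h0S hr hs I J IT
  obtain ⟨eH⟩ := D.piece_finrank (ℳ := ((toGRes I).Hmod mR (a + 1 + 1)).gr)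
    (𝒩 := ((toGRes J).Hmod mS (b + 1 + 1)).gr) (isSegreMod_seg _ _ D.isSegre) g
  rw [← Module.finrank_tensorProduct]
  exact ((pieceEquiv (X := seg ((toGRes I).Hmod mR (a + 1 + 1)).gr ((toGRes J).Hmod mS (b + 1 + 1)).gr D.isSegre)
    (Y := (toGRes IT).Hmod mT (a + b + 1 + 2)) Φ hΦ g).symm.trans eH).finrank_eq

include D h0R h0S in
theorem Data.fieldCtx : Nontrivial T ∧ FieldCtx 𝒜 mR ∧ FieldCtx ℬ mS ∧ FieldCtx 𝒯 mT := by
  obtain ⟨_, h0T⟩ := D.deg0T h0R h0S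
  have posT : ∀ n : ℤ, n < 0 → 𝒯 n = ⊥ := fun n hn => by
    refine (Submodule.eq_bot_iff _).2 fun t ht => D.isSegre.1 ?_
    rw [map_zero]
    have h := (D.isSegre.2 n).le ⟨t, ht, rfl⟩
    unfold GrSeg.segrePiece at h
    have hz : {x : R ⊗[k] S | ∃ a ∈ 𝒜 n, ∃ b ∈ ℬ n, x = a ⊗ₜ[k] b} ⊆ ((⊥ : Submodule k (R ⊗[k] S)) : Set (R ⊗[k] S)) := by
      rintro _ ⟨p, hp, q, -, rfl⟩
      rw [posA D.posR n hn p hp, TensorProduct.zero_tmul]
      exact Submodule.zero_mem _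
    exact (Submodule.mem_bot k).1 (Submodule.span_le.2 hz h)
  have hf : ∀ {A : Type u} [CommRing A] [Algebra k A] [Nontrivial A] {𝒞 : ℤ → Submodule k A} [GradedAlgebra 𝒞],
      𝒞 0 = Submodule.span k {(1 : A)} → IsField (GrLC.deg0 𝒞) := fun h =>
    (RingEquiv.ofBijective _ (toDeg0_bijective h)).symm.toMulEquiv.isField (Field.toIsField k)
  exact ⟨inferInstance, ⟨posA D.posR, hf h0R, isStarLocal_plus D.posR h0R D.irrR⟩,
    ⟨posA D.posS, hf h0S, isStarLocal_plus D.posS h0S D.irrS⟩,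
    ⟨posA posT, hf h0T, isStarLocal_plus posT h0T D.irrT⟩⟩

variable
  {ER : Type u} [AddCommGroup ER] [Module R ER] {τR : Type u} [SetLike τR ER] [AddSubgroupClass τR ER]
  {𝓔R : ℤ → τR} [Decomposition 𝓔R] [SetLike.GradedSMul 𝒜 𝓔R] {eR : (R ⧸ mR.toIdeal) →ₗ[R] ER}
  (heR : GrLC.IsStarInjHull 𝒜 (GrLC.quotGr 𝒜 mR) 𝓔R eR)
  {CR : Type u} [AddCommGroup CR] [Module R CR] [Module k CR] [IsScalarTower k R CR]
  {σR : Type u} [SetLike σR CR] [AddSubgroupClass σR CR] {𝒞R : ℤ → σR} [Decomposition 𝒞R] [SetLike.GradedSMul 𝒜 𝒞R]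
  (hCR : GrLC.IsStarCanonical 𝒜 𝒞R 𝓔R mR (a + 1 + 1) I)
  {ES : Type u} [AddCommGroup ES] [Module S ES] {τS : Type u} [SetLike τS ES] [AddSubgroupClass τS ES]
  {𝓔S : ℤ → τS} [Decomposition 𝓔S] [SetLike.GradedSMul ℬ 𝓔S] {eS : (S ⧸ mS.toIdeal) →ₗ[S] ES}
  (heS : GrLC.IsStarInjHull ℬ (GrLC.quotGr ℬ mS) 𝓔S eS)
  {CS : Type u} [AddCommGroup CS] [Module S CS] [Module k CS] [IsScalarTower k S CS]
  {σS : Type u} [SetLike σS CS] [AddSubgroupClass σS CS] {𝒞S : ℤ → σS} [Decomposition 𝒞S] [SetLike.GradedSMul ℬ 𝒞S]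
  (hCS : GrLC.IsStarCanonical ℬ 𝒞S 𝓔S mS (b + 1 + 1) J)
  {ET : Type u} [AddCommGroup ET] [Module T ET] {τT : Type u} [SetLike τT ET] [AddSubgroupClass τT ET]
  {𝓔T : ℤ → τT} [Decomposition 𝓔T] [SetLike.GradedSMul 𝒯 𝓔T] {eT : (T ⧸ mT.toIdeal) →ₗ[T] ET}
  (heT : GrLC.IsStarInjHull 𝒯 (GrLC.quotGr 𝒯 mT) 𝓔T eT)
  {P : Type u} [AddCommGroup P] [Module T P] [Module k P] [IsScalarTower k T P]
  {τP : Type u} [SetLike τP P] [AddSubgroupClass τP P]
  {𝒬 : ℤ → τP} [Decomposition 𝒬] [SetLike.GradedSMul 𝒯 𝒬]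

include D h0R h0S hr hs heR hCR heS hCS heT in
/-- The Segre product of the *canonical modules is *canonical. -/
theorem Data.isStarCanonical_segre {φ : P →ₗ[k] CR ⊗[k] CS} (hP : GrSeg.IsSegreMod ψ 𝒞R 𝒞S 𝒬 φ) :
    GrLC.IsStarCanonical 𝒯 𝒬 𝓔T mT (a + b + 1 + 2) IT := by
  obtain ⟨_, ΓR, ΓS, ΓT⟩ := D.fieldCtx h0R h0S
  obtain ⟨_, h0T⟩ := D.deg0T h0R h0S
  obtain ⟨βR, hβR⟩ := exists_gdual_canonical ΓR h0R heR hCR
  obtain ⟨βS, hβS⟩ := exists_gdual_canonical ΓS h0S heS hCS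
  obtain ⟨γ, hγ⟩ := exists_gdual_seg D.isSegre (X := GrLC21.Hmod I mR (a + 1 + 1)) (Y := toGMod 𝒜 𝒞R)
    (X' := GrLC21.Hmod J mS (b + 1 + 1)) (Y' := toGMod ℬ 𝒞S)
    (β := { toFun := fun c => βR c, map_add' := fun x y => map_add βR x y,
            map_smul' := fun c (x : CR) => (congrArg βR (algebraMap_smul R c x)).trans (map_smul βR c x) })
    ⟨hβR.map_smul, hβR.vanish, hβR.eq_zero, hβR.exists_eq⟩
    (β' := { toFun := fun c => βS c, map_add' := fun x y => map_add βS x y,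
             map_smul' := fun c (x : CS) => (congrArg βS (algebraMap_smul S c x)).trans (map_smul βS c x) })
    ⟨hβS.map_smul, hβS.vanish, hβS.eq_zero, hβS.exists_eq⟩
    (fun n => finite_Hcomp_piece I mR h0R D.posR D.irrR (a + 1 + 1) n)
    (fun n => finite_Hcomp_piece J mS h0S D.posS D.irrS (b + 1 + 1) n)
  obtain ⟨Φ, hΦ⟩ := D.exists_top_equiv_self h0R h0S hr hs I J IT
  obtain ⟨γ', hγ'⟩ := exists_gdual_congr hγ Φ hΦ
  obtain ⟨C, hC⟩ := ΓT.exists_canonical heT (a + b + 1 + 2) IT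
  obtain ⟨βT, hβT⟩ := exists_gdual_canonical ΓT h0T heT hC
  obtain ⟨e, he, -⟩ := exists_gdual_equiv hβT hγ'
  let κR : CR ≃ₗ[k] (toGMod 𝒜 𝒞R).carrier :=
    { toFun := fun x => x, invFun := fun x => x, left_inv := fun _ => rfl, right_inv := fun _ => rfl,
      map_add' := fun _ _ => rfl, map_smul' := fun c (x : CR) => (algebraMap_smul R c x).symm }
  let κS : CS ≃ₗ[k] (toGMod ℬ 𝒞S).carrier :=
    { toFun := fun x => x, invFun := fun x => x, left_inv := fun _ => rfl, right_inv := fun _ => rfl,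
      map_add' := fun _ _ => rfl, map_smul' := fun c (x : CS) => (algebraMap_smul S c x).symm }
  let κ := TensorProduct.congr κR κS
  have hκact : ∀ w z, κ (GrSeg.act k R S CR CS w z) =
      GrSeg.act k R S (toGMod 𝒜 𝒞R).carrier (toGMod ℬ 𝒞S).carrier w (κ z) := by
    intro w z
    induction w using TensorProduct.induction_on with
    | zero => simp
    | add p q hp hq => simp [hp, hq]
    | tmul r s =>
      induction z using TensorProduct.induction_on with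
      | zero => simp
      | add p q hp hq => simp [hp, hq]
      | tmul x y =>
        rw [GrSeg.act_tmul]
        show κR (r • x) ⊗ₜ[k] κS (s • y) = _
        exact (GrSeg.act_tmul r s (κR x) (κS y)).symm
  have hP' : GrSeg.IsSegreMod ψ (toGMod 𝒜 𝒞R).gr (toGMod ℬ 𝒞S).gr 𝒬 (κ.toLinearMap ∘ₗ φ) := by
    refine ⟨κ.injective.comp hP.injective, fun n => ?_, fun t p => ?_⟩
    · rw [LinearMap.coe_comp, Set.image_comp, hP.image_piece n, GrSeg.segrePiece, GrSeg.segrePiece,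
        ← Submodule.map_coe, Submodule.map_span]
      refine congrArg SetLike.coe (congrArg (Submodule.span k) (Set.ext fun w => ⟨?_, ?_⟩))
      · rintro ⟨_, ⟨x, hx, y, hy, rfl⟩, rfl⟩; exact ⟨x, hx, y, hy, rfl⟩
      · rintro ⟨x, hx, y, hy, rfl⟩; exact ⟨_, ⟨x, hx, y, hy, rfl⟩, rfl⟩
    · show κ (φ (t • p)) = _
      rw [hP.map_smul, hκact]
      rfl
  obtain ⟨ε', hε', -⟩ := exists_segEquiv D.isSegre hP'
  refine isStarCanonical_congr (e.trans ε'.symm) (fun g x hx => ?_) hC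
  exact GrLC21.isGrHom_symm (e := ε') hε' g _ (he g x hx)

end Canon

end Groth.Agent.SegLC
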