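import Groth.Agent.Lib.SegLC.SegDim

/-!
# When is a Segre product of Cohen-Macaulay modules Cohen-Macaulay
-/

universe u

open DirectSum TensorProduct
open Groth.Agent.GrLC21 Groth.Agent.GrSegLib

noncomputable section

set_option linter.unusedSectionVars false

namespace Groth.Agent.SegLC

variable {k : Type u} [Field k]

section One

variable {A : Type u} [CommRing A] [Algebra k A] [IsNoetherianRing A] [Nontrivial A]
  {𝒞 : ℤ → Submodule k A} [GradedAlgebra 𝒞]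
  {L : Type u} [AddCommGroup L] [Module A L] [Module.Finite A L]
  {τl : Type u} [SetLike τl L] [AddSubgroupClass τl L] {ℒ : ℤ → τl} [Decomposition ℒ] [SetLike.GradedSMul 𝒞 ℒ]

theorem finrank_Hcomp_eq_zero_iff (h0 : 𝒞 0 = Submodule.span k {(1 : A)}) (hpos : ∀ n : ℤ, n < 0 → 𝒞 n = ⊥)
    (E : GrLC.StarInjRes 𝒞 ℒ) {a : HomogeneousIdeal 𝒞}
    (ha : a.toIdeal = Ideal.span (⋃ n ∈ Set.Ioi (0 : ℤ), (𝒞 n : Set A))) (i : ℕ) (g : ℤ) :
    Module.finrank (GrLC.deg0 𝒞) (E.Hcomp a i g) = 0 ↔ E.Hcomp a i g = ⊥ := by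
  have hfin := finite_Hcomp_piece E a h0 hpos ha i g
  obtain ⟨j, -⟩ := hcomp_piece E a i g
  rw [finrank_Hcomp_eq E a h0, Module.finrank_zero_iff, j.toEquiv.subsingleton_congr]
  exact Submodule.subsingleton_iff_eq_bot

theorem finrank_comp_eq_zero_iff (h0 : 𝒞 0 = Submodule.span k {(1 : A)}) (ℒ : ℤ → τl) [Decomposition ℒ]
    [SetLike.GradedSMul 𝒞 ℒ] (g : ℤ) :
    Module.finrank (GrLC.deg0 𝒞) (GrLC.comp 𝒞 ℒ g) = 0 ↔ ∀ x ∈ ℒ g, x = 0 := by
  have hfin := finite_piece ℒ h0 g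
  rw [finrank_comp_eq ℒ h0, Module.finrank_zero_iff]
  exact ⟨fun h x hx => congrArg Subtype.val
      (h.elim (⟨x, hx⟩ : pieceK (toGMod 𝒞 ℒ) g) ⟨0, zero_mem _⟩),
    fun h => ⟨fun x y => Subtype.ext ((h x.1 x.2).trans (h y.1 y.2).symm)⟩⟩

theorem van_iff_finrank (h0 : 𝒞 0 = Submodule.span k {(1 : A)}) (hpos : ∀ n : ℤ, n < 0 → 𝒞 n = ⊥)
    (E : GrLC.StarInjRes 𝒞 ℒ) {a : HomogeneousIdeal 𝒞}
    (ha : a.toIdeal = Ideal.span (⋃ n ∈ Set.Ioi (0 : ℤ), (𝒞 n : Set A))) (i : ℕ) (g : ℤ) :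
    Van a i g (toGMod 𝒞 ℒ) ↔ Module.finrank (GrLC.deg0 𝒞) (E.Hcomp a i g) = 0 :=
  (Hcomp_eq_bot_iff_van E).symm.trans (finrank_Hcomp_eq_zero_iff h0 hpos E ha i g).symm

theorem cm_iff_finrank (h0 : 𝒞 0 = Submodule.span k {(1 : A)}) (hpos : ∀ n : ℤ, n < 0 → 𝒞 n = ⊥)
    (E : GrLC.StarInjRes 𝒞 ℒ) {a : HomogeneousIdeal 𝒞}
    (ha : a.toIdeal = Ideal.span (⋃ n ∈ Set.Ioi (0 : ℤ), (𝒞 n : Set A))) {d : ℕ}
    (hd : Module.supportDim A L = d) :
    (∀ (q : Ideal A) [q.IsPrime], Subsingleton (LocalizedModule q.primeCompl L) ∨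
      LocCoh.IsCohenMacaulayModule (Localization.AtPrime q) (LocalizedModule q.primeCompl L)) ↔
    ∀ i : ℕ, i ≠ d → ∀ g, Module.finrank (GrLC.deg0 𝒞) (E.Hcomp a i g) = 0 :=
  (GrLC21.cm_iff_van (posA hpos) (isStarLocal_plus hpos h0 ha) ℒ hd).trans
    (forall₂_congr fun i _ => forall_congr' fun g => van_iff_finrank h0 hpos E ha i g)

end One

variable {R : Type u} [CommRing R] [Algebra k R] [Algebra.FiniteType k R] [Nontrivial R]
  {𝒜 : ℤ → Submodule k R} [GradedAlgebra 𝒜]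
  {S : Type u} [CommRing S] [Algebra k S] [Algebra.FiniteType k S] [Nontrivial S]
  {ℬ : ℤ → Submodule k S} [GradedAlgebra ℬ]
  {T : Type u} [CommRing T] [Algebra k T] {𝒯 : ℤ → Submodule k T} [GradedAlgebra 𝒯]
  {ψ : T →ₐ[k] R ⊗[k] S}
  {mR : HomogeneousIdeal 𝒜} {mS : HomogeneousIdeal ℬ} {mT : HomogeneousIdeal 𝒯}
  (D : Data 𝒜 ℬ 𝒯 ψ mR mS mT)
  (h0R : 𝒜 0 = Submodule.span k {(1 : R)}) (h0S : ℬ 0 = Submodule.span k {(1 : S)})
  {M N P : Type u} [AddCommGroup M] [Module R M] [Module k M] [IsScalarTower k R M] [Module.Finite R M]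
  [AddCommGroup N] [Module S N] [Module k N] [IsScalarTower k S N] [Module.Finite S N]
  [AddCommGroup P] [Module T P] [Module k P] [IsScalarTower k T P]
  {τ τ' τ'' : Type u} [SetLike τ M] [AddSubgroupClass τ M] [SetLike τ' N] [AddSubgroupClass τ' N]
  [SetLike τ'' P] [AddSubgroupClass τ'' P]
  {ℳ : ℤ → τ} [Decomposition ℳ] [SetLike.GradedSMul 𝒜 ℳ]
  {𝒩 : ℤ → τ'} [Decomposition 𝒩] [SetLike.GradedSMul ℬ 𝒩]
  {𝒬 : ℤ → τ''} [Decomposition 𝒬]
  (EM : GrLC.StarInjRes 𝒜 ℳ) (EN : GrLC.StarInjRes ℬ 𝒩)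
  {φ : P →ₗ[k] M ⊗[k] N} (hP : GrSeg.IsSegreMod ψ ℳ 𝒩 𝒬 φ)
  {r s : ℕ} (h1r : 1 ≤ r) (h1s : 1 ≤ s)
  (hdM : Module.supportDim R M = r) (hdN : Module.supportDim S N = s)
  (hMcm : ∀ (q : Ideal R) [q.IsPrime], Subsingleton (LocalizedModule q.primeCompl M) ∨
    LocCoh.IsCohenMacaulayModule (Localization.AtPrime q) (LocalizedModule q.primeCompl M))
  (hNcm : ∀ (q : Ideal S) [q.IsPrime], Subsingleton (LocalizedModule q.primeCompl N) ∨
    LocCoh.IsCohenMacaulayModule (Localization.AtPrime q) (LocalizedModule q.primeCompl N))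

include D h0R h0S hdM hdN hMcm hNcm h1r h1s hP in
/-- Local cohomology of the Segre product outside the top degree. -/
theorem Data.finrank_segre [IsNoetherianRing T] [SetLike.GradedSMul 𝒯 𝒬] (EP : GrLC.StarInjRes 𝒯 𝒬) {q : ℕ}
    (hq : q ≠ r + s - 1) (d : ℤ) :
    Module.finrank (GrLC.deg0 𝒯) (EP.Hcomp mT q d) =
      (if q = s then Module.finrank (GrLC.deg0 𝒜) (GrLC.comp 𝒜 ℳ d) *
        Module.finrank (GrLC.deg0 ℬ) (EN.Hcomp mS s d) else 0) +
      (if q = r then Module.finrank (GrLC.deg0 𝒜) (EM.Hcomp mR r d) *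
        Module.finrank (GrLC.deg0 ℬ) (GrLC.comp ℬ 𝒩 d) else 0) := by
  have : IsNoetherianRing R := Algebra.FiniteType.isNoetherianRing k R
  have : IsNoetherianRing S := Algebra.FiniteType.isNoetherianRing k S
  have hzR : ∀ i, i ≠ r → Module.finrank (GrLC.deg0 𝒜) (EM.Hcomp mR i d) = 0 := fun i hi =>
    (cm_iff_finrank h0R D.posR EM D.irrR hdM).1 hMcm i hi d
  have hzS : ∀ i, i ≠ s → Module.finrank (GrLC.deg0 ℬ) (EN.Hcomp mS i d) = 0 := fun i hi =>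
    (cm_iff_finrank h0S D.posS EN D.irrS hdN).1 hNcm i hi d
  rw [D.finrank_formula h0R h0S EM EN EP
    (fun g => (finrank_Hcomp_eq_zero_iff h0R D.posR EM D.irrR 0 g).1
      ((cm_iff_finrank h0R D.posR EM D.irrR hdM).1 hMcm 0 (by omega) g))
    (fun g => (finrank_Hcomp_eq_zero_iff h0S D.posS EN D.irrS 0 g).1
      ((cm_iff_finrank h0S D.posS EN D.irrS hdN).1 hNcm 0 (by omega) g)) hP q d,
    Finset.sum_eq_zero fun i hi => ?_, add_zero]
  · congr 1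
    · split_ifs with h
      · rw [h]
      · rw [hzS q h, mul_zero]
    · split_ifs with h
      · rw [h]
      · rw [hzR q h, zero_mul]
  · rw [Finset.mem_range] at hi
    rcases eq_or_ne i r with rfl | hir
    · rw [hzS (q + 1 - i) (by omega), mul_zero]
    · rw [hzR i hir, zero_mul]

include D h0R h0S EM EN hdM hdN hMcm hNcm h1r h1s hP in
/-- The Cohen-Macaulay criterion for Segre products of modules. -/
theorem Data.cm_segre_iff [Nontrivial P] :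
    (∀ (q : Ideal T) [q.IsPrime], Subsingleton (LocalizedModule q.primeCompl P) ∨
      LocCoh.IsCohenMacaulayModule (Localization.AtPrime q) (LocalizedModule q.primeCompl P)) ↔
    (2 ≤ r → ∀ d, (∀ x ∈ ℳ d, x = 0) ∨ EN.Hcomp mS s d = ⊥) ∧
      (2 ≤ s → ∀ d, EM.Hcomp mR r d = ⊥ ∨ ∀ y ∈ 𝒩 d, y = 0) := by
  obtain ⟨_, _, _⟩ := segre_module_facts D.isSegre hP
  have : IsNoetherianRing R := Algebra.FiniteType.isNoetherianRing k R
  have : IsNoetherianRing S := Algebra.FiniteType.isNoetherianRing k S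
  obtain ⟨g, x, hx, hx0, y, hy, hy0⟩ := exists_pair_of_nontrivial hP
  have hdP : Module.supportDim T P = ((r + s - 1 : ℕ) : WithBot ℕ∞) :=
    le_antisymm (supportDim_segre_le D.isSegre D.posR h0R D.posS h0S hP hdM hdN h1r h1s)
      (le_supportDim_segre D.isSegre D.posR h0R D.posS h0S hP hx hy
        ((ringKrullDim_annihilator_of_cm D.posR h0R hMcm hx hx0).trans hdM)
        ((ringKrullDim_annihilator_of_cm D.posS h0S hNcm hy hy0).trans hdN) h1r h1s)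
  obtain ⟨_, h0T⟩ := D.deg0T h0R h0S
  have hposT : ∀ n : ℤ, n < 0 → 𝒯 n = ⊥ := fun n hn => by
    refine (Submodule.eq_bot_iff _).2 fun t ht => D.isSegre.1 ?_
    have h : ψ t ∈ GrSeg.segrePiece k 𝒜 ℬ n := (D.isSegre.2 n).le ⟨t, ht, rfl⟩
    have hbot : GrSeg.segrePiece k 𝒜 ℬ n ≤ ⊥ := Submodule.span_le.2 fun z ⟨a, ha, b, hb, e⟩ => by
      subst e
      rw [D.posR n hn, Submodule.mem_bot] at ha
      simp [ha]
    rw [map_zero]
    exact (Submodule.mem_bot k).1 (hbot h)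
  obtain ⟨EP⟩ := nonempty_res (𝒜 := 𝒯) 𝒬
  rw [cm_iff_finrank h0T hposT EP D.irrT hdP]
  have hform := fun (i : ℕ) (hi : i ≠ r + s - 1) (d : ℤ) =>
    D.finrank_segre h0R h0S EM EN hP h1r h1s hdM hdN hMcm hNcm EP hi d
  constructor
  · intro h
    refine ⟨fun h2 d => ?_, fun h2 d => ?_⟩
    · have h3 := h s (by omega) d
      rw [hform s (by omega) d, if_pos rfl, Nat.add_eq_zero_iff, mul_eq_zero,
        finrank_comp_eq_zero_iff h0R, finrank_Hcomp_eq_zero_iff h0S D.posS EN D.irrS] at h3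
      exact h3.1
    · have h3 := h r (by omega) d
      rw [hform r (by omega) d, Nat.add_eq_zero_iff, if_pos rfl, mul_eq_zero,
        finrank_comp_eq_zero_iff h0S, finrank_Hcomp_eq_zero_iff h0R D.posR EM D.irrR] at h3
      exact h3.2
  · rintro ⟨hA, hB⟩ i hi d
    rw [hform i hi d, Nat.add_eq_zero_iff]
    constructor
    · split_ifs with h
      · rw [mul_eq_zero, finrank_comp_eq_zero_iff h0R, finrank_Hcomp_eq_zero_iff h0S D.posS EN D.irrS]
        exact hA (by omega) d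
      · rfl
    · split_ifs with h
      · rw [mul_eq_zero, finrank_comp_eq_zero_iff h0S, finrank_Hcomp_eq_zero_iff h0R D.posR EM D.irrR]
        exact hB (by omega) d
      · rfl

end Groth.Agent.SegLC
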