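import Groth.Agent.Lib.SegLC.SegCM
import Groth.Agent.Lib.GrLC21.EndDeg
import Groth.Agent.Lib.GrLC21.StarCM
import Groth.Agent.Lib.GrLC21.Finite
import Groth.Agent.Lib.GrSeg.NoetherNorm
import Mathlib.Algebra.Polynomial.AlgebraMap
import Mathlib.RingTheory.PrincipalIdealDomain

/-!
# One-dimensional standard graded Cohen-Macaulay algebras and the a-invariant
-/

universe u

open DirectSum TensorProduct
open Groth.Agent.GrLC21 Groth.Agent.GrSegLib

noncomputable section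

set_option linter.unusedSectionVars false

namespace Groth.Agent.SegLC

variable {k : Type u} [Field k] {R : Type u} [CommRing R] [Algebra k R] [IsNoetherianRing R] [Nontrivial R]
  {𝒜 : ℤ → Submodule k R} [GradedAlgebra 𝒜]
  (hpos : ∀ n : ℤ, n < 0 → 𝒜 n = ⊥) (h0 : 𝒜 0 = Submodule.span k {(1 : R)})

theorem endDeg_neg_iff {L : Type u} [AddCommGroup L] [Module R L] {τl : Type u} [SetLike τl L]
    [AddSubgroupClass τl L] {ℒ : ℤ → τl} [Decomposition ℒ] [SetLike.GradedSMul 𝒜 ℒ]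
    (E : GrLC.StarInjRes 𝒜 ℒ) (a : HomogeneousIdeal 𝒜) (i : ℕ) :
    GrLC.endDeg (E.Hgr a i) < 0 ↔ ∀ n : ℤ, 0 ≤ n → E.Hcomp a i n = ⊥ := by
  have key : ∀ y : WithBot (WithTop ℤ), y < 0 ↔ y ≤ (((-1 : ℤ) : WithTop ℤ) : WithBot (WithTop ℤ)) := fun y => by
    cases y with
    | bot => simp
    | coe y =>
      cases y with
      | top =>
        rw [← WithBot.coe_zero, WithBot.coe_lt_coe, WithBot.coe_le_coe]
        simp
      | coe a =>
        rw [← WithBot.coe_zero, ← WithTop.coe_zero, WithBot.coe_lt_coe, WithTop.coe_lt_coe, WithBot.coe_le_coe,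
          WithTop.coe_le_coe]
        omega
  rw [key, GrLC21.endDeg_le_iff_van]
  exact forall_congr' fun n => imp_congr (by omega) (Hcomp_eq_bot_iff_van E).symm

include hpos h0 in
theorem exists_linear_not_nilpotent
    (hstd : Ideal.span (⋃ n ∈ Set.Ioi (0 : ℤ), (𝒜 n : Set R)) = Ideal.span ((𝒜 1 : Submodule k R) : Set R))
    (hdim : 1 ≤ ringKrullDim R) : ∃ y ∈ 𝒜 1, ∀ j : ℕ, y ^ j ≠ 0 := by
  by_contra hall
  push Not at hall
  have hle : ∀ P : Ideal R, P.IsPrime → (irr 𝒜).toIdeal ≤ P := fun P hP => by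
    rw [irr_toIdeal, hstd, Ideal.span_le]
    intro y hy
    obtain ⟨j, hj⟩ := hall y hy
    exact hP.mem_of_pow_mem j (by rw [hj]; exact P.zero_mem)
  have hmax := GrLC21.isMaximal_starMax (posA hpos) (isStarLocal_plus hpos h0 (m := irr 𝒜) rfl).1
  have : Ring.KrullDimLE 0 R := Ring.KrullDimLE.mk₀ fun P hP => hmax.eq_of_le hP.ne_top (hle P hP) ▸ hmax
  have h : ringKrullDim R ≤ ((0 : ℕ) : WithBot ℕ∞) := Ring.krullDimLE_iff.1 this
  have h2 := hdim.trans h
  exact absurd h2 (by norm_num)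

include hpos h0 in
/-- A standard graded algebra of positive dimension has pieces in every non-negative degree. -/
theorem exists_piece_ne_zero
    (hstd : Ideal.span (⋃ n ∈ Set.Ioi (0 : ℤ), (𝒜 n : Set R)) = Ideal.span ((𝒜 1 : Submodule k R) : Set R))
    (hdim : 1 ≤ ringKrullDim R) {n : ℤ} (hn : 0 ≤ n) : ¬ ∀ x ∈ 𝒜 n, x = 0 := by
  obtain ⟨j, rfl⟩ := Int.eq_ofNat_of_zero_le hn
  obtain ⟨y, hy, hy0⟩ := exists_linear_not_nilpotent hpos h0 hstd hdim
  intro h
  refine hy0 j (h _ ?_)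
  have := SetLike.pow_mem_graded j hy
  rwa [show j • (1 : ℤ) = (j : ℤ) by simp] at this

theorem piece_eq_span_pow (h0 : 𝒜 0 = Submodule.span k {(1 : R)})
    (hstd : Ideal.span (⋃ n ∈ Set.Ioi (0 : ℤ), (𝒜 n : Set R)) = Ideal.span ((𝒜 1 : Submodule k R) : Set R))
    {u : R} (hu : 𝒜 1 ≤ Submodule.span k {u}) (j : ℕ) : 𝒜 (j : ℤ) ≤ Submodule.span k {u ^ j} := by
  induction j with
  | zero => simpa using h0.le
  | succ j ih =>
    rw [Nat.cast_succ]
    refine (GrSegLib.piece_succ_le 𝒜 hstd (by omega)).trans (Submodule.span_le.2 ?_)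
    rintro _ ⟨a, ha, b, hb, rfl⟩
    obtain ⟨c, rfl⟩ := Submodule.mem_span_singleton.1 (hu ha)
    obtain ⟨d, rfl⟩ := Submodule.mem_span_singleton.1 (ih hb)
    exact Submodule.mem_span_singleton.2 ⟨c * d, by rw [smul_mul_smul_comm, pow_succ']⟩

include hpos h0 in
/-- A one-dimensional Cohen-Macaulay algebra has homogeneous regular elements of positive degree, with finite
length quotients. -/
theorem exists_regular_homogeneous [Algebra.FiniteType k R] [LocCoh.IsCohenMacaulayRing R]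
    (hdim : ringKrullDim R = 1) :
    ∃ e : ℕ, 0 < e ∧ ∃ z ∈ 𝒜 (e : ℤ), IsSMulRegular R z ∧ (irr 𝒜).toIdeal ≤ (Ideal.span {z}).radical := by
  classical
  have hm := isStarLocal_plus hpos h0 (m := irr 𝒜) rfl
  have hmax := GrLC21.isMaximal_starMax (posA hpos) hm.1
  have hht : (irr 𝒜).toIdeal.height = 1 := by
    have h := GrLC21.ringKrullDim_eq_height (posA hpos) hm
    rw [hdim] at h
    exact_mod_cast h.symm
  let s : Finset (Ideal R) := (minimalPrimes.finite_of_isNoetherianRing R).toFinset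
  have hs : ∀ P ∈ s, P.IsPrime ∧ P.IsHomogeneous 𝒜 ∧ ¬ plus 𝒜 ≤ P := fun P hP => by
    rw [Set.Finite.mem_toFinset] at hP
    refine ⟨hP.1.1, minimalPrimes_isHomogeneous 𝒜 (Ideal.IsHomogeneous.bot 𝒜) hP, fun hle => ?_⟩
    obtain rfl : (irr 𝒜).toIdeal = P := hmax.eq_of_le hP.1.1.ne_top hle
    have := hP.1.1
    have h := (Ideal.height_eq_zero_iff (I := (irr 𝒜).toIdeal)).2 hP
    rw [hht] at h
    simp at h
  have hanti : IsAntichain (· ≤ ·) (s : Set (Ideal R)) := fun P hP Q hQ hne hle => by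
    rw [Set.Finite.coe_toFinset] at hP hQ
    exact hne (le_antisymm hle (hQ.2 hP.1 hle))
  obtain ⟨e, he, z, hz, -, hzP⟩ := exists_pos_notMem_all 𝒜 s hs hanti
  refine ⟨e, he, z, hz, ?_, ?_⟩
  · refine isSMulRegular_iff_right_eq_zero_of_smul.2 fun x hx => GrLC21.eq_zero_of_proj 𝒜 fun g => ?_
    by_contra hg
    set x' := GrLC21.proj 𝒜 g x
    have hzx : z • x' = 0 := by
      have h := GrLC21.proj_smul 𝒜 𝒜 hz (e + g) x
      rwa [hx, map_zero, add_sub_cancel_left, eq_comm] at h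
    have hd := ringKrullDim_annihilator_of_cm hpos h0 ((GrLC21.isCohenMacaulayRing_iff R).1 inferInstance)
      (GrLC21.proj_mem 𝒜 g x) hg
    rw [Module.supportDim_self_eq_ringKrullDim, hdim, ringKrullDim_quotient] at hd
    obtain ⟨l, hl⟩ : ∃ l : LTSeries (PrimeSpectrum.zeroLocus ((R ∙ x').annihilator : Set R)), l.length = 1 :=
      Order.le_krullDim_iff.1 (by rw [hd]; rfl)
    have hmin : l.head.1.asIdeal ∈ minimalPrimes R := by
      by_contra hmin
      obtain ⟨Q, hQ, hQle⟩ := Ideal.exists_minimalPrimes_le (I := (⊥ : Ideal R)) (J := l.head.1.asIdeal) bot_le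
      have hlt : (⟨Q, hQ.1.1⟩ : PrimeSpectrum R) < (l.map Subtype.val fun _ _ h => h).head :=
        lt_of_le_of_ne hQle fun heq => hmin ((congrArg PrimeSpectrum.asIdeal heq) ▸ hQ)
      have h2 := Order.LTSeries.length_le_krullDim ((l.map Subtype.val fun _ _ h => h).cons _ hlt)
      rw [← ringKrullDim, hdim] at h2
      have hlen : ((l.map Subtype.val fun _ _ h => h).cons _ hlt).length = 2 := by
        rw [RelSeries.cons_length]
        exact congrArg (· + 1) hl
      rw [hlen] at h2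
      exact absurd h2 (by norm_num)
    exact hzP _ ((Set.Finite.mem_toFinset _).2 hmin)
      (l.head.2 ((Submodule.mem_annihilator_span_singleton x' z).2 hzx))
  · rw [Ideal.radical_eq_sInf]
    refine le_sInf fun Q ⟨hQz, hQ⟩ => ?_
    have hcore : z ∈ core 𝒜 Q :=
      Ideal.mem_homogeneousCore_of_homogeneous_of_mem ⟨(e : ℤ), hz⟩ (hQz (Ideal.mem_span_singleton_self z))
    have hcp := isPrime_core (𝒜 := 𝒜) Q
    have hle : core 𝒜 Q ≤ (irr 𝒜).toIdeal := GrLC21.le_of_isStarLocal hm (isHomogeneous_core Q) hcp.ne_top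
    rcases hle.eq_or_lt with h | h
    · exact h.ge.trans (core_le Q)
    · exfalso
      have h1 := Ideal.height_add_one_le_of_lt_of_isPrime h
      rw [hht] at h1
      have h2 : (core 𝒜 Q).height = 0 := by
        rcases eq_or_ne (core 𝒜 Q).height 0 with h0' | h0'
        · exact h0'
        · exact absurd (le_trans (add_le_add (Order.one_le_iff_pos.2 (pos_iff_ne_zero.2 h0')) le_rfl) h1) (by norm_num)
      rw [Ideal.height_eq_zero_iff] at h2
      exact hzP _ ((Set.Finite.mem_toFinset _).2 h2) hcore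

include hpos h0 in
theorem exists_mul_of_van [Algebra.FiniteType k R] [LocCoh.IsCohenMacaulayRing R] (hdim : ringKrullDim R = 1)
    (hvan : ∀ n : ℤ, 0 ≤ n → Van (irr 𝒜) 1 n (toGMod 𝒜 𝒜)) {e : ℤ} {z : R} (hz : z ∈ 𝒜 e)
    (hreg : IsSMulRegular R z) (hrad : (irr 𝒜).toIdeal ≤ (Ideal.span {z}).radical) {n : ℤ} (hn : e ≤ n)
    {w : R} (hw : w ∈ 𝒜 n) : ∃ v ∈ 𝒜 (n - e), w = z * v := by
  let X : GrLC.GMod.{u} 𝒜 := toGMod 𝒜 𝒜
  have hf := smulMap_grHom X (k := e) hz
  let S := smulSeq (X := X) hz hreg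
  have hm := isStarLocal_plus hpos h0 (m := irr 𝒜) rfl
  have hV0 : Van (irr 𝒜) 0 n X := GrLC21.van_self_of_ne (posA hpos) hm (d := 1) (by simpa using hdim) (by omega) n
  have hC := Van.right S hV0 ((van_shift_iff e).2 (hvan _ (by omega)))
  obtain ⟨N, hN⟩ := Ideal.exists_pow_le_of_le_radical_of_fg hrad (IsNoetherian.noetherian _)
  let w' : X.carrier := w
  have hzero : S.g w' = 0 := by
    refine Van.zero_iff.1 hC _ (S.g_grHom n w' hw) ⟨N, fun r hr => ?_⟩
    obtain ⟨c, rfl⟩ := Ideal.mem_span_singleton'.1 (hN hr)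
    refine (map_smul S.g (c * z) w').symm.trans ((Submodule.Quotient.mk_eq_zero _).2 ⟨toShift X e (c • w'), ?_⟩)
    show z • (c * w) = (c * z) * w
    rw [smul_eq_mul]
    ring
  obtain ⟨v, hv⟩ := (Submodule.Quotient.mk_eq_zero _).1 hzero
  obtain ⟨v', hv', e'⟩ := exists_homogeneous_preimage hf (show w ∈ X.gr n from hw) ⟨v, hv⟩
  exact ⟨ofShift X e v', hv', e'.symm⟩

include hpos h0 in
/-- One-dimensional standard graded Cohen-Macaulay algebras of negative a-invariant are polynomial rings. -/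
theorem nonempty_algEquiv_of_van [Algebra.FiniteType k R] [LocCoh.IsCohenMacaulayRing R]
    (hstd : Ideal.span (⋃ n ∈ Set.Ioi (0 : ℤ), (𝒜 n : Set R)) = Ideal.span ((𝒜 1 : Submodule k R) : Set R))
    (hdim : ringKrullDim R = 1) (hvan : ∀ n : ℤ, 0 ≤ n → Van (irr 𝒜) 1 n (toGMod 𝒜 𝒜)) :
    Nonempty (R ≃ₐ[k] Polynomial k) := by
  obtain ⟨e, he, z, hz, hreg, hrad⟩ := exists_regular_homogeneous hpos h0 hdim
  obtain ⟨j, rfl⟩ : ∃ j : ℕ, e = j + 1 := ⟨e - 1, by omega⟩
  have hz0 : z ≠ 0 := fun h => one_ne_zero (hreg (show z • (1 : R) = z • (0 : R) by simp [h]))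
  have htop : 𝒜 ((j + 1 : ℕ) : ℤ) ≤ Submodule.span k {z} := fun w hw => by
    obtain ⟨v, hv, rfl⟩ := exists_mul_of_van hpos h0 hdim hvan hz hreg hrad le_rfl hw
    rw [sub_self, h0] at hv
    obtain ⟨c, rfl⟩ := Submodule.mem_span_singleton.1 hv
    exact Submodule.mem_span_singleton.2 ⟨c, by rw [mul_smul_comm, mul_one]⟩
  obtain ⟨u, hu, v, hv, huv⟩ : ∃ u ∈ 𝒜 1, ∃ v ∈ 𝒜 (j : ℤ), u * v ≠ 0 := by
    by_contra h
    push Not at h
    refine hz0 ((Submodule.mem_bot k).1 ?_)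
    refine (Submodule.span_le.2 ?_) (GrSegLib.piece_succ_le 𝒜 hstd (n := (j : ℤ)) (by omega)
      (show z ∈ 𝒜 ((j : ℤ) + 1) by simpa using hz))
    rintro _ ⟨a, ha, b, hb, rfl⟩
    simp [h a ha b hb]
  have hmem : u * v ∈ 𝒜 ((j + 1 : ℕ) : ℤ) := by
    have := SetLike.mul_mem_graded hu hv
    rwa [show (1 : ℤ) + j = ((j + 1 : ℕ) : ℤ) by push_cast; ring] at this
  obtain ⟨c, hc⟩ := Submodule.mem_span_singleton.1 (htop hmem)
  have hc0 : c ≠ 0 := fun h => huv (by rw [← hc, h, zero_smul])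
  have hzu : z = u * (c⁻¹ • v) := by rw [mul_smul_comm, ← hc, smul_smul, inv_mul_cancel₀ hc0, one_smul]
  have hureg : IsSMulRegular R u := isSMulRegular_iff_right_eq_zero_of_smul.2 fun x hx =>
    (isSMulRegular_iff_right_eq_zero_of_smul.1 hreg) x (by
      rw [smul_eq_mul] at hx ⊢
      rw [hzu, mul_comm u, mul_assoc, hx, mul_zero])
  have hurad : (irr 𝒜).toIdeal ≤ (Ideal.span {u}).radical :=
    hrad.trans (Ideal.radical_mono (Ideal.span_singleton_le_span_singleton.2 ⟨_, hzu⟩))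
  have hR1 : 𝒜 1 ≤ Submodule.span k {u} := fun w hw => by
    obtain ⟨v', hv', rfl⟩ := exists_mul_of_van hpos h0 hdim hvan hu hureg hurad le_rfl hw
    rw [sub_self, h0] at hv'
    obtain ⟨c', rfl⟩ := Submodule.mem_span_singleton.1 hv'
    exact Submodule.mem_span_singleton.2 ⟨c', by rw [mul_smul_comm, mul_one]⟩
  have hpow : ∀ i : ℕ, u ^ i ≠ 0 := fun i h =>
    one_ne_zero ((hureg.pow i) (show u ^ i • (1 : R) = u ^ i • (0 : R) by simp [h]))
  refine ⟨(AlgEquiv.ofBijective (Polynomial.aeval (R := k) u) ⟨?_, fun x => ?_⟩).symm⟩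
  · rw [injective_iff_map_eq_zero]
    intro p hp
    ext i
    have h := congrArg (GrLC21.proj 𝒜 (i : ℤ)) hp
    rw [map_zero, Polynomial.aeval_eq_sum_range' (n := max (p.natDegree + 1) (i + 1)) (by omega), map_sum,
      Finset.sum_eq_single i] at h
    · rw [GrLC21.proj_of_mem 𝒜 (Submodule.smul_mem _ _ (by simpa using SetLike.pow_mem_graded i hu))] at h
      rw [Polynomial.coeff_zero]
      exact (smul_eq_zero.1 h).resolve_right (hpow i)
    · intro l _ hl
      exact GrLC21.proj_of_mem_ne 𝒜 (g := (i : ℤ)) (h := (l : ℤ))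
        (Submodule.smul_mem _ _ (by simpa using SetLike.pow_mem_graded l hu)) (by simpa using hl)
    · intro hi
      simp at hi
  · classical
    have hx : x ∈ (Polynomial.aeval (R := k) u).range := by
      rw [← DirectSum.sum_support_decompose 𝒜 x]
      refine Subalgebra.sum_mem _ fun n _ => ?_
      by_cases hn : n < 0
      · have hmem : (DirectSum.decompose 𝒜 x n : R) = 0 := posA hpos n hn _ (DirectSum.decompose 𝒜 x n).2
        rw [hmem]
        exact Subalgebra.zero_mem _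
      · obtain ⟨i, rfl⟩ := Int.eq_ofNat_of_zero_le (not_lt.1 hn)
        obtain ⟨d, hd⟩ := Submodule.mem_span_singleton.1 (piece_eq_span_pow h0 hstd hR1 i (DirectSum.decompose 𝒜 x i).2)
        exact ⟨Polynomial.C d * Polynomial.X ^ i, by
          rw [← hd]
          simp [Algebra.smul_def]⟩
    exact hx

include hpos h0 in
/-- The a-invariant of a polynomial ring in one variable is negative. -/
theorem van_of_algEquiv
    (hstd : Ideal.span (⋃ n ∈ Set.Ioi (0 : ℤ), (𝒜 n : Set R)) = Ideal.span ((𝒜 1 : Submodule k R) : Set R))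
    (hdim : 1 ≤ ringKrullDim R) (e : R ≃ₐ[k] Polynomial k) (n : ℤ) (hn : 0 ≤ n) :
    Van (irr 𝒜) 1 n (toGMod 𝒜 𝒜) := by
  have hdom : IsDomain R := e.injective.isDomain e.toRingEquiv.toRingHom
  have : IsPrincipalIdealRing R := IsPrincipalIdealRing.of_surjective e.symm.toRingEquiv.toRingHom e.symm.surjective
  obtain ⟨y, hy, hy0⟩ := exists_linear_not_nilpotent hpos h0 hstd hdim
  obtain ⟨p, hp⟩ := (IsPrincipalIdealRing.principal (irr 𝒜).toIdeal).principal
  have hlin : ∀ w ∈ 𝒜 1, ∃ c : k, w = c • GrLC21.proj 𝒜 1 p := fun w hw => by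
    have hwm : w ∈ Submodule.span R {p} := hp ▸ Ideal.subset_span
      (Set.mem_biUnion (show (1 : ℤ) ∈ Set.Ioi (0 : ℤ) from Set.mem_Ioi.2 one_pos) hw)
    obtain ⟨r, hr⟩ := Submodule.mem_span_singleton.1 hwm
    have hpm : p ∈ (irr 𝒜).toIdeal := hp ▸ Submodule.mem_span_singleton_self p
    have hp0 : GrLC21.proj 𝒜 0 p = 0 := GrLC21.proj_eq_zero_of_mem_pos (posA hpos) rfl hpm le_rfl
    have key : ∀ r : R, GrLC21.proj 𝒜 1 (r * p) = GrLC21.proj 𝒜 0 r * GrLC21.proj 𝒜 1 p := fun r => by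
      refine GrLC21.spans_induction (GrLC21.spans_of_decomposition 𝒜) r (by simp)
        (fun a b ha hb => by rw [add_mul, map_add, ha, hb, map_add, add_mul]) fun g a ha => ?_
      have h := GrLC21.proj_smul 𝒜 𝒜 ha (1 : ℤ) p
      simp only [smul_eq_mul] at h
      rw [h]
      rcases lt_trichotomy g 0 with hg | rfl | hg
      · rw [posA hpos g hg a ha]; simp
      · rw [GrLC21.proj_of_mem 𝒜 ha, sub_zero]
      · rw [GrLC21.proj_of_mem_ne 𝒜 ha hg.ne', zero_mul]
        rcases eq_or_lt_of_le (show 1 ≤ g from hg) with rfl | hg1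
        · rw [sub_self, hp0, mul_zero]
        · rw [posA hpos (1 - g) (by omega) _ (GrLC21.proj_mem 𝒜 _ p), mul_zero]
    obtain ⟨c, hc⟩ := Submodule.mem_span_singleton.1 (h0.le (GrLC21.proj_mem 𝒜 0 r))
    refine ⟨c, ?_⟩
    rw [← GrLC21.proj_of_mem 𝒜 hw, ← hr, smul_eq_mul, key, ← hc, smul_mul_assoc, one_mul]
  set q := GrLC21.proj 𝒜 1 p
  have hq : q ∈ 𝒜 1 := GrLC21.proj_mem 𝒜 1 p
  have hq0 : q ≠ 0 := fun h => by
    obtain ⟨c, hc⟩ := hlin y hy
    exact hy0 1 (by rw [pow_one, hc, h, smul_zero])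
  have hspan : 𝒜 1 ≤ Submodule.span k {q} := fun w hw => by
    obtain ⟨c, hc⟩ := hlin w hw
    exact Submodule.mem_span_singleton.2 ⟨c, hc.symm⟩
  have hreg : IsSMulRegular R q := isSMulRegular_iff_right_eq_zero_of_smul.2 fun x hx =>
    (mul_eq_zero.1 hx).resolve_left hq0
  let X : GrLC.GMod.{u} 𝒜 := toGMod 𝒜 𝒜
  let S := smulSeq (X := X) hq hreg
  have hC : ∀ g : ℤ, 1 ≤ g → Van (irr 𝒜) 0 g (quot X _ (isHomogeneous_range (spans_of_decomposition _) (smulMap_grHom X hq))) := by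
    intro g hg
    refine Van.zero_iff.2 fun c hc _ => ?_
    obtain ⟨w, hw, rfl⟩ := exists_homogeneous_preimage S.g_grHom hc (S.g_surj c)
    obtain ⟨i, rfl⟩ : ∃ i : ℕ, g = (i : ℤ) + 1 := ⟨(g - 1).toNat, by omega⟩
    obtain ⟨d, hd⟩ := Submodule.mem_span_singleton.1 (piece_eq_span_pow h0 hstd hspan (i + 1)
      (show w ∈ 𝒜 ((i + 1 : ℕ) : ℤ) by push_cast; exact hw))
    refine (Submodule.Quotient.mk_eq_zero _).2 ⟨toShift X 1 ((d • q ^ i : R) : X.carrier), ?_⟩
    show q • (d • q ^ i) = w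
    rw [← hd, smul_eq_mul, mul_smul_comm, ← pow_succ']
  have : Module.Finite R X.carrier := (inferInstance : Module.Finite R R)
  obtain ⟨E⟩ := nonempty_res (𝒜 := 𝒜) X.gr
  obtain ⟨b, hb⟩ := (bounded_finite (posA hpos) (irr 𝒜) rfl 1 X E).2
  have key : ∀ (j : ℕ) (g : ℤ), 0 ≤ g → b ≤ g + j → Van (irr 𝒜) 1 g X := by
    intro j
    induction j with
    | zero => exact fun g _ hg => (Van.iff_of_res E).2 (hb g (by simpa using hg))
    | succ j ih =>
      intro g hg hgb
      have h := Van.left S (hC (g + 1) (by omega)) (ih (g + 1) (by omega) (by push_cast at hgb ⊢; omega))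
      rw [van_shift_iff, add_sub_cancel_right] at h
      exact h
  exact key (b - n).toNat n hn (by omega)

end Groth.Agent.SegLC
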