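import Groth.Agent.Lib.SegLC.DualSeg
import Groth.Agent.Lib.SegLC.SegCM
import Groth.Agent.Lib.SegLC.SegStd
import Groth.Agent.Lib.GrLC21.CanonType
import Groth.Agent.Lib.GrLC21.CanonLocal
import Groth.Agent.Lib.GrLC21.AInv
import Groth.Agent.Lib.GrSeg.Dim
import Groth.Agent.Lib.Ver21.Gor

/-!
# Gorenstein Segre products
-/

universe u

open DirectSum TensorProduct
open Groth.Agent.GrLC21 Groth.Agent.GrSegLib

noncomputable section

set_option linter.unusedSectionVars false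
set_option maxHeartbeats 1000000

namespace Groth.Agent.SegLC

section Shift

variable {A : Type u} [CommRing A] {σ : Type u} [SetLike σ A] [AddSubgroupClass σ A]
  {𝒞 : ℤ → σ} [GradedRing 𝒞]
  {C : Type u} [AddCommGroup C] [Module A C] {τ : Type u} [SetLike τ C] [AddSubgroupClass τ C]
  {𝒦 : ℤ → τ} [Decomposition 𝒦] [SetLike.GradedSMul 𝒞 𝒦]
  {f : A →ₗ[A] C} {d : ℤ}

theorem proj_deg (hfd : GrLC.IsGrHomDeg 𝒞 𝒦 f d) (i : ℤ) (r : A) :
    GrLC21.proj 𝒦 (i + d) (f r) = f (GrLC21.proj 𝒞 i r) := by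
  refine spans_induction (spans_of_decomposition 𝒞) r (by simp) (fun a b ha hb => by simp only [map_add, ha, hb])
    fun l a ha => ?_
  rcases eq_or_ne l i with rfl | hl
  · rw [proj_of_mem 𝒞 ha, proj_of_mem 𝒦 (hfd l a ha)]
  · rw [proj_of_mem_ne 𝒞 ha hl, map_zero, proj_of_mem_ne 𝒦 (hfd l a ha) (fun e => hl (by omega))]

theorem exists_deg_preimage (hf : Function.Surjective f) (hfd : GrLC.IsGrHomDeg 𝒞 𝒦 f d) {i : ℤ} {c : C}
    (hc : c ∈ 𝒦 (i + d)) : ∃ r ∈ 𝒞 i, f r = c := by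
  obtain ⟨r, rfl⟩ := hf c
  exact ⟨GrLC21.proj 𝒞 i r, GrLC21.proj_mem 𝒞 i r, (proj_deg hfd i r).symm.trans (proj_of_mem 𝒦 hc)⟩

theorem bijective_of_pieces (hfd : GrLC.IsGrHomDeg 𝒞 𝒦 f d) (hinj : ∀ i, ∀ r ∈ 𝒞 i, f r = 0 → r = 0)
    (hsurj : ∀ i, ∀ c ∈ 𝒦 (i + d), ∃ r ∈ 𝒞 i, f r = c) : Function.Bijective f := by
  refine ⟨(injective_iff_map_eq_zero f).2 fun r hr => eq_zero_of_proj 𝒞 fun i => hinj i _ (GrLC21.proj_mem 𝒞 i r)
    (by rw [← proj_deg hfd i r, hr, map_zero]), fun c => ?_⟩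
  refine spans_induction (P := fun c => ∃ r, f r = c) (spans_of_decomposition 𝒦) c ⟨0, map_zero f⟩
    (fun a b ⟨r, hr⟩ ⟨s, hs⟩ => ⟨r + s, by rw [map_add, hr, hs]⟩) fun i a ha => ?_
  obtain ⟨r, -, hr⟩ := hsurj (i - d) a (by rwa [sub_add_cancel])
  exact ⟨r, hr⟩

/-- Pieces above a nonzero piece are nonzero. -/
theorem exists_ne_zero_above [Nontrivial (GrLC.deg0 𝒞)]
    (key : ∀ (i : ℤ), (∃ c ∈ 𝒦 i, c ≠ 0) → 2 ≤ Module.finrank (GrLC.deg0 𝒞) (GrLC.comp 𝒞 𝒦 (i + 1)))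
    {i : ℤ} (hi : ∃ c ∈ 𝒦 i, c ≠ 0) (j : ℕ) : ∃ c ∈ 𝒦 (i + j), c ≠ 0 := by
  induction j with
  | zero => simpa using hi
  | succ j ih =>
    by_contra hno
    push Not at hno
    rw [Nat.cast_succ, ← add_assoc] at hno
    have : Subsingleton (GrLC.comp 𝒞 𝒦 (i + j + 1)) :=
      ⟨fun x y => Subtype.ext ((hno _ x.2).trans (hno _ y.2).symm)⟩
    have h := key _ ih
    rw [Module.finrank_zero_of_subsingleton] at h
    omega

/-- A piece of rank at most one forces the pieces below it to vanish if nonzero pieces are followed by pieces of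
rank at least two. -/
theorem eq_zero_below_of_finrank_le_one [Nontrivial (GrLC.deg0 𝒞)]
    (key : ∀ (i : ℤ), (∃ c ∈ 𝒦 i, c ≠ 0) → 2 ≤ Module.finrank (GrLC.deg0 𝒞) (GrLC.comp 𝒞 𝒦 (i + 1)))
    {d : ℤ} (h1 : Module.finrank (GrLC.deg0 𝒞) (GrLC.comp 𝒞 𝒦 d) ≤ 1) :
    ∀ i, i < d → ∀ c ∈ 𝒦 i, c = 0 := by
  intro i hi c hc
  by_contra hc0
  have := exists_ne_zero_above key ⟨c, hc, hc0⟩ (d - 1 - i).toNat
  rw [show i + ((d - 1 - i).toNat : ℤ) = d - 1 by omega] at this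
  have h := key _ this
  rw [sub_add_cancel] at h
  omega

variable [IsNoetherianRing A] {m : HomogeneousIdeal 𝒞} (Γ : FieldCtx 𝒞 m)
  {E : Type u} [AddCommGroup E] [Module A E] {τ' : Type u} [SetLike τ' E] [AddSubgroupClass τ' E]
  {𝓔 : ℤ → τ'} [Decomposition 𝓔] [SetLike.GradedSMul 𝒞 𝓔] {e : (A ⧸ m.toIdeal) →ₗ[A] E}
  (he : GrLC.IsStarInjHull 𝒞 (GrLC.quotGr 𝒞 m) 𝓔 e)
  {n : ℕ} {I : GrLC.StarInjRes 𝒞 𝒞} (hC : GrLC.IsStarCanonical 𝒞 𝒦 𝓔 m n I)

theorem one_ne_zero_of_starLocal (hm : GrLC.IsStarLocal 𝒞 m) : (1 : A) ≠ 0 := fun h10 => by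
  refine hm.1.1 (HomogeneousIdeal.ext ?_)
  rw [HomogeneousIdeal.toIdeal_top, Ideal.eq_top_iff_one, h10]
  exact zero_mem _

include Γ he hC in
/-- The a-invariant of a *canonical module which is a shift. -/
theorem endDeg_of_shift (hf : Function.Bijective f) (hfd : GrLC.IsGrHomDeg 𝒞 𝒦 f d) :
    GrLC.endDeg (I.Hgr m n) = (((-d : ℤ) : WithTop ℤ) : WithBot (WithTop ℤ)) := by
  refine (endDeg_eq_coe_iff _ _).2 ⟨fun h => ?_, fun l hl => ?_⟩
  · have h1 : f 1 ∈ 𝒦 d := zero_add d ▸ hfd 0 1 SetLike.GradedOne.one_mem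
    have h2 := (Γ.Hcomp_eq_bot_iff_canonical he hC d).1 ((Hgr_eq_bot_iff I m).1 h) _ h1
    exact one_ne_zero_of_starLocal Γ.starLocal (hf.1 (h2.trans (map_zero f).symm))
  · refine (Hgr_eq_bot_iff I m).2 ?_
    rw [show l = -(-l) from (neg_neg l).symm]
    refine (Γ.Hcomp_eq_bot_iff_canonical he hC (-l)).2 fun c hc => ?_
    obtain ⟨r, hr, rfl⟩ := exists_deg_preimage hf.2 hfd (i := -l - d) (c := c) (by rw [sub_add_cancel]; exact hc)
    rw [Γ.pos _ (by omega) r hr, map_zero]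

include Γ he hC in
theorem shift_deg_eq {a : ℤ} (ha : GrLC.endDeg (I.Hgr m n) = ((a : WithTop ℤ) : WithBot (WithTop ℤ)))
    (hf : Function.Bijective f) (hfd : GrLC.IsGrHomDeg 𝒞 𝒦 f d) : d = -a := by
  rw [endDeg_of_shift Γ he hC hf hfd] at ha
  have := WithTop.coe_injective (WithBot.coe_injective ha)
  omega

end Shift

section Vec

variable {k : Type u} [Field k] {M N : Type u} [AddCommGroup M] [Module k M] [AddCommGroup N] [Module k N]

/-- Contract the second factor with a functional. -/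
def contractRight (φ : N →ₗ[k] k) : M ⊗[k] N →ₗ[k] M :=
  (TensorProduct.rid k M).toLinearMap ∘ₗ TensorProduct.map LinearMap.id φ

/-- Contract the first factor with a functional. -/
def contractLeft (φ : M →ₗ[k] k) : M ⊗[k] N →ₗ[k] N :=
  (TensorProduct.lid k N).toLinearMap ∘ₗ TensorProduct.map φ LinearMap.id

theorem contractRight_tmul (φ : N →ₗ[k] k) (x : M) (y : N) : contractRight φ (x ⊗ₜ[k] y) = φ y • x := by
  simp [contractRight]

theorem contractLeft_tmul (φ : M →ₗ[k] k) (x : M) (y : N) : contractLeft φ (x ⊗ₜ[k] y) = φ x • y := by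
  simp [contractLeft]

theorem exists_functional_eq_one {y : N} (hy : y ≠ 0) : ∃ φ : N →ₗ[k] k, φ y = 1 := by
  obtain ⟨φ, hφ⟩ := LinearMap.exists_extend_of_notMem (p := (⊥ : Submodule k N))
    (f := (0 : (⊥ : Submodule k N) →ₗ[k] k)) (v := y) (by simpa using hy) 1
  exact ⟨φ, hφ.2⟩

theorem eq_zero_of_tmul_eq_zero {x : M} {y : N} (h : x ⊗ₜ[k] y = 0) (hy : y ≠ 0) : x = 0 := by
  obtain ⟨φ, hφ⟩ := exists_functional_eq_one (k := k) hy
  simpa [contractRight_tmul, hφ] using congrArg (contractRight φ) h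

theorem eq_zero_of_tmul_eq_zero' {x : M} {y : N} (h : x ⊗ₜ[k] y = 0) (hx : x ≠ 0) : y = 0 := by
  obtain ⟨φ, hφ⟩ := exists_functional_eq_one (k := k) hx
  simpa [contractLeft_tmul, hφ] using congrArg (contractLeft φ) h

end Vec

variable {k : Type u} [Field k]
  {R : Type u} [CommRing R] [Algebra k R] {𝒜 : ℤ → Submodule k R} [GradedAlgebra 𝒜]
  {S : Type u} [CommRing S] [Algebra k S] {ℬ : ℤ → Submodule k S} [GradedAlgebra ℬ]
  {T : Type u} [CommRing T] [Algebra k T] {𝒯 : ℤ → Submodule k T} [GradedAlgebra 𝒯]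
  {ψ : T →ₐ[k] R ⊗[k] S}

section Act

variable {M N : Type u} [AddCommGroup M] [Module R M] [Module k M] [IsScalarTower k R M]
  [AddCommGroup N] [Module S N] [Module k N] [IsScalarTower k S N]

/-- Linear maps out of the rings commute with the action. -/
theorem act_map (f : R →ₗ[R] M) (g : S →ₗ[S] N) (w z : R ⊗[k] S) :
    GrSeg.act k R S M N w (TensorProduct.map (f.restrictScalars k) (g.restrictScalars k) z) =
      TensorProduct.map (f.restrictScalars k) (g.restrictScalars k) (w * z) := by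
  induction w using TensorProduct.induction_on with
  | zero => simp
  | add p q hp hq => simp [hp, hq, add_mul]
  | tmul r s =>
    induction z using TensorProduct.induction_on with
    | zero => simp
    | add p q hp hq => simp [hp, hq, mul_add]
    | tmul a b =>
      rw [TensorProduct.map_tmul, GrSeg.act_tmul, Algebra.TensorProduct.tmul_mul_tmul, TensorProduct.map_tmul]
      simp only [LinearMap.coe_restrictScalars]
      rw [← map_smul, ← map_smul, smul_eq_mul, smul_eq_mul]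

end Act

variable {mR : HomogeneousIdeal 𝒜} {mS : HomogeneousIdeal ℬ} {mT : HomogeneousIdeal 𝒯}
  (D : Data 𝒜 ℬ 𝒯 ψ mR mS mT)
  (h0R : 𝒜 0 = Submodule.span k {(1 : R)}) (h0S : ℬ 0 = Submodule.span k {(1 : S)})

section Noeth

variable [IsNoetherianRing R] [Nontrivial R] [IsNoetherianRing S] [Nontrivial S] [IsNoetherianRing T]

include D h0R h0S in
theorem Data.ringKrullDim_eq {a b : ℕ} (hr : ringKrullDim R = ((a + 1 + 1 : ℕ) : ℕ))
    (hs : ringKrullDim S = ((b + 1 + 1 : ℕ) : ℕ)) [Algebra.FiniteType k R] [Algebra.FiniteType k S] :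
    ringKrullDim T = ((a + b + 1 + 2 : ℕ) : ℕ) := by
  have h := GrSegLib.ringKrullDim_segre 𝒜 ℬ 𝒯 (a := a + 1) (b := b + 1) D.posR h0R D.posS h0S D.isSegre.1 D.isSegre.2 hr hs
  rw [h]
  congr 1
  push_cast
  ring

end Noeth

variable [Algebra.FiniteType k R] [Algebra.FiniteType k S] [IsNoetherianRing R] [IsNoetherianRing S]
  [IsNoetherianRing T] [Nontrivial R] [Nontrivial S]
  {a b : ℕ} (hr : ringKrullDim R = ((a + 1 + 1 : ℕ) : ℕ)) (hs : ringKrullDim S = ((b + 1 + 1 : ℕ) : ℕ))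
  (I : GrLC.StarInjRes 𝒜 𝒜) (J : GrLC.StarInjRes ℬ ℬ)

include D h0R h0S hr hs in
/-- Equal a-invariants make the Segre product of Gorenstein rings Gorenstein. -/
theorem Data.gorenstein_of_endDeg_eq [LocCoh.IsGorensteinRing R] [LocCoh.IsGorensteinRing S]
    [LocCoh.IsCohenMacaulayRing T]
    (haeq : GrLC.endDeg (I.Hgr mR (a + 1 + 1)) = GrLC.endDeg (J.Hgr mS (b + 1 + 1))) :
    LocCoh.IsGorensteinRing T := by
  obtain ⟨_, ΓR, ΓS, ΓT⟩ := D.fieldCtx h0R h0S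
  haveI := isCohenMacaulayRing_of_gorenstein (R := R)
  haveI := isCohenMacaulayRing_of_gorenstein (R := S)
  obtain ⟨ER, eR, heR⟩ := exists_residue_hull (𝒜 := 𝒜) mR
  obtain ⟨ES, eS, heS⟩ := exists_residue_hull (𝒜 := ℬ) mS
  obtain ⟨ET, eT, heT⟩ := exists_residue_hull (𝒜 := 𝒯) mT
  obtain ⟨CR, hCR⟩ := ΓR.exists_canonical heR (a + 1 + 1) I
  obtain ⟨CS, hCS⟩ := ΓS.exists_canonical heS (b + 1 + 1) J
  obtain ⟨dR, f, hf, hfd⟩ := (ΓR.gorenstein_iff_shift heR hr hCR).1 inferInstance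
  obtain ⟨dS, g, hg, hgd⟩ := (ΓS.gorenstein_iff_shift heS hs hCS).1 inferInstance
  have hd : dS = dR := by
    rw [endDeg_of_shift ΓR heR hCR hf hfd, endDeg_of_shift ΓS heS hCS hg hgd] at haeq
    have := WithTop.coe_injective (WithBot.coe_injective haeq)
    omega
  subst hd
  obtain ⟨IT⟩ := nonempty_res (𝒜 := 𝒯) 𝒯
  have hK := D.isStarCanonical_segre h0R h0S hr hs I J IT heR hCR heS hCS heT
    (isSegreMod_seg CR.gr CS.gr D.isSegre)
  obtain ⟨p₀, hp₀, hp₀'⟩ := exists_segι_piece CR.gr CS.gr D.isSegre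
    (show f 1 ⊗ₜ[k] g 1 ∈ GrSeg.segrePiece k CR.gr CS.gr dS from Submodule.subset_span
      ⟨f 1, zero_add dS ▸ hfd 0 1 SetLike.GradedOne.one_mem, g 1, zero_add dS ▸ hgd 0 1 SetLike.GradedOne.one_mem, rfl⟩)
  let μ := TensorProduct.map (f.restrictScalars k) (g.restrictScalars k)
  have hμ : Function.Injective μ := tmap_injective (k := k) hf.1 hg.1
  let F : T →ₗ[T] (seg CR.gr CS.gr D.isSegre).carrier := LinearMap.toSpanSingleton T _ p₀
  have hF : ∀ t, segι CR.gr CS.gr D.isSegre (F t) = μ (ψ t) := fun t => by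
    show segι CR.gr CS.gr D.isSegre (t • p₀) = _
    rw [segι_smul, hp₀']
    exact (act_map f g (ψ t) (1 ⊗ₜ[k] 1)).trans (congrArg μ (mul_one _))
  refine (ΓT.gorenstein_iff_shift heT (D.ringKrullDim_eq h0R h0S hr hs) hK).2
    ⟨dS, F, ⟨fun x y hxy => D.isSegre.1 (hμ (by rw [← hF, ← hF, hxy])), fun z => ?_⟩,
      fun i t ht => GrLC21.smul_mem 𝒯 (seg CR.gr CS.gr D.isSegre).gr ht hp₀⟩
  refine spans_induction (P := fun z => ∃ t, F t = z) (spans_of_decomposition (seg CR.gr CS.gr D.isSegre).gr) z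
    ⟨0, map_zero F⟩ (fun x y ⟨s, hs⟩ ⟨t, ht⟩ => ⟨s + t, by rw [map_add, hs, ht]⟩) fun i x hx => ?_
  suffices h : ∀ w ∈ GrSeg.segrePiece k CR.gr CS.gr i, ∃ t, μ (ψ t) = w by
    obtain ⟨t, ht⟩ := h _ ((mem_seg_gr CR.gr CS.gr D.isSegre).1 hx)
    exact ⟨t, segι_injective CR.gr CS.gr D.isSegre ((hF t).trans ht)⟩
  intro w hw
  refine Submodule.span_induction (p := fun w _ => ∃ t, μ (ψ t) = w) ?_ ⟨0, by simp⟩
    (fun x y _ _ ⟨s, hs⟩ ⟨t, ht⟩ => ⟨s + t, by rw [map_add, map_add, hs, ht]⟩)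
    (fun c x _ ⟨s, hs⟩ => ⟨c • s, by rw [map_smul, map_smul, hs]⟩) hw
  rintro _ ⟨x, hx, y, hy, rfl⟩
  obtain ⟨r, hr', rfl⟩ := exists_deg_preimage hf.2 hfd (i := i - dS) (c := x) (by rwa [sub_add_cancel])
  obtain ⟨s, hs', rfl⟩ := exists_deg_preimage hg.2 hgd (i := i - dS) (c := y) (by rwa [sub_add_cancel])
  obtain ⟨t, -, ht⟩ := D.exists_preimage (g := i - dS) (w := r ⊗ₜ[k] s) (Submodule.subset_span ⟨r, hr', s, hs', rfl⟩)
  exact ⟨t, by rw [ht]; rfl⟩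

include D h0R h0S hr hs in
/-- The type of a Segre product of Gorenstein rings. -/
theorem Data.type_eq_finrank_piece [LocCoh.IsGorensteinRing R] [LocCoh.IsGorensteinRing S]
    [LocCoh.IsCohenMacaulayRing T] [mT.toIdeal.IsMaximal]
    (hstdR : Ideal.span (⋃ n ∈ Set.Ioi (0 : ℤ), (𝒜 n : Set R)) = Ideal.span ((𝒜 1 : Submodule k R) : Set R))
    {α β : ℤ} (ha : GrLC.endDeg (I.Hgr mR (a + 1 + 1)) = ((α : WithTop ℤ) : WithBot (WithTop ℤ)))
    (hb : GrLC.endDeg (J.Hgr mS (b + 1 + 1)) = ((β : WithTop ℤ) : WithBot (WithTop ℤ))) (hab : β ≤ α) :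
    GrLC.bassNum mT.toIdeal T (a + b + 1 + 2) = (Module.finrank k (𝒜 (α - β)) : ℕ∞) := by
  obtain ⟨_, ΓR, ΓS, ΓT⟩ := D.fieldCtx h0R h0S
  haveI := isCohenMacaulayRing_of_gorenstein (R := R)
  haveI := isCohenMacaulayRing_of_gorenstein (R := S)
  obtain ⟨ER, eR, heR⟩ := exists_residue_hull (𝒜 := 𝒜) mR
  obtain ⟨ES, eS, heS⟩ := exists_residue_hull (𝒜 := ℬ) mS
  obtain ⟨ET, eT, heT⟩ := exists_residue_hull (𝒜 := 𝒯) mT
  obtain ⟨CR, hCR⟩ := ΓR.exists_canonical heR (a + 1 + 1) I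
  obtain ⟨CS, hCS⟩ := ΓS.exists_canonical heS (b + 1 + 1) J
  obtain ⟨dR, f, hf, hfd⟩ := (ΓR.gorenstein_iff_shift heR hr hCR).1 inferInstance
  obtain ⟨dS, g, hg, hgd⟩ := (ΓS.gorenstein_iff_shift heS hs hCS).1 inferInstance
  have hdR : dR = -α := shift_deg_eq ΓR heR hCR ha hf hfd
  have hdS : dS = -β := shift_deg_eq ΓS heS hCS hb hg hgd
  obtain ⟨IT⟩ := nonempty_res (𝒜 := 𝒯) 𝒯
  have hK := D.isStarCanonical_segre h0R h0S hr hs I J IT heR hCR heS hCS heT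
    (isSegreMod_seg CR.gr CS.gr D.isSegre)
  rw [ΓT.type_eq_finrank heT (D.ringKrullDim_eq h0R h0S hr hs) hK]
  congr 1
  let X := seg CR.gr CS.gr D.isSegre
  let ι := segι CR.gr CS.gr D.isSegre
  have hι : Function.Injective ι := segι_injective CR.gr CS.gr D.isSegre
  let μ := TensorProduct.map (f.restrictScalars k) (g.restrictScalars k)
  have hpre : ∀ x : 𝒜 (α - β), ∃ p ∈ X.gr dS, ι p = f x.1 ⊗ₜ[k] g 1 := fun x =>
    exists_segι_piece CR.gr CS.gr D.isSegre (Submodule.subset_span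
      ⟨f x.1, (by rw [show dS = (α - β) + dR by omega]; exact hfd _ _ x.2), g 1,
        zero_add dS ▸ hgd 0 1 SetLike.GradedOne.one_mem, rfl⟩)
  choose pre hpre_mem hpre using hpre
  have hgen : Submodule.span T (Set.range pre) = ⊤ := by
    refine eq_top_iff.2 fun z _ => ?_
    refine spans_induction (P := fun z => z ∈ Submodule.span T (Set.range pre)) (spans_of_decomposition X.gr) z
      (Submodule.zero_mem _) (fun x y hx hy => Submodule.add_mem _ hx hy) fun i x hx => ?_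
    suffices h : ∀ w ∈ GrSeg.segrePiece k CR.gr CS.gr i, ∃ p ∈ Submodule.span T (Set.range pre), ι p = w by
      obtain ⟨p, hp, hpw⟩ := h _ ((mem_seg_gr CR.gr CS.gr D.isSegre).1 hx)
      exact hι hpw ▸ hp
    intro w hw
    refine Submodule.span_induction (p := fun w _ => ∃ p ∈ Submodule.span T (Set.range pre), ι p = w) ?_
      ⟨0, Submodule.zero_mem _, map_zero ι⟩
      (fun x y _ _ ⟨p, hp, e⟩ ⟨q, hq, e'⟩ => ⟨p + q, Submodule.add_mem _ hp hq, by rw [map_add, e, e']⟩)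
      (fun c x _ ⟨p, hp, e⟩ => ⟨c • p, Submodule.smul_mem _ (algebraMap k T c) hp, by rw [map_smul, e]⟩) hw
    rintro _ ⟨x, hx, y, hy, rfl⟩
    obtain ⟨r, hr', rfl⟩ := exists_deg_preimage hf.2 hfd (i := i - dR) (c := x) (by rwa [sub_add_cancel])
    obtain ⟨s, hs', rfl⟩ := exists_deg_preimage hg.2 hgd (i := i - dS) (c := y) (by rwa [sub_add_cancel])
    rcases lt_or_ge (i - dS) 0 with hl | hl
    · exact ⟨0, Submodule.zero_mem _, by rw [map_zero, ΓS.pos _ hl s hs', map_zero, TensorProduct.tmul_zero]⟩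
    obtain ⟨l, hl'⟩ := Int.eq_ofNat_of_zero_le hl
    have hmem := GrLC21.mem_closure_mul (𝒜 := 𝒜) hstdR (x := α - β) (by omega) l
      (y := r) (by rwa [show α - β + (l : ℤ) = i - dR by omega])
    refine AddSubgroup.closure_induction
      (p := fun r _ => ∃ p ∈ Submodule.span T (Set.range pre), ι p = f r ⊗ₜ[k] g s) ?_
      ⟨0, Submodule.zero_mem _, by rw [map_zero, map_zero, TensorProduct.zero_tmul]⟩
      (fun x y _ _ ⟨p, hp, e⟩ ⟨q, hq, e'⟩ =>
        ⟨p + q, Submodule.add_mem _ hp hq, by rw [map_add, map_add, e, e', TensorProduct.add_tmul]⟩)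
      (fun x _ ⟨p, hp, e⟩ => ⟨-p, Submodule.neg_mem _ hp, by rw [map_neg, map_neg, e, TensorProduct.neg_tmul]⟩) hmem
    rintro _ ⟨u, hu, v, hv, rfl⟩
    obtain ⟨t, -, ht⟩ := D.exists_preimage (g := (l : ℤ)) (w := u ⊗ₜ[k] s)
      (Submodule.subset_span ⟨u, hu, s, (by rw [← hl']; exact hs'), rfl⟩)
    refine ⟨t • pre ⟨v, hv⟩, Submodule.smul_mem _ _ (Submodule.subset_span ⟨_, rfl⟩), ?_⟩
    show segι CR.gr CS.gr D.isSegre (t • pre ⟨v, hv⟩) = _
    rw [segι_smul, hpre ⟨v, hv⟩, ht]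
    refine (act_map f g (u ⊗ₜ[k] s) (v ⊗ₜ[k] 1)).trans ?_
    rw [Algebra.TensorProduct.tmul_mul_tmul, mul_one]
    rfl
  have hlow : ∀ i, i < dS → ∀ z ∈ X.gr i, z = 0 := fun i hi z hz => hι (by
    have h := (mem_seg_gr CR.gr CS.gr D.isSegre).1 hz
    rw [map_zero]
    have hle : GrSeg.segrePiece k CR.gr CS.gr i ≤ ⊥ := Submodule.span_le.2 fun w ⟨x, _, y, hy, hw⟩ => by
      obtain ⟨s, hs', rfl⟩ := exists_deg_preimage hg.2 hgd (i := i - dS) (c := y) (by rwa [sub_add_cancel])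
      show w = 0
      rw [hw, ΓS.pos _ (by omega) s hs', map_zero, TensorProduct.tmul_zero]
    exact (Submodule.mem_bot k).1 (hle h))
  have hmj : ∀ z ∈ (mT.toIdeal • ⊤ : Submodule T X.carrier), GrLC21.proj X.gr dS z = 0 := by
    intro z hz
    refine Submodule.smul_induction_on hz (fun t ht x _ => ?_) fun u v hu hv => by rw [map_add, hu, hv, add_zero]
    rw [D.irrT] at ht
    refine Submodule.span_induction (p := fun t _ => ∀ x : X.carrier, GrLC21.proj X.gr dS (t • x) = 0) ?_ (by simp)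
      (fun u v _ _ hu hv x => by rw [add_smul, map_add, hu, hv, add_zero])
      (fun u v _ hv x => by rw [smul_assoc, smul_comm]; exact hv _) ht x
    rintro t ht x
    obtain ⟨e, he, ht⟩ := Set.mem_iUnion₂.1 ht
    rw [GrLC21.proj_smul 𝒯 X.gr ht, hlow _ (by have : (0 : ℤ) < e := he; omega) _ (GrLC21.proj_mem X.gr _ x),
      smul_zero]
  let Q := TensorProduct.quotTensorEquivQuotSMul X.carrier mT.toIdeal
  let π : 𝒜 (α - β) →+ (T ⧸ mT.toIdeal) ⊗[T] X.carrier :=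
    AddMonoidHom.mk' (fun x => (1 : T ⧸ mT.toIdeal) ⊗ₜ[T] pre x) fun x y => by
      rw [← TensorProduct.tmul_add]
      exact congrArg _ (hι (by rw [map_add, hpre, hpre, hpre, ← TensorProduct.add_tmul, ← map_add]; rfl))
  have hQ : ∀ x, Q (π x) = Submodule.Quotient.mk (pre x) := fun x => by
    show Q ((1 : T ⧸ mT.toIdeal) ⊗ₜ[T] pre x) = _
    rw [show (1 : T ⧸ mT.toIdeal) = Ideal.Quotient.mk mT.toIdeal 1 from (map_one _).symm,
      TensorProduct.quotTensorEquivQuotSMul_mk_tmul, one_smul]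
  have hpre_smul : ∀ (c : k) x, pre (c • x) = algebraMap k T c • pre x := fun c x => hι (by
    rw [hpre]
    show _ = ι (c • pre x)
    rw [map_smul, hpre, TensorProduct.smul_tmul']
    exact congrArg (· ⊗ₜ[k] g 1) (LinearMap.map_smul (f.restrictScalars k) c x.1))
  have hpre_zero : pre 0 = 0 := hι (by
    rw [hpre, map_zero, ZeroMemClass.coe_zero, map_zero, TensorProduct.zero_tmul])
  have hsub : ∀ t : T, t - GrLC21.proj 𝒯 0 t ∈ mT.toIdeal := fun t => ΓT.sub_proj_zero_mem t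
  obtain ⟨_, h0T⟩ := D.deg0T h0R h0S
  have hπ : Function.Bijective π := by
    refine ⟨(injective_iff_map_eq_zero π).2 fun x hx => Subtype.ext ?_, fun z => ?_⟩
    · have h0 : (Submodule.Quotient.mk (pre x) : X.carrier ⧸ mT.toIdeal • (⊤ : Submodule T X.carrier)) = 0 := by
        rw [← hQ, hx, map_zero]
      have h1 := hmj _ ((Submodule.Quotient.mk_eq_zero _).1 h0)
      rw [GrLC21.proj_of_mem X.gr (hpre_mem x)] at h1
      have h2 : f x.1 ⊗ₜ[k] g 1 = 0 := by rw [← hpre, h1, map_zero]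
      exact hf.1 ((eq_zero_of_tmul_eq_zero h2 fun e => one_ne_zero (hg.1 (e.trans (map_zero g).symm))).trans
        (map_zero f).symm)
    · obtain ⟨y, hy⟩ := Submodule.Quotient.mk_surjective _ (Q z)
      have key : ∀ y ∈ Submodule.span T (Set.range pre), ∃ x, Q (π x) = Submodule.Quotient.mk y := by
        intro y hy
        refine Submodule.span_induction (p := fun y _ => ∃ x, Q (π x) = Submodule.Quotient.mk y) ?_
          ⟨0, by rw [map_zero, map_zero, Submodule.Quotient.mk_zero]⟩ ?_ ?_ hy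
        · rintro _ ⟨x, rfl⟩
          exact ⟨x, hQ x⟩
        · rintro u v _ _ ⟨a', ha'⟩ ⟨b', hb'⟩
          exact ⟨a' + b', by rw [map_add, map_add, ha', hb', Submodule.Quotient.mk_add]⟩
        · rintro t u _ ⟨a', ha'⟩
          obtain ⟨c, hc⟩ := Submodule.mem_span_singleton.1 (h0T.le (GrLC21.proj_mem 𝒯 0 t))
          refine ⟨c • a', ?_⟩
          rw [hQ] at ha' ⊢
          rw [hpre_smul, show algebraMap k T c = GrLC21.proj 𝒯 0 t by rw [← hc, Algebra.algebraMap_eq_smul_one],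
            Submodule.Quotient.mk_smul, ha', ← Submodule.Quotient.mk_smul, Submodule.Quotient.eq,
            ← sub_smul, ← neg_sub, neg_smul]
          exact Submodule.neg_mem _ (Submodule.smul_mem_smul (hsub t) Submodule.mem_top)
      obtain ⟨x, hx⟩ := key y (hgen ▸ Submodule.mem_top)
      exact ⟨x, Q.injective (hx.trans hy)⟩
  let i : k → T ⧸ mT.toIdeal := fun c => Ideal.Quotient.mk mT.toIdeal (algebraMap k T c)
  have hi : Function.Bijective i := by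
    refine ⟨((Ideal.Quotient.mk mT.toIdeal).comp (algebraMap k T)).injective, fun z => ?_⟩
    obtain ⟨t, rfl⟩ := Ideal.Quotient.mk_surjective z
    obtain ⟨c, hc⟩ := Submodule.mem_span_singleton.1 (h0T.le (GrLC21.proj_mem 𝒯 0 t))
    refine ⟨c, ?_⟩
    show Ideal.Quotient.mk mT.toIdeal _ = _
    rw [Algebra.algebraMap_eq_smul_one, hc]
    exact (Ideal.Quotient.eq.2 (hsub t)).symm
  unfold Module.finrank
  rw [rank_eq_of_equiv_equiv (R := k) (R' := T ⧸ mT.toIdeal) i (AddEquiv.ofBijective π hπ) hi]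
  intro c x
  show (1 : T ⧸ mT.toIdeal) ⊗ₜ[T] pre (c • x) = i c • ((1 : T ⧸ mT.toIdeal) ⊗ₜ[T] pre x)
  rw [hpre_smul, TensorProduct.smul_tmul', smul_eq_mul, mul_one, ← TensorProduct.smul_tmul]
  exact congrArg (· ⊗ₜ[T] pre x) ((Algebra.smul_def _ _).trans (mul_one _))


include D h0R h0S hr hs in
/-- A Gorenstein Segre product has Gorenstein factors with the same negative a-invariant. -/
theorem Data.gorenstein_factors [LocCoh.IsCohenMacaulayRing R] [LocCoh.IsCohenMacaulayRing S]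
    [LocCoh.IsGorensteinRing T]
    (hstdR : Ideal.span (⋃ n ∈ Set.Ioi (0 : ℤ), (𝒜 n : Set R)) = Ideal.span ((𝒜 1 : Submodule k R) : Set R))
    (hstdS : Ideal.span (⋃ n ∈ Set.Ioi (0 : ℤ), (ℬ n : Set S)) = Ideal.span ((ℬ 1 : Submodule k S) : Set S)) :
    LocCoh.IsGorensteinRing R ∧ LocCoh.IsGorensteinRing S ∧
      GrLC.endDeg (I.Hgr mR (a + 1 + 1)) = GrLC.endDeg (J.Hgr mS (b + 1 + 1)) ∧
        GrLC.endDeg (I.Hgr mR (a + 1 + 1)) < 0 := by
  obtain ⟨_, ΓR, ΓS, ΓT⟩ := D.fieldCtx h0R h0S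
  haveI := isCohenMacaulayRing_of_gorenstein (R := T)
  haveI := (isMaximal_starMax ΓR.pos ΓR.starLocal.1).isPrime
  haveI := (isMaximal_starMax ΓS.pos ΓS.starLocal.1).isPrime
  have hP := GrSegLib.isSegreMod_self 𝒜 ℬ 𝒯 D.isSegre.1 D.isSegre.2
  have hdimR : 1 ≤ ringKrullDim R := by rw [hr]; exact_mod_cast (by omega : 1 ≤ a + 1 + 1)
  have hdimS : 1 ≤ ringKrullDim S := by rw [hs]; exact_mod_cast (by omega : 1 ≤ b + 1 + 1)
  obtain ⟨-, hvanI⟩ := (D.cm_segre_iff h0R h0S I J hP (r := a + 1 + 1) (s := b + 1 + 1) (by omega) (by omega)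
    (by rw [Module.supportDim_self_eq_ringKrullDim, hr]) (by rw [Module.supportDim_self_eq_ringKrullDim, hs])
    ((isCohenMacaulayRing_iff R).1 inferInstance) ((isCohenMacaulayRing_iff S).1 inferInstance)).1
    ((isCohenMacaulayRing_iff T).1 inferInstance)
  have hneg : GrLC.endDeg (I.Hgr mR (a + 1 + 1)) < 0 := (endDeg_neg_iff I mR _).2 fun n hn =>
    (hvanI (by omega) n).resolve_right fun h => exists_piece_ne_zero D.posS h0S hstdS hdimS hn h
  obtain ⟨ER, eR, heR⟩ := exists_residue_hull (𝒜 := 𝒜) mR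
  obtain ⟨ES, eS, heS⟩ := exists_residue_hull (𝒜 := ℬ) mS
  obtain ⟨ET, eT, heT⟩ := exists_residue_hull (𝒜 := 𝒯) mT
  obtain ⟨CR, hCR⟩ := ΓR.exists_canonical heR (a + 1 + 1) I
  obtain ⟨CS, hCS⟩ := ΓS.exists_canonical heS (b + 1 + 1) J
  obtain ⟨IT⟩ := nonempty_res (𝒜 := 𝒯) 𝒯
  have hK := D.isStarCanonical_segre h0R h0S hr hs I J IT heR hCR heS hCS heT
    (isSegreMod_seg CR.gr CS.gr D.isSegre)
  obtain ⟨d, F, hF, hFd⟩ := (ΓT.gorenstein_iff_shift heT (D.ringKrullDim_eq h0R h0S hr hs) hK).1 inferInstance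
  let X := seg CR.gr CS.gr D.isSegre
  let ι := segι CR.gr CS.gr D.isSegre
  have hι : Function.Injective ι := segι_injective CR.gr CS.gr D.isSegre
  have hFt : ∀ t, F t = t • F 1 := fun t => by rw [← map_smul, smul_eq_mul, mul_one]
  have h1d : F 1 ∈ X.gr d := zero_add d ▸ hFd 0 1 SetLike.GradedOne.one_mem
  obtain ⟨_, h0T⟩ := D.deg0T h0R h0S
  -- every element of the piece of degree d is a multiple of the image of one
  have hspan : ∀ w ∈ GrSeg.segrePiece k CR.gr CS.gr d, ∃ c : k, w = c • ι (F 1) := by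
    intro w hw
    obtain ⟨p, hp, rfl⟩ := exists_segι_piece CR.gr CS.gr D.isSegre hw
    obtain ⟨t, ht, rfl⟩ := exists_deg_preimage hF.2 hFd (i := 0) (c := p) (by rw [zero_add]; exact hp)
    obtain ⟨c, rfl⟩ := Submodule.mem_span_singleton.1 (h0T.le ht)
    refine ⟨c, ?_⟩
    rw [← map_smul]
    refine congrArg ι ?_
    rw [hFt, Algebra.smul_def, mul_one]
    rfl
  have hne : ι (F 1) ≠ 0 := fun h => one_ne_zero (hF.1 ((hι (h.trans (map_zero ι).symm)).trans (map_zero F).symm))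
  obtain ⟨x₀, hx₀, y₀, hy₀, hxy⟩ : ∃ x ∈ CR.gr d, ∃ y ∈ CS.gr d, x ⊗ₜ[k] y ≠ (0 : CR.carrier ⊗[k] CS.carrier) := by
    by_contra hno
    push Not at hno
    refine hne ((Submodule.mem_bot k).1 (Submodule.span_le.2 ?_ ((mem_seg_gr CR.gr CS.gr D.isSegre).1 h1d)))
    rintro _ ⟨x, hx, y, hy, rfl⟩
    exact hno x hx y hy
  have hx00 : x₀ ≠ 0 := fun e => hxy (by rw [e, TensorProduct.zero_tmul])
  have hy00 : y₀ ≠ 0 := fun e => hxy (by rw [e, TensorProduct.tmul_zero])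
  obtain ⟨c₀, hc₀⟩ := hspan _ (Submodule.subset_span ⟨x₀, hx₀, y₀, hy₀, rfl⟩)
  have hc00 : c₀ ≠ 0 := fun e => hxy (by rw [hc₀, e, zero_smul])
  have hx1 : ∀ x ∈ CR.gr d, ∃ c : k, c • x₀ = x := fun x hx => by
    obtain ⟨c, hc⟩ := hspan _ (Submodule.subset_span ⟨x, hx, y₀, hy₀, rfl⟩)
    refine ⟨c * c₀⁻¹, (sub_eq_zero.1 (eq_zero_of_tmul_eq_zero (k := k) ?_ hy00)).symm⟩
    rw [TensorProduct.sub_tmul, ← TensorProduct.smul_tmul', hc₀, hc, smul_smul, inv_mul_cancel_right₀ hc00, sub_self]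
  have hy1 : ∀ y ∈ CS.gr d, ∃ c : k, c • y₀ = y := fun y hy => by
    obtain ⟨c, hc⟩ := hspan _ (Submodule.subset_span ⟨x₀, hx₀, y, hy, rfl⟩)
    refine ⟨c * c₀⁻¹, (sub_eq_zero.1 (eq_zero_of_tmul_eq_zero' (k := k) ?_ hx00)).symm⟩
    rw [TensorProduct.tmul_sub, TensorProduct.tmul_smul, hc₀, hc, smul_smul, inv_mul_cancel_right₀ hc00, sub_self]
  have keyR : ∀ i, (∃ c ∈ CR.gr i, c ≠ 0) → 2 ≤ Module.finrank (GrLC.deg0 𝒜) (GrLC.comp 𝒜 CR.gr (i + 1)) :=
    fun i ⟨c, hc, hc0⟩ => ΓR.two_le_finrank_of_pred_ne_zero heR hr hCR hstdR (by omega) hc hc0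
  have keyS : ∀ i, (∃ c ∈ CS.gr i, c ≠ 0) → 2 ≤ Module.finrank (GrLC.deg0 ℬ) (GrLC.comp ℬ CS.gr (i + 1)) :=
    fun i ⟨c, hc, hc0⟩ => ΓS.two_le_finrank_of_pred_ne_zero heS hs hCS hstdS (by omega) hc hc0
  haveI : Nontrivial (GrLC.deg0 𝒜) := ⟨ΓR.isField.exists_pair_ne⟩
  haveI : Nontrivial (GrLC.deg0 ℬ) := ⟨ΓS.isField.exists_pair_ne⟩
  have hlowR := eq_zero_below_of_finrank_le_one keyR (d := d) (by
    rw [finrank_comp_eq _ h0R]
    exact finrank_le_one ⟨x₀, hx₀⟩ fun w => by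
      obtain ⟨c, hc⟩ := hx1 w.1 w.2
      exact ⟨c, Subtype.ext hc⟩)
  have hlowS := eq_zero_below_of_finrank_le_one keyS (d := d) (by
    rw [finrank_comp_eq _ h0S]
    exact finrank_le_one ⟨y₀, hy₀⟩ fun w => by
      obtain ⟨c, hc⟩ := hy1 w.1 w.2
      exact ⟨c, Subtype.ext hc⟩)
  let u : CR.carrier := c₀⁻¹ • x₀
  let v : CS.carrier := y₀
  have hu : u ∈ CR.gr d :=
    zero_add d ▸ GrLC21.smul_mem 𝒜 CR.gr (SetLike.algebraMap_mem_graded 𝒜 c₀⁻¹) hx₀
  let Φ : R →ₗ[R] CR.carrier := LinearMap.toSpanSingleton R _ u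
  let Φ' : S →ₗ[S] CS.carrier := LinearMap.toSpanSingleton S _ v
  have hΦd : GrLC.IsGrHomDeg 𝒜 CR.gr Φ d := fun i r hr' => GrLC21.smul_mem 𝒜 CR.gr hr' hu
  have hΦ'd : GrLC.IsGrHomDeg ℬ CS.gr Φ' d := fun i s hs' => GrLC21.smul_mem ℬ CS.gr hs' hy₀
  let μ := TensorProduct.map (Φ.restrictScalars k) (Φ'.restrictScalars k)
  have hμ : ∀ t, ι (F t) = μ (ψ t) := fun t => by
    have h1 : ι (F 1) = μ (1 ⊗ₜ[k] 1) := by
      show ι (F 1) = ((1 : R) • u) ⊗ₜ[k] ((1 : S) • v)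
      rw [one_smul, one_smul, ← TensorProduct.smul_tmul', hc₀, smul_smul, inv_mul_cancel₀ hc00, one_smul]
    rw [hFt]
    show segι CR.gr CS.gr D.isSegre (t • F 1) = _
    rw [segι_smul]
    refine (congrArg _ h1).trans ((act_map Φ Φ' (ψ t) (1 ⊗ₜ[k] 1)).trans (congrArg μ (mul_one _)))
  have hxne : ∀ i : ℕ, ∃ c ∈ CR.gr (d + i), c ≠ 0 := exists_ne_zero_above keyR ⟨x₀, hx₀, hx00⟩
  have hyne : ∀ i : ℕ, ∃ c ∈ CS.gr (d + i), c ≠ 0 := exists_ne_zero_above keyS ⟨y₀, hy₀, hy00⟩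
  have hSne : ∀ i : ℤ, 0 ≤ i → ∃ s ∈ ℬ i, s ≠ 0 := fun i hi => by
    by_contra h; push Not at h; exact exists_piece_ne_zero D.posS h0S hstdS hdimS hi h
  have hRne : ∀ i : ℤ, 0 ≤ i → ∃ r ∈ 𝒜 i, r ≠ 0 := fun i hi => by
    by_contra h; push Not at h; exact exists_piece_ne_zero D.posR h0R hstdR hdimR hi h
  have hker : ∀ i, ∀ r ∈ 𝒜 i, ∀ s ∈ ℬ i, Φ r ⊗ₜ[k] Φ' s = 0 → r ⊗ₜ[k] s = 0 := fun i r hr' s hs' h => by
    obtain ⟨t, -, ht⟩ := D.exists_preimage (g := i) (w := r ⊗ₜ[k] s) (Submodule.subset_span ⟨r, hr', s, hs', rfl⟩)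
    have : ι (F t) = 0 := by rw [hμ, ht]; exact h
    rw [← ht, hF.1 ((hι (this.trans (map_zero ι).symm)).trans (map_zero F).symm), map_zero]
  have himg : ∀ i, ∀ w ∈ GrSeg.segrePiece k CR.gr CS.gr (i + d), ∃ t ∈ 𝒯 i, μ (ψ t) = w := fun i w hw => by
    obtain ⟨p, hp, rfl⟩ := exists_segι_piece CR.gr CS.gr D.isSegre hw
    obtain ⟨t, ht, rfl⟩ := exists_deg_preimage hF.2 hFd hp
    exact ⟨t, ht, (hμ t).symm⟩
  have hΦ : Function.Bijective Φ := bijective_of_pieces hΦd (fun i r hr' h0 => by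
      rcases lt_or_ge i 0 with hi | hi
      · exact ΓR.pos i hi r hr'
      obtain ⟨s, hs', hs0⟩ := hSne i hi
      exact eq_zero_of_tmul_eq_zero (hker i r hr' s hs' (by rw [h0, TensorProduct.zero_tmul])) hs0)
    fun i x hx => by
      rcases lt_or_ge i 0 with hi | hi
      · exact ⟨0, zero_mem _, by rw [map_zero, hlowR _ (by omega) x hx]⟩
      obtain ⟨y, hy, hy0⟩ := hyne i.toNat
      rw [Int.toNat_of_nonneg hi, add_comm] at hy
      obtain ⟨φ, hφ⟩ := exists_functional_eq_one (k := k) hy0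
      obtain ⟨t, ht, htw⟩ := himg i _ (Submodule.subset_span ⟨x, hx, y, hy, rfl⟩)
      have h2 : ∀ w ∈ GrSeg.segrePiece k 𝒜 ℬ i, ∃ r ∈ 𝒜 i, Φ r = contractRight φ (μ w) := fun w hw => by
        refine Submodule.span_induction (p := fun w _ => ∃ r ∈ 𝒜 i, Φ r = contractRight φ (μ w)) ?_
          ⟨0, zero_mem _, by simp⟩
          (fun p q _ _ ⟨r, hr', e⟩ ⟨r', hr'', e'⟩ => ⟨r + r', add_mem hr' hr'', by rw [map_add, map_add, map_add, e, e']⟩)
          (fun c p _ ⟨r, hr', e⟩ => ⟨c • r, Submodule.smul_mem _ c hr', by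
            rw [map_smul μ, map_smul (contractRight φ), ← e]
            exact LinearMap.map_smul (Φ.restrictScalars k) c r⟩) hw
        rintro _ ⟨r, hr', s, -, rfl⟩
        refine ⟨φ (Φ' s) • r, Submodule.smul_mem _ _ hr', ?_⟩
        rw [TensorProduct.map_tmul, contractRight_tmul]
        exact LinearMap.map_smul (Φ.restrictScalars k) _ r
      obtain ⟨r, hr', e⟩ := h2 _ ((D.isSegre.2 i).le ⟨t, ht, rfl⟩)
      refine ⟨r, hr', e.trans ?_⟩
      show contractRight φ (μ (ψ t)) = x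
      rw [htw, contractRight_tmul, hφ, one_smul]
  have hΦ' : Function.Bijective Φ' := bijective_of_pieces hΦ'd (fun i s hs' h0 => by
      rcases lt_or_ge i 0 with hi | hi
      · exact ΓS.pos i hi s hs'
      obtain ⟨r, hr', hr0⟩ := hRne i hi
      exact eq_zero_of_tmul_eq_zero' (hker i r hr' s hs' (by rw [h0, TensorProduct.tmul_zero])) hr0)
    fun i y hy => by
      rcases lt_or_ge i 0 with hi | hi
      · exact ⟨0, zero_mem _, by rw [map_zero, hlowS _ (by omega) y hy]⟩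
      obtain ⟨x, hx, hx0⟩ := hxne i.toNat
      rw [Int.toNat_of_nonneg hi, add_comm] at hx
      obtain ⟨φ, hφ⟩ := exists_functional_eq_one (k := k) hx0
      obtain ⟨t, ht, htw⟩ := himg i _ (Submodule.subset_span ⟨x, hx, y, hy, rfl⟩)
      have h2 : ∀ w ∈ GrSeg.segrePiece k 𝒜 ℬ i, ∃ s ∈ ℬ i, Φ' s = contractLeft φ (μ w) := fun w hw => by
        refine Submodule.span_induction (p := fun w _ => ∃ s ∈ ℬ i, Φ' s = contractLeft φ (μ w)) ?_
          ⟨0, zero_mem _, by simp⟩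
          (fun p q _ _ ⟨r, hr', e⟩ ⟨r', hr'', e'⟩ => ⟨r + r', add_mem hr' hr'', by rw [map_add, map_add, map_add, e, e']⟩)
          (fun c p _ ⟨r, hr', e⟩ => ⟨c • r, Submodule.smul_mem _ c hr', by
            rw [map_smul μ, map_smul (contractLeft φ), ← e]
            exact LinearMap.map_smul (Φ'.restrictScalars k) c r⟩) hw
        rintro _ ⟨r, -, s, hs', rfl⟩
        refine ⟨φ (Φ r) • s, Submodule.smul_mem _ _ hs', ?_⟩
        rw [TensorProduct.map_tmul, contractLeft_tmul]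
        exact LinearMap.map_smul (Φ'.restrictScalars k) _ s
      obtain ⟨r, hr', e⟩ := h2 _ ((D.isSegre.2 i).le ⟨t, ht, rfl⟩)
      refine ⟨r, hr', e.trans ?_⟩
      show contractLeft φ (μ (ψ t)) = y
      rw [htw, contractLeft_tmul, hφ, one_smul]
  exact ⟨(ΓR.gorenstein_iff_shift heR hr hCR).2 ⟨d, Φ, hΦ, hΦd⟩,
    (ΓS.gorenstein_iff_shift heS hs hCS).2 ⟨d, Φ', hΦ', hΦ'd⟩,
    (endDeg_of_shift ΓR heR hCR hΦ hΦd).trans (endDeg_of_shift ΓS heS hCS hΦ' hΦ'd).symm, hneg⟩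

end Groth.Agent.SegLC
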