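import Groth.Agent.Lib.SegLC.GorSeg
import Groth.Agent.Lib.Goren15.FieldExt

/-!
# Gorenstein Segre products of one-dimensional rings
-/

universe u

open DirectSum TensorProduct
open Groth.Agent.GrLC21 Groth.Agent.GrSegLib

noncomputable section

set_option linter.unusedSectionVars false
set_option maxHeartbeats 1000000

namespace Groth.Agent.SegLC

variable {k : Type u} [Field k]

section Std

variable {R : Type u} [CommRing R] [Algebra k R] [IsNoetherianRing R] [Nontrivial R] [Algebra.FiniteType k R]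
  [LocCoh.IsCohenMacaulayRing R] {𝒜 : ℤ → Submodule k R} [GradedAlgebra 𝒜]
  (hpos : ∀ n : ℤ, n < 0 → 𝒜 n = ⊥) (h0 : 𝒜 0 = Submodule.span k {(1 : R)})
  (hstd : Ideal.span (⋃ n ∈ Set.Ioi (0 : ℤ), (𝒜 n : Set R)) = Ideal.span ((𝒜 1 : Submodule k R) : Set R))
  (hdim : ringKrullDim R = 1)

include hpos h0 hstd hdim in
/-- A positive piece of rank at most one makes a standard one-dimensional Cohen-Macaulay algebra generated by
one linear form. -/
theorem exists_linear_generator {n : ℕ} (hn : 0 < n) {w : R} (hw : 𝒜 (n : ℤ) ≤ Submodule.span k {w}) :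
    ∃ y ∈ 𝒜 1, (∀ j : ℕ, y ^ j ≠ 0) ∧ 𝒜 1 ≤ Submodule.span k {y} := by
  obtain ⟨y, hy, hy0⟩ := exists_linear_not_nilpotent hpos h0 hstd hdim.ge
  have hyp : ∀ m : ℕ, y ^ m ∈ 𝒜 (m : ℤ) := fun m => by simpa using SetLike.pow_mem_graded m hy
  have hbase : 𝒜 (n : ℤ) ≤ Submodule.span k {y ^ n} := by
    obtain ⟨c, hc⟩ := Submodule.mem_span_singleton.1 (hw (hyp n))
    have hc0 : c ≠ 0 := fun e => hy0 n (by rw [← hc, e, zero_smul])
    refine hw.trans (Submodule.span_le.2 ?_)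
    rintro _ rfl
    exact Submodule.mem_span_singleton.2 ⟨c⁻¹, by rw [← hc, smul_smul, inv_mul_cancel₀ hc0, one_smul]⟩
  have hup : ∀ j : ℕ, 𝒜 ((n + j : ℕ) : ℤ) ≤ Submodule.span k {y ^ (n + j)} := by
    intro j
    induction j with
    | zero => simpa using hbase
    | succ j ih =>
      intro x hx
      refine (Submodule.span_le.2 ?_) (GrSegLib.piece_succ_le 𝒜 hstd (n := ((n + j : ℕ) : ℤ)) (by omega)
        (show x ∈ 𝒜 (((n + j : ℕ) : ℤ) + 1) by simpa [add_assoc] using hx))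
      rintro _ ⟨u, hu, v, hv, rfl⟩
      obtain ⟨c, rfl⟩ := Submodule.mem_span_singleton.1 (ih hv)
      obtain ⟨i, hi⟩ : ∃ i, n + j = i + 1 := ⟨n + j - 1, by omega⟩
      have hm : u * y ^ i ∈ 𝒜 ((n + j : ℕ) : ℤ) := by
        have h := SetLike.mul_mem_graded hu (hyp i)
        rwa [show (1 : ℤ) + i = ((n + j : ℕ) : ℤ) by omega] at h
      obtain ⟨c', hc'⟩ := Submodule.mem_span_singleton.1 (ih hm)
      refine Submodule.mem_span_singleton.2 ⟨c * c', ?_⟩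
      rw [show n + (j + 1) = n + j + 1 from rfl, mul_smul_comm]
      nth_rewrite 2 [hi]
      rw [pow_succ, pow_succ, ← mul_assoc u, ← hc', smul_mul_assoc, smul_smul]
  refine ⟨y, hy, hy0, fun u hu => ?_⟩
  obtain ⟨e, he, z, hz, hreg, -⟩ := exists_regular_homogeneous hpos h0 hdim
  have hmem : ∀ x ∈ 𝒜 1, z ^ n * x ∈ 𝒜 ((n + (n * (e - 1) + 1) : ℕ) : ℤ) := fun x hx => by
    have h := SetLike.mul_mem_graded (SetLike.pow_mem_graded n hz) hx
    rwa [show n • ((e : ℕ) : ℤ) + 1 = ((n + (n * (e - 1) + 1) : ℕ) : ℤ) by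
      obtain ⟨e, rfl⟩ : ∃ j, e = j + 1 := ⟨e - 1, by omega⟩
      simp only [Nat.add_sub_cancel, nsmul_eq_mul]
      push_cast
      ring] at h
  obtain ⟨c, hc⟩ := Submodule.mem_span_singleton.1 (hup _ (hmem u hu))
  obtain ⟨c', hc'⟩ := Submodule.mem_span_singleton.1 (hup _ (hmem y hy))
  have hzr := hreg.pow n
  have hc'0 : c' ≠ 0 := fun e' => by
    refine hy0 1 ((pow_one y).trans (hzr ?_))
    show z ^ n • y = z ^ n • (0 : R)
    rw [smul_zero, smul_eq_mul, ← hc', e', zero_smul]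
  refine Submodule.mem_span_singleton.2 ⟨c * c'⁻¹, hzr ?_⟩
  show z ^ n • ((c * c'⁻¹) • y) = z ^ n • u
  rw [smul_eq_mul, smul_eq_mul, mul_smul_comm, ← hc', smul_smul, inv_mul_cancel_right₀ hc'0, hc]

include hpos h0 hdim in
theorem exists_rank_one_piece_of_van (hvan : ∀ n : ℤ, 0 ≤ n → Van (irr 𝒜) 1 n (toGMod 𝒜 𝒜)) :
    ∃ n : ℕ, 0 < n ∧ ∃ w : R, 𝒜 (n : ℤ) ≤ Submodule.span k {w} := by
  obtain ⟨e, he, z, hz, hreg, hrad⟩ := exists_regular_homogeneous hpos h0 hdim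
  refine ⟨e, by omega, z, fun w hw => ?_⟩
  obtain ⟨v, hv, rfl⟩ := exists_mul_of_van hpos h0 hdim hvan hz hreg hrad le_rfl hw
  rw [sub_self, h0] at hv
  obtain ⟨c, rfl⟩ := Submodule.mem_span_singleton.1 hv
  exact Submodule.mem_span_singleton.2 ⟨c, by rw [mul_smul_comm, mul_one]⟩

include hpos h0 hstd in
/-- The algebra generated by a non-nilpotent linear form is a polynomial ring. -/
theorem aeval_linear_bijective {y : R} (hy : y ∈ 𝒜 1) (hy0 : ∀ j : ℕ, y ^ j ≠ 0)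
    (hR1 : 𝒜 1 ≤ Submodule.span k {y}) : Function.Bijective (Polynomial.aeval (R := k) y) := by
  classical
  refine ⟨?_, fun x => ?_⟩
  · rw [injective_iff_map_eq_zero]
    intro p hp
    ext i
    have h := congrArg (GrLC21.proj 𝒜 (i : ℤ)) hp
    rw [map_zero, Polynomial.aeval_eq_sum_range' (n := max (p.natDegree + 1) (i + 1)) (by omega), map_sum,
      Finset.sum_eq_single i] at h
    · rw [GrLC21.proj_of_mem 𝒜 (Submodule.smul_mem _ _ (by simpa using SetLike.pow_mem_graded i hy))] at h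
      rw [Polynomial.coeff_zero]
      exact (smul_eq_zero.1 h).resolve_right (hy0 i)
    · intro l _ hl
      exact GrLC21.proj_of_mem_ne 𝒜 (g := (i : ℤ)) (h := (l : ℤ))
        (Submodule.smul_mem _ _ (by simpa using SetLike.pow_mem_graded l hy)) (by simpa using hl)
    · intro hi
      simp at hi
  · have hx : x ∈ (Polynomial.aeval (R := k) y).range := by
      rw [← DirectSum.sum_support_decompose 𝒜 x]
      refine Subalgebra.sum_mem _ fun n _ => ?_
      by_cases hn : n < 0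
      · have hmem : (DirectSum.decompose 𝒜 x n : R) = 0 := posA hpos n hn _ (DirectSum.decompose 𝒜 x n).2
        rw [hmem]
        exact Subalgebra.zero_mem _
      · obtain ⟨i, rfl⟩ := Int.eq_ofNat_of_zero_le (not_lt.1 hn)
        obtain ⟨d, hd⟩ := Submodule.mem_span_singleton.1 (piece_eq_span_pow h0 hstd hR1 i (DirectSum.decompose 𝒜 x i).2)
        exact ⟨Polynomial.C d * Polynomial.X ^ i, by
          rw [← hd]
          simp [Algebra.smul_def]⟩
    exact hx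

include hpos h0 hstd hdim in
/-- A positive piece of rank at most one makes a polynomial ring in one variable. -/
theorem nonempty_algEquiv_of_rank_one {n : ℕ} (hn : 0 < n) {w : R} (hw : 𝒜 (n : ℤ) ≤ Submodule.span k {w}) :
    Nonempty (R ≃ₐ[k] Polynomial k) := by
  obtain ⟨y, hy, hy0, hR1⟩ := exists_linear_generator hpos h0 hstd hdim hn hw
  exact ⟨(AlgEquiv.ofBijective (Polynomial.aeval (R := k) y) (aeval_linear_bijective hpos h0 hstd hy hy0 hR1)).symm⟩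

include h0 in
theorem le_span_of_finrank_le_one {g : ℤ} (h : Module.finrank k (pieceK (toGMod 𝒜 𝒜) g) ≤ 1) :
    ∃ w : R, 𝒜 g ≤ Submodule.span k {w} := by
  have := finite_piece (𝒞 := 𝒜) 𝒜 h0 g
  obtain ⟨v, hv⟩ := finrank_le_one_iff.1 h
  refine ⟨(v.1 : R), fun x hx => ?_⟩
  obtain ⟨c, hc⟩ := hv ⟨x, hx⟩
  exact Submodule.mem_span_singleton.2 ⟨c, (algebraMap_smul (M := R) R c v.1).symm.trans (congrArg Subtype.val hc)⟩

end Std

variable {R : Type u} [CommRing R] [Algebra k R] {𝒜 : ℤ → Submodule k R} [GradedAlgebra 𝒜]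
  {S : Type u} [CommRing S] [Algebra k S] {ℬ : ℤ → Submodule k S} [GradedAlgebra ℬ]
  {T : Type u} [CommRing T] [Algebra k T] {𝒯 : ℤ → Submodule k T} [GradedAlgebra 𝒯]
  {ψ : T →ₐ[k] R ⊗[k] S} {mR : HomogeneousIdeal 𝒜} {mS : HomogeneousIdeal ℬ} {mT : HomogeneousIdeal 𝒯}
  (D : Data 𝒜 ℬ 𝒯 ψ mR mS mT)
  (h0R : 𝒜 0 = Submodule.span k {(1 : R)}) (h0S : ℬ 0 = Submodule.span k {(1 : S)})

variable [Algebra.FiniteType k R] [Algebra.FiniteType k S] [IsNoetherianRing R] [IsNoetherianRing S]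
  [IsNoetherianRing T] [Nontrivial R] [Nontrivial S]

include D h0R h0S in
/-- The Segre product with a polynomial ring in one variable changes nothing. -/
theorem Data.nonempty_ringEquiv_of_linear [LocCoh.IsCohenMacaulayRing S]
    (hstdS : Ideal.span (⋃ n ∈ Set.Ioi (0 : ℤ), (ℬ n : Set S)) = Ideal.span ((ℬ 1 : Submodule k S) : Set S))
    {y : S} (hy : y ∈ ℬ 1) (hy0 : ∀ j : ℕ, y ^ j ≠ 0) (hS1 : ℬ 1 ≤ Submodule.span k {y}) : Nonempty (T ≃+* R) := by
  let e := AlgEquiv.ofBijective (Polynomial.aeval (R := k) y) (aeval_linear_bijective D.posS h0S hstdS hy hy0 hS1)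
  let ev : S →ₐ[k] k := (Polynomial.aeval (1 : k)).comp e.symm.toAlgHom
  have hev : ∀ j : ℕ, ev (y ^ j) = 1 := fun j => by
    have : e.symm y = Polynomial.X := e.injective (by rw [AlgEquiv.apply_symm_apply]; simp [e])
    rw [map_pow]
    show (Polynomial.aeval (1 : k) (e.symm y)) ^ j = 1
    rw [this, Polynomial.aeval_X, one_pow]
  let c : R ⊗[k] S →ₐ[k] R :=
    (Algebra.TensorProduct.rid k k R).toAlgHom.comp (Algebra.TensorProduct.map (AlgHom.id k R) ev)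
  have hc : ∀ r s, c (r ⊗ₜ[k] s) = ev s • r := fun r s => rfl
  have hpiece : ∀ i : ℕ, ∀ s ∈ ℬ (i : ℤ), ∃ a : k, s = a • y ^ i := fun i s hs => by
    obtain ⟨a, ha⟩ := Submodule.mem_span_singleton.1 (piece_eq_span_pow h0S hstdS hS1 i hs)
    exact ⟨a, ha.symm⟩
  have hw : ∀ i : ℕ, ∀ w ∈ GrSeg.segrePiece k 𝒜 ℬ (i : ℤ), c w ∈ 𝒜 (i : ℤ) ∧ w = c w ⊗ₜ[k] (y ^ i) := by
    intro i w hw
    refine Submodule.span_induction (p := fun w _ => c w ∈ 𝒜 (i : ℤ) ∧ w = c w ⊗ₜ[k] (y ^ i)) ?_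
      ⟨by rw [map_zero]; exact zero_mem _, by rw [map_zero, TensorProduct.zero_tmul]⟩
      (fun p q _ _ hp hq => ⟨by rw [map_add]; exact add_mem hp.1 hq.1,
        by rw [map_add, TensorProduct.add_tmul, ← hp.2, ← hq.2]⟩)
      (fun a p _ hp => ⟨by rw [map_smul]; exact Submodule.smul_mem _ a hp.1,
        by rw [map_smul, ← TensorProduct.smul_tmul', ← hp.2]⟩) hw
    rintro _ ⟨r, hr, s, hs, rfl⟩
    obtain ⟨a, rfl⟩ := hpiece i s hs
    rw [hc, map_smul, hev, smul_eq_mul, mul_one]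
    exact ⟨Submodule.smul_mem _ a hr, by rw [TensorProduct.tmul_smul, TensorProduct.smul_tmul']⟩
  have hneg : ∀ i : ℤ, i < 0 → ∀ t ∈ 𝒯 i, t = 0 := by
    obtain ⟨_, h0T⟩ := D.deg0T h0R h0S
    refine fun i hi t ht => D.isSegre.1 ?_
    rw [map_zero]
    refine (Submodule.mem_bot k).1 ((Submodule.span_le.2 ?_) ((D.isSegre.2 i).le ⟨t, ht, rfl⟩))
    rintro _ ⟨p, hp, q, -, rfl⟩
    show p ⊗ₜ[k] q = 0
    rw [posA D.posR i hi p hp, TensorProduct.zero_tmul]
  let θ : T →ₐ[k] R := c.comp ψ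
  have hθd : ∀ i, ∀ t ∈ 𝒯 i, θ t ∈ 𝒜 i := fun i t ht => by
    rcases lt_or_ge i 0 with hi | hi
    · rw [hneg i hi t ht, map_zero]; exact zero_mem _
    obtain ⟨j, rfl⟩ := Int.eq_ofNat_of_zero_le hi
    exact (hw j _ ((D.isSegre.2 _).le ⟨t, ht, rfl⟩)).1
  have hθp : ∀ i t, GrLC21.proj 𝒜 i (θ t) = θ (GrLC21.proj 𝒯 i t) := fun i t => by
    refine spans_induction (spans_of_decomposition 𝒯) t (by simp) (fun a b ha hb => by simp only [map_add, ha, hb])
      fun l a ha => ?_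
    rcases eq_or_ne l i with rfl | hl
    · rw [proj_of_mem 𝒯 ha, proj_of_mem 𝒜 (hθd l a ha)]
    · rw [proj_of_mem_ne 𝒯 ha hl, map_zero, proj_of_mem_ne 𝒜 (hθd l a ha) hl]
  refine ⟨(AlgEquiv.ofBijective θ ⟨?_, fun r => ?_⟩).toRingEquiv⟩
  · refine (injective_iff_map_eq_zero θ).2 fun t ht => eq_zero_of_proj 𝒯 fun i => ?_
    have h := hθp i t
    rw [ht, map_zero] at h
    rcases lt_or_ge i 0 with hi | hi
    · exact hneg i hi _ (GrLC21.proj_mem 𝒯 i t)
    obtain ⟨j, rfl⟩ := Int.eq_ofNat_of_zero_le hi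
    refine D.isSegre.1 ?_
    rw [map_zero]
    refine (hw j _ ((D.isSegre.2 _).le ⟨_, GrLC21.proj_mem 𝒯 (j : ℤ) t, rfl⟩)).2.trans ?_
    show θ _ ⊗ₜ[k] _ = 0
    rw [← h, TensorProduct.zero_tmul]
  · refine spans_induction (P := fun r => ∃ t, θ t = r) (spans_of_decomposition 𝒜) r ⟨0, map_zero θ⟩
      (fun a b ⟨p, hp⟩ ⟨q, hq⟩ => ⟨p + q, by rw [map_add, hp, hq]⟩) fun i a ha => ?_
    rcases lt_or_ge i 0 with hi | hi
    · exact ⟨0, by rw [map_zero, posA D.posR i hi a ha]⟩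
    obtain ⟨j, rfl⟩ := Int.eq_ofNat_of_zero_le hi
    obtain ⟨t, -, ht⟩ := D.exists_preimage (g := (j : ℤ)) (w := a ⊗ₜ[k] (y ^ j))
      (Submodule.subset_span ⟨a, ha, y ^ j, by simpa using SetLike.pow_mem_graded j hy, rfl⟩)
    exact ⟨t, by show c (ψ t) = a; rw [ht, hc, hev, one_smul]⟩

include D h0R h0S in
/-- A one-dimensional Gorenstein Segre product has a polynomial factor, and the other factor is Gorenstein. -/
theorem Data.polynomial_and_gorenstein_dim_one [LocCoh.IsCohenMacaulayRing R] [LocCoh.IsCohenMacaulayRing S]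
    [LocCoh.IsGorensteinRing T]
    (hstdR : Ideal.span (⋃ n ∈ Set.Ioi (0 : ℤ), (𝒜 n : Set R)) = Ideal.span ((𝒜 1 : Submodule k R) : Set R))
    (hstdS : Ideal.span (⋃ n ∈ Set.Ioi (0 : ℤ), (ℬ n : Set S)) = Ideal.span ((ℬ 1 : Submodule k S) : Set S))
    (hr : ringKrullDim R = 1) (hs : ringKrullDim S = 1) (hR : IsEmpty (R ≃ₐ[k] Polynomial k)) :
    Nonempty (S ≃ₐ[k] Polynomial k) ∧ LocCoh.IsGorensteinRing R := by
  obtain ⟨_, ΓR, ΓS, ΓT⟩ := D.fieldCtx h0R h0S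
  haveI := isCohenMacaulayRing_of_gorenstein (R := T)
  have hRi : mR = irr 𝒜 := HomogeneousIdeal.ext (D.irrR.trans (irr_toIdeal (𝒞 := 𝒜)).symm)
  have hSi : mS = irr ℬ := HomogeneousIdeal.ext (D.irrS.trans (irr_toIdeal (𝒞 := ℬ)).symm)
  suffices hS : ∃ n : ℕ, 0 < n ∧ ∃ w : S, ℬ (n : ℤ) ≤ Submodule.span k {w} by
    obtain ⟨n, hn, w, hw⟩ := hS
    refine ⟨nonempty_algEquiv_of_rank_one D.posS h0S hstdS hs hn hw, ?_⟩
    obtain ⟨y, hy, hy0, hS1⟩ := exists_linear_generator D.posS h0S hstdS hs hn hw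
    obtain ⟨e⟩ := D.nonempty_ringEquiv_of_linear h0R h0S hstdS hy hy0 hS1
    exact Goren15.isGorensteinRing_of_ringEquiv e
  by_contra hno
  push Not at hno
  obtain ⟨I⟩ := nonempty_res (𝒜 := 𝒜) 𝒜
  obtain ⟨J⟩ := nonempty_res (𝒜 := ℬ) ℬ
  obtain ⟨IT⟩ := nonempty_res (𝒜 := 𝒯) 𝒯
  -- the Cohen-Macaulay rings have no torsion
  have hI0 : ∀ g, I.Hcomp mR 0 g = ⊥ := fun g => (Hcomp_eq_bot_iff_van I).2
    (GrLC21.van_self_of_ne ΓR.pos ΓR.starLocal (d := 1) (by simpa using hr) (by omega) g)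
  have hJ0 : ∀ g, J.Hcomp mS 0 g = ⊥ := fun g => (Hcomp_eq_bot_iff_van J).2
    (GrLC21.van_self_of_ne ΓS.pos ΓS.starLocal (d := 1) (by simpa using hs) (by omega) g)
  have hformula := D.finrank_formula h0R h0S I J IT hI0 hJ0
    (GrSegLib.isSegreMod_self 𝒜 ℬ 𝒯 D.isSegre.1 D.isSegre.2) 1
  obtain ⟨_, h0T⟩ := D.deg0T h0R h0S
  have hz : ∀ {A : Type u} [CommRing A] [Algebra k A] [Nontrivial A] [IsNoetherianRing A] {𝒞 : ℤ → Submodule k A}
      [GradedAlgebra 𝒞] (h0 : 𝒞 0 = Submodule.span k {(1 : A)}) (E : GrLC.StarInjRes 𝒞 𝒞) (m : HomogeneousIdeal 𝒞)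
      (g : ℤ), E.Hcomp m 0 g = ⊥ → Module.finrank (GrLC.deg0 𝒞) (E.Hcomp m 0 g) = 0 := by
    intro A _ _ _ _ 𝒞 _ h0 E m g h
    rw [h, finrank_bot]
  have hsum : ∀ g, (Finset.range (1 + 2)).sum (fun i => Module.finrank (GrLC.deg0 𝒜) (I.Hcomp mR i g) *
      Module.finrank (GrLC.deg0 ℬ) (J.Hcomp mS (1 + 1 - i) g)) =
      Module.finrank (GrLC.deg0 𝒜) (I.Hcomp mR 1 g) * Module.finrank (GrLC.deg0 ℬ) (J.Hcomp mS 1 g) := fun g => by
    rw [Finset.sum_range_succ, Finset.sum_range_succ, Finset.sum_range_one, hz h0R I mR g (hI0 g)]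
    simp [hz h0S J mS g (hJ0 g)]
  simp only [hsum] at hformula
  -- the numbers of the top piece of the Gorenstein ring
  have hT : ringKrullDim T = ((1 : ℕ) : ℕ) := by
    rw [GrSegLib.ringKrullDim_segre 𝒜 ℬ 𝒯 (a := 0) (b := 0) D.posR h0R D.posS h0S D.isSegre.1 D.isSegre.2
      (by simpa using hr) (by simpa using hs)]
  obtain ⟨ET, eT, heT⟩ := exists_residue_hull (𝒜 := 𝒯) mT
  obtain ⟨C, hC⟩ := ΓT.exists_canonical heT 1 IT
  obtain ⟨d, f, hf, hfd⟩ := (ΓT.gorenstein_iff_shift heT hT hC).1 inferInstance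
  haveI : Nontrivial (GrLC.deg0 𝒯) := ⟨ΓT.isField.exists_pair_ne⟩
  have htop : ∀ g, -d < g → Module.finrank (GrLC.deg0 𝒯) (IT.Hcomp mT 1 g) = 0 := fun g hg => by
    rw [show g = -(-g) from (neg_neg g).symm, ← ΓT.finrank_canonical heT hC]
    have : Subsingleton (GrLC.comp 𝒯 C.gr (-g)) := subsingleton_of_forall_eq 0 fun x => Subtype.ext (by
      obtain ⟨r, hr', e⟩ := exists_deg_preimage hf.2 hfd (i := -g - d) (c := x.1) (by rw [sub_add_cancel]; exact x.2)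
      rw [← e, ΓT.pos _ (by omega) r hr', map_zero]
      rfl)
    exact Module.finrank_zero_of_subsingleton
  have hone : Module.finrank (GrLC.deg0 𝒯) (IT.Hcomp mT 1 (-d)) ≤ 1 := by
    rw [← ΓT.finrank_canonical heT hC, finrank_comp_eq _ h0T]
    refine finrank_le_one ⟨f 1, zero_add d ▸ hfd 0 1 SetLike.GradedOne.one_mem⟩ fun x => ?_
    obtain ⟨r, hr', e⟩ := exists_deg_preimage hf.2 hfd (i := 0) (c := x.1) (by rw [zero_add]; exact x.2)
    obtain ⟨c, rfl⟩ := Submodule.mem_span_singleton.1 (h0T.le hr')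
    refine ⟨c, Subtype.ext (Eq.trans ?_ e)⟩
    rw [Algebra.smul_def, mul_one]
    show algebraMap k T c • f 1 = _
    rw [← map_smul, smul_eq_mul, mul_one]
  have hposA : ∀ g : ℤ, 0 ≤ g → 1 ≤ Module.finrank (GrLC.deg0 𝒜) (GrLC.comp 𝒜 𝒜 g) := fun g hg => by
    rw [finrank_comp_eq _ h0R]
    have := finite_piece (𝒞 := 𝒜) 𝒜 h0R g
    have hne := exists_piece_ne_zero D.posR h0R hstdR hr.ge hg
    push Not at hne
    obtain ⟨x, hx, hx0⟩ := hne
    exact Module.finrank_pos_iff_exists_ne_zero.2 ⟨⟨x, hx⟩, fun h => hx0 (congrArg Subtype.val h)⟩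
  have hposB : ∀ g : ℤ, 0 ≤ g → 1 ≤ Module.finrank (GrLC.deg0 ℬ) (GrLC.comp ℬ ℬ g) := fun g hg => by
    rw [finrank_comp_eq _ h0S]
    have := finite_piece (𝒞 := ℬ) ℬ h0S g
    have hne := exists_piece_ne_zero D.posS h0S hstdS hs.ge hg
    push Not at hne
    obtain ⟨x, hx, hx0⟩ := hne
    exact Module.finrank_pos_iff_exists_ne_zero.2 ⟨⟨x, hx⟩, fun h => hx0 (congrArg Subtype.val h)⟩
  -- both factors have cohomology in a non-negative degree
  have hzero : ∀ {A : Type u} [CommRing A] [Algebra k A] [Nontrivial A] [IsNoetherianRing A] {𝒞 : ℤ → Submodule k A}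
      [GradedAlgebra 𝒞] (h0 : 𝒞 0 = Submodule.span k {(1 : A)}) (hp : ∀ n : ℤ, n < 0 → 𝒞 n = ⊥)
      (E : GrLC.StarInjRes 𝒞 𝒞) (m : HomogeneousIdeal 𝒞)
      (hm : m.toIdeal = Ideal.span (⋃ n ∈ Set.Ioi (0 : ℤ), (𝒞 n : Set A))) (g : ℤ),
      Module.finrank (GrLC.deg0 𝒞) (E.Hcomp m 1 g) = 0 → E.Hcomp m 1 g = ⊥ := by
    intro A _ _ _ _ 𝒞 _ h0 hp E m hm g h
    rw [finrank_Hcomp_eq E m h0] at h
    have := finite_Hcomp_piece E m h0 hp hm 1 g
    have := Module.finrank_zero_iff.1 h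
    obtain ⟨j, -⟩ := hcomp_piece E m 1 g
    exact Submodule.subsingleton_iff_eq_bot.1 j.symm.toEquiv.subsingleton
  obtain ⟨n₁, hn₁, hI1⟩ : ∃ g : ℤ, 0 ≤ g ∧ 1 ≤ Module.finrank (GrLC.deg0 𝒜) (I.Hcomp mR 1 g) := by
    by_contra h
    push Not at h
    refine hR.false (nonempty_algEquiv_of_van D.posR h0R hstdR hr fun g hg => ?_).some
    rw [← hRi]
    exact (Hcomp_eq_bot_iff_van I).1 (hzero h0R D.posR I mR D.irrR g (by have := h g hg; omega))
  obtain ⟨n₂, hn₂, hJ1⟩ : ∃ g : ℤ, 0 ≤ g ∧ 1 ≤ Module.finrank (GrLC.deg0 ℬ) (J.Hcomp mS 1 g) := by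
    by_contra h
    push Not at h
    obtain ⟨n, hn, w, hw⟩ := exists_rank_one_piece_of_van D.posS h0S hs fun g hg => by
      rw [← hSi]
      exact (Hcomp_eq_bot_iff_van J).1 (hzero h0S D.posS J mS D.irrS g (by have := h g hg; omega))
    exact hno n hn w hw
  have hle₁ : n₁ ≤ -d := by
    by_contra hlt
    have h := htop n₁ (by omega)
    rw [hformula] at h
    have := Nat.mul_le_mul hI1 (hposB n₁ hn₁)
    omega
  have hle₂ : n₂ ≤ -d := by
    by_contra hlt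
    have h := htop n₂ (by omega)
    rw [hformula] at h
    have := Nat.mul_le_mul (hposA n₂ hn₂) hJ1
    omega
  rw [hformula] at hone
  obtain ⟨g, hg⟩ : ∃ g, g = -d := ⟨_, rfl⟩
  rw [← hg] at hone hle₁ hle₂
  have hA := hposA g (by omega)
  have hB := hposB g (by omega)
  rcases Nat.eq_zero_or_pos (Module.finrank (GrLC.deg0 ℬ) (J.Hcomp mS 1 g)) with hJg | hJg
  · rcases Nat.eq_zero_or_pos (Module.finrank (GrLC.deg0 𝒜) (I.Hcomp mR 1 g)) with hIg | hIg
    · -- the top piece does not vanish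
      have hd1 : 1 ≤ Module.finrank (GrLC.deg0 𝒯) (GrLC.comp 𝒯 C.gr d) := by
        rw [finrank_comp_eq _ h0T]
        haveI : Module.Finite T C.carrier := hC.1
        have := finite_piece (𝒞 := 𝒯) C.gr h0T d
        exact Module.finrank_pos_iff_exists_ne_zero.2 ⟨⟨f 1, zero_add d ▸ hfd 0 1 SetLike.GradedOne.one_mem⟩,
          fun e => one_ne_zero (hf.1 ((congrArg Subtype.val e).trans (map_zero f).symm))⟩
      rw [ΓT.finrank_canonical heT hC d, ← hg, hformula, hIg, hJg] at hd1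
      simp at hd1
    · -- the piece of S in the top degree has rank one
      rw [hJg, Nat.mul_zero, Nat.mul_zero] at hone
      have hB1 : Module.finrank (GrLC.deg0 ℬ) (GrLC.comp ℬ ℬ g) = 1 := by
        have := Nat.mul_le_mul hIg (le_refl (Module.finrank (GrLC.deg0 ℬ) (GrLC.comp ℬ ℬ g)))
        omega
      rcases lt_or_eq_of_le (show (0 : ℤ) ≤ g by omega) with hg0 | hg0
      · obtain ⟨j, rfl⟩ := Int.eq_ofNat_of_zero_le hg0.le
        rw [finrank_comp_eq _ h0S] at hB1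
        obtain ⟨w, hw⟩ := le_span_of_finrank_le_one h0S hB1.le
        exact hno j (by omega) w hw
      · obtain rfl : n₂ = g := by omega
        omega
  · -- the piece of R in the top degree has rank one
    have hA1 : Module.finrank (GrLC.deg0 𝒜) (GrLC.comp 𝒜 𝒜 g) = 1 ∧
        Module.finrank (GrLC.deg0 𝒜) (I.Hcomp mR 1 g) = 0 := by
      have := Nat.mul_le_mul (le_refl (Module.finrank (GrLC.deg0 𝒜) (GrLC.comp 𝒜 𝒜 g))) hJg
      rcases Nat.eq_zero_or_pos (Module.finrank (GrLC.deg0 𝒜) (I.Hcomp mR 1 g)) with hIg | hIg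
      · exact ⟨by omega, hIg⟩
      · have := Nat.mul_le_mul hIg hB
        omega
    rcases lt_or_eq_of_le (show (0 : ℤ) ≤ g by omega) with hg0 | hg0
    · obtain ⟨j, rfl⟩ := Int.eq_ofNat_of_zero_le hg0.le
      obtain ⟨hA1, -⟩ := hA1
      rw [finrank_comp_eq _ h0R] at hA1
      obtain ⟨w, hw⟩ := le_span_of_finrank_le_one h0R hA1.le
      exact hR.false (nonempty_algEquiv_of_rank_one D.posR h0R hstdR hr (by omega) hw).some
    · obtain rfl : n₁ = g := by omega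
      omega

end Groth.Agent.SegLC
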