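import Groth.Agent.Lib.SegLC.Coh

/-!
# The Künneth formula for complexes of vector spaces
-/

universe u v w

open TensorProduct

noncomputable section

set_option linter.unusedSectionVars false

namespace Groth.Agent.SegLC

variable {k : Type u} [Field k]

/-- Bidegrees of total degree `n`. -/
abbrev AD (n : ℕ) : Type := {p : ℕ × ℕ // p.1 + p.2 = n}

instance (n : ℕ) : Fintype (AD n) :=
  Fintype.ofFinset (Finset.HasAntidiagonal.antidiagonal n) fun _ => Finset.HasAntidiagonal.mem_antidiagonal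

variable {A : ℕ → Type u} [∀ n, AddCommGroup (A n)] [∀ n, Module k (A n)] (dA : ∀ n, A n →ₗ[k] A (n + 1))
  {B : ℕ → Type u} [∀ n, AddCommGroup (B n)] [∀ n, Module k (B n)] (dB : ∀ n, B n →ₗ[k] B (n + 1))

variable (k A B) in
/-- The terms of the total complex. -/
abbrev Tot (n : ℕ) : Type u := (p : AD n) → A p.1.1 ⊗[k] B p.1.2

variable (k A B) in
/-- A component. -/
def cmp {n : ℕ} (i j : ℕ) (h : i + j = n) : Tot k A B n →ₗ[k] A i ⊗[k] B j :=
  LinearMap.proj (R := k) (φ := fun p : AD n => A p.1.1 ⊗[k] B p.1.2) ⟨(i, j), h⟩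

theorem cmp_apply {n : ℕ} (i j : ℕ) (h : i + j = n) (z : Tot k A B n) : cmp k A B i j h z = z ⟨(i, j), h⟩ := rfl

/-- The first part of the differential. -/
def totD₁ (n : ℕ) : (i j : ℕ) → i + j = n + 1 → (Tot k A B n →ₗ[k] A i ⊗[k] B j)
  | 0, _, _ => 0
  | i + 1, j, h => TensorProduct.map (dA i) LinearMap.id ∘ₗ cmp k A B i j (by omega)

/-- The second part of the differential. -/
def totD₂ (n : ℕ) : (i j : ℕ) → i + j = n + 1 → (Tot k A B n →ₗ[k] A i ⊗[k] B j)
  | _, 0, _ => 0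
  | i, j + 1, h => ((-1 : k) ^ i) • (TensorProduct.map LinearMap.id (dB j) ∘ₗ cmp k A B i j (by omega))

/-- The differential of the total complex. -/
def totD (n : ℕ) : Tot k A B n →ₗ[k] Tot k A B (n + 1) :=
  LinearMap.pi fun p => totD₁ dA n p.1.1 p.1.2 p.2 + totD₂ dB n p.1.1 p.1.2 p.2

theorem totD_dd (hA : ∀ n x, dA (n + 1) (dA n x) = 0) (hB : ∀ n x, dB (n + 1) (dB n x) = 0) (n : ℕ)
    (z : Tot k A B n) : totD dA dB (n + 1) (totD dA dB n z) = 0 := by
  have hA' : ∀ i, dA (i + 1) ∘ₗ dA i = 0 := fun i => LinearMap.ext (hA i)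
  have hB' : ∀ j, dB (j + 1) ∘ₗ dB j = 0 := fun j => LinearMap.ext (hB j)
  funext p
  obtain ⟨⟨i, j⟩, h⟩ := p
  rcases i with _ | _ | i <;> rcases j with _ | _ | j <;>
    simp [totD, totD₁, totD₂, cmp_apply, TensorProduct.map_map, hA', hB', pow_succ, smul_smul,
      LinearMap.pi_apply] at h ⊢

section Maps

variable {A' : ℕ → Type u} [∀ n, AddCommGroup (A' n)] [∀ n, Module k (A' n)] (dA' : ∀ n, A' n →ₗ[k] A' (n + 1))
  {B' : ℕ → Type u} [∀ n, AddCommGroup (B' n)] [∀ n, Module k (B' n)] (dB' : ∀ n, B' n →ₗ[k] B' (n + 1))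

/-- The map of total terms. -/
def totMap (f : ∀ n, A n →ₗ[k] A' n) (g : ∀ n, B n →ₗ[k] B' n) (n : ℕ) : Tot k A B n →ₗ[k] Tot k A' B' n :=
  LinearMap.pi fun p => TensorProduct.map (f p.1.1) (g p.1.2) ∘ₗ cmp k A B p.1.1 p.1.2 p.2

theorem totMap_comm {f : ∀ n, A n →ₗ[k] A' n} {g : ∀ n, B n →ₗ[k] B' n}
    (hf : ∀ n x, dA' n (f n x) = f (n + 1) (dA n x)) (hg : ∀ n x, dB' n (g n x) = g (n + 1) (dB n x))
    (n : ℕ) (z : Tot k A B n) :
    totD dA' dB' n (totMap f g n z) = totMap f g (n + 1) (totD dA dB n z) := by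
  have hf' : ∀ i, dA' i ∘ₗ f i = f (i + 1) ∘ₗ dA i := fun i => LinearMap.ext (hf i)
  have hg' : ∀ j, dB' j ∘ₗ g j = g (j + 1) ∘ₗ dB j := fun j => LinearMap.ext (hg j)
  funext p
  obtain ⟨⟨i, j⟩, h⟩ := p
  rcases i with _ | i <;> rcases j with _ | j <;>
    simp [totD, totD₁, totD₂, totMap, cmp_apply, TensorProduct.map_map, hf', hg', LinearMap.pi_apply] at h ⊢

theorem totMap_surjective {f : ∀ n, A n →ₗ[k] A' n} {g : ∀ n, B n →ₗ[k] B' n}
    (hf : ∀ n, Function.Surjective (f n)) (hg : ∀ n, Function.Surjective (g n)) (n : ℕ) :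
    Function.Surjective (totMap f g n) := fun z =>
  ⟨fun p => (TensorProduct.map_surjective (hf p.1.1) (hg p.1.2) (z p)).choose,
    funext fun p => (TensorProduct.map_surjective (hf p.1.1) (hg p.1.2) (z p)).choose_spec⟩

end Maps

section Kunneth

/-- The homotopy. -/
def totH (hA : ∀ n, A (n + 1) →ₗ[k] A n) (hB : ∀ n, B (n + 1) →ₗ[k] B n) (πA : ∀ n, A n →ₗ[k] A n) (n : ℕ) :
    Tot k A B (n + 1) →ₗ[k] Tot k A B n :=
  LinearMap.pi fun p =>
    TensorProduct.map (hA p.1.1) LinearMap.id ∘ₗ cmp k A B (p.1.1 + 1) p.1.2 (by have := p.2; omega) +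
      ((-1 : k) ^ p.1.1) • (TensorProduct.map (πA p.1.1) (hB p.1.2) ∘ₗ
        cmp k A B p.1.1 (p.1.2 + 1) (by have := p.2; omega))

theorem nonempty_range_pi {ι : Type} [Fintype ι] {M N : ι → Type u} [∀ i, AddCommGroup (M i)]
    [∀ i, Module k (M i)] [∀ i, AddCommGroup (N i)] [∀ i, Module k (N i)] (f : ∀ i, M i →ₗ[k] N i) :
    Nonempty (LinearMap.range (LinearMap.pi fun i => f i ∘ₗ LinearMap.proj (R := k) (φ := M) i) ≃ₗ[k]
      ((i : ι) → LinearMap.range (f i))) := by
  let F : LinearMap.range (LinearMap.pi fun i => f i ∘ₗ LinearMap.proj (R := k) (φ := M) i) →ₗ[k]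
      ((i : ι) → LinearMap.range (f i)) :=
    LinearMap.pi fun i => (LinearMap.proj (R := k) (φ := N) i ∘ₗ Submodule.subtype _).codRestrict _ fun z => by
      obtain ⟨x, hx⟩ := z.2
      exact ⟨x i, congrFun hx i⟩
  refine ⟨LinearEquiv.ofBijective F ⟨fun z z' h => Subtype.ext (funext fun i => congrArg Subtype.val (congrFun h i)), ?_⟩⟩
  intro w
  choose x hx using fun i => (w i).2
  exact ⟨⟨fun i => f i (x i), x, rfl⟩, funext fun i => Subtype.ext (hx i)⟩

theorem nonempty_range_map {M M' N N' : Type u} [AddCommGroup M] [Module k M] [AddCommGroup M'] [Module k M']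
    [AddCommGroup N] [Module k N] [AddCommGroup N'] [Module k N'] (f : M →ₗ[k] M') (g : N →ₗ[k] N') :
    Nonempty (LinearMap.range (TensorProduct.map f g) ≃ₗ[k] LinearMap.range f ⊗[k] LinearMap.range g) := by
  let F := TensorProduct.map (LinearMap.range f).subtype (LinearMap.range g).subtype
  have hF : Function.Injective F := by
    show Function.Injective (TensorProduct.map _ _)
    rw [← LinearMap.lTensor_comp_rTensor, LinearMap.coe_comp]
    exact (Module.Flat.lTensor_preserves_injective_linearMap _ (Submodule.injective_subtype _)).comp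
      (Module.Flat.rTensor_preserves_injective_linearMap _ (Submodule.injective_subtype _))
  have hr : LinearMap.range F = LinearMap.range (TensorProduct.map f g) := by
    have h : TensorProduct.map f g = F ∘ₗ TensorProduct.map f.rangeRestrict g.rangeRestrict := by
      rw [← TensorProduct.map_comp]; rfl
    rw [h, LinearMap.range_comp, LinearMap.range_eq_top.2
      (TensorProduct.map_surjective f.surjective_rangeRestrict g.surjective_rangeRestrict), Submodule.map_top]
  exact ⟨((LinearEquiv.ofInjective F hF).trans (LinearEquiv.ofEq _ _ hr)).symm⟩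

variable (hdA : ∀ n x, dA (n + 1) (dA n x) = 0) (hdB : ∀ n x, dB (n + 1) (dB n x) = 0)

include hdA hdB in
/-- Künneth. -/
theorem nonempty_kunneth (n : ℕ) :
    Nonempty (Coh (totD dA dB) n ≃ₗ[k] ((p : AD n) → Coh dA p.1.1 ⊗[k] Coh dB p.1.2)) := by
  obtain ⟨a, πA, a1, a2, a5, a3, a4⟩ := exists_split_homotopy dA hdA
  obtain ⟨b, πB, b1, b2, b5, b3, b4⟩ := exists_split_homotopy dB hdB
  have a1' : ∀ i, dA i ∘ₗ πA i = 0 := fun i => LinearMap.ext (a1 i)
  have a2' : ∀ i, πA (i + 1) ∘ₗ dA i = 0 := fun i => LinearMap.ext (a2 i)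
  have a5' : ∀ i, πA i ∘ₗ πA i = πA i := fun i => LinearMap.ext (a5 i)
  have b1' : ∀ i, dB i ∘ₗ πB i = 0 := fun i => LinearMap.ext (b1 i)
  have b2' : ∀ i, πB (i + 1) ∘ₗ dB i = 0 := fun i => LinearMap.ext (b2 i)
  have b5' : ∀ i, πB i ∘ₗ πB i = πB i := fun i => LinearMap.ext (b5 i)
  have h1 : ∀ m z, totD dA dB m (totMap πA πB m z) = 0 := fun m z => by
    funext p
    obtain ⟨⟨i, j⟩, h⟩ := p
    rcases i with _ | i <;> rcases j with _ | j <;>
      simp [totD, totD₁, totD₂, totMap, cmp_apply, TensorProduct.map_map, a1', b1', LinearMap.pi_apply] at h ⊢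
  have h2 : ∀ m z, totMap πA πB (m + 1) (totD dA dB m z) = 0 := fun m z => by
    funext p
    obtain ⟨⟨i, j⟩, h⟩ := p
    rcases i with _ | i <;> rcases j with _ | j <;>
      simp [totD, totD₁, totD₂, totMap, cmp_apply, TensorProduct.map_map, a2', b2', LinearMap.pi_apply] at h ⊢
  have h5 : ∀ m z, totMap πA πB m (totMap πA πB m z) = totMap πA πB m z := fun m z => by
    funext p
    simp [totMap, cmp_apply, TensorProduct.map_map, a5', b5', LinearMap.pi_apply]
  -- one factor at a time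
  have splitA0 : ∀ j (x : A 0 ⊗[k] B j), TensorProduct.map (πA 0) LinearMap.id x +
      TensorProduct.map (a 0 ∘ₗ dA 0) LinearMap.id x = x := fun j x => by
    rw [← LinearMap.add_apply, ← TensorProduct.map_add_left,
      show πA 0 + a 0 ∘ₗ dA 0 = LinearMap.id from LinearMap.ext a3, TensorProduct.map_id, LinearMap.id_apply]
  have splitA : ∀ i j (x : A (i + 1) ⊗[k] B j), TensorProduct.map (πA (i + 1)) LinearMap.id x +
      TensorProduct.map (dA i ∘ₗ a i) LinearMap.id x +
      TensorProduct.map (a (i + 1) ∘ₗ dA (i + 1)) LinearMap.id x = x := fun i j x => by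
    rw [← LinearMap.add_apply, ← LinearMap.add_apply, ← TensorProduct.map_add_left, ← TensorProduct.map_add_left,
      show πA (i + 1) + dA i ∘ₗ a i + a (i + 1) ∘ₗ dA (i + 1) = LinearMap.id from LinearMap.ext (a4 i),
      TensorProduct.map_id, LinearMap.id_apply]
  have splitB0 : ∀ i (f : A i →ₗ[k] A i) (x : A i ⊗[k] B 0), TensorProduct.map f (πB 0) x +
      TensorProduct.map f (b 0 ∘ₗ dB 0) x = TensorProduct.map f LinearMap.id x := fun i f x => by
    rw [← LinearMap.add_apply, ← TensorProduct.map_add_right,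
      show πB 0 + b 0 ∘ₗ dB 0 = LinearMap.id from LinearMap.ext b3]
  have splitB : ∀ i j (f : A i →ₗ[k] A i) (x : A i ⊗[k] B (j + 1)), TensorProduct.map f (πB (j + 1)) x +
      TensorProduct.map f (dB j ∘ₗ b j) x + TensorProduct.map f (b (j + 1) ∘ₗ dB (j + 1)) x =
        TensorProduct.map f LinearMap.id x := fun i j f x => by
    rw [← LinearMap.add_apply, ← LinearMap.add_apply, ← TensorProduct.map_add_right, ← TensorProduct.map_add_right,
      show πB (j + 1) + dB j ∘ₗ b j + b (j + 1) ∘ₗ dB (j + 1) = LinearMap.id from LinearMap.ext (b4 j)]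
  have h3 : ∀ z, totMap πA πB 0 z + totH a b πA 0 (totD dA dB 0 z) = z := fun z => by
    funext p
    obtain ⟨⟨i, j⟩, h⟩ := p
    obtain ⟨rfl, rfl⟩ : i = 0 ∧ j = 0 := by constructor <;> omega
    conv_rhs => rw [← splitA0 0 (z ⟨(0, 0), h⟩), ← splitB0 0 (πA 0)]
    simp [totD, totD₁, totD₂, totMap, totH, cmp_apply, TensorProduct.map_map, LinearMap.pi_apply, a2']
    abel
  have h4 : ∀ m z, totMap πA πB (m + 1) z + totD dA dB m (totH a b πA m z) +
      totH a b πA (m + 1) (totD dA dB (m + 1) z) = z := fun m z => by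
    funext p
    obtain ⟨⟨i, j⟩, h⟩ := p
    rcases i with _ | i <;> rcases j with _ | j
    · omega
    · conv_rhs => rw [← splitA0 (j + 1) (z ⟨(0, j + 1), h⟩), ← splitB 0 j (πA 0)]
      simp [totD, totD₁, totD₂, totMap, totH, cmp_apply, TensorProduct.map_map, LinearMap.pi_apply, a2', pow_succ,
        smul_smul]
      abel
    · conv_rhs => rw [← splitA i 0 (z ⟨(i + 1, 0), h⟩), ← splitB0 (i + 1) (πA (i + 1))]
      simp [totD, totD₁, totD₂, totMap, totH, cmp_apply, TensorProduct.map_map, LinearMap.pi_apply, a1', a2', pow_succ,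
        smul_smul]
      simp only [← mul_pow, smul_eq_mul, neg_mul, one_mul, neg_neg, neg_smul, one_smul, one_pow]
      abel
    · conv_rhs => rw [← splitA i (j + 1) (z ⟨(i + 1, j + 1), h⟩), ← splitB (i + 1) j (πA (i + 1))]
      simp [totD, totD₁, totD₂, totMap, totH, cmp_apply, TensorProduct.map_map, LinearMap.pi_apply, a1', a2', pow_succ,
        smul_smul]
      simp only [← mul_pow, smul_eq_mul, neg_mul, one_mul, neg_neg, neg_smul, one_smul, one_pow]
      abel
  obtain ⟨e⟩ := nonempty_coh_range (totD dA dB) (totH a b πA) (totMap πA πB) h1 h2 h5 h3 h4 n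
  obtain ⟨e₁⟩ := nonempty_range_pi (k := k) (M := fun p : AD n => A p.1.1 ⊗[k] B p.1.2)
    fun p => TensorProduct.map (πA p.1.1) (πB p.1.2)
  have e₂ : ∀ p : AD n, Nonempty (LinearMap.range (TensorProduct.map (πA p.1.1) (πB p.1.2)) ≃ₗ[k]
      Coh dA p.1.1 ⊗[k] Coh dB p.1.2) := fun p => by
    obtain ⟨e₀⟩ := nonempty_range_map (πA p.1.1) (πB p.1.2)
    obtain ⟨u⟩ := nonempty_coh_range dA a πA a1 a2 a5 a3 a4 p.1.1
    obtain ⟨v⟩ := nonempty_coh_range dB b πB b1 b2 b5 b3 b4 p.1.2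
    exact ⟨e₀.trans (TensorProduct.congr u.symm v.symm)⟩
  exact ⟨(e.trans e₁).trans (LinearEquiv.piCongrRight fun p => Classical.choice (e₂ p))⟩

end Kunneth

end Groth.Agent.SegLC
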