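import Groth.Agent.Lib.SegLC.Acyclic

/-!
# Local cohomology of a Segre product with a module on which a positive element acts bijectively
-/

universe u

open DirectSum TensorProduct
open Groth.Agent.GrLC21 Groth.Agent.GrSegLib

noncomputable section

set_option linter.unusedSectionVars false

namespace Groth.Agent.SegLC

variable {k : Type u} [Field k] {R : Type u} [CommRing R] [Algebra k R]
  {𝒜 : ℤ → Submodule k R} [GradedAlgebra 𝒜]
  {S : Type u} [CommRing S] [Algebra k S] {ℬ : ℤ → Submodule k S} [GradedAlgebra ℬ]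
  {T : Type u} [CommRing T] [Algebra k T] {𝒯 : ℤ → Submodule k T} [GradedAlgebra 𝒯]
  {ψ : T →ₐ[k] R ⊗[k] S}

section Equiv

variable (hT : GrSeg.IsSegreRing 𝒜 ℬ 𝒯 ψ)
variable {M N P : Type u} [AddCommGroup M] [Module R M] [Module k M] [IsScalarTower k R M]
  [AddCommGroup N] [Module S N] [Module k N] [IsScalarTower k S N]
  [AddCommGroup P] [Module T P] [Module k P] [IsScalarTower k T P]
  {τ τ' τ'' : Type u} [SetLike τ M] [AddSubgroupClass τ M] [SetLike τ' N] [AddSubgroupClass τ' N]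
  [SetLike τ'' P] [AddSubgroupClass τ'' P]
  {ℳ : ℤ → τ} [Decomposition ℳ] [SetLike.GradedSMul 𝒜 ℳ]
  {𝒩 : ℤ → τ'} [Decomposition 𝒩] [SetLike.GradedSMul ℬ 𝒩]
  {𝒬 : ℤ → τ''} [Decomposition 𝒬]

/-- A presented Segre product is the constructed one. -/
theorem exists_segEquiv {φ : P →ₗ[k] M ⊗[k] N} (hP : GrSeg.IsSegreMod ψ ℳ 𝒩 𝒬 φ) :
    ∃ e : P ≃ₗ[T] (seg ℳ 𝒩 hT).carrier, GrLC.IsGrHom 𝒬 (seg ℳ 𝒩 hT).gr e.toLinearMap ∧
      ∀ p, segι ℳ 𝒩 hT (e p) = φ p := by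
  have hr : LinearMap.range φ = segSub k ℳ 𝒩 := range_eq ℳ 𝒩 𝒬 hP.image_piece
  have hmem : ∀ p, φ p ∈ segSub k ℳ 𝒩 := fun p => hr.le ⟨p, rfl⟩
  let f : P →ₗ[T] (seg ℳ 𝒩 hT).carrier :=
    { toFun := fun p => (⟨φ p, hmem p⟩ : segSub k ℳ 𝒩)
      map_add' := fun p q => segι_injective ℳ 𝒩 hT (by
        show φ (p + q) = φ p + φ q
        rw [map_add])
      map_smul' := fun t p => segι_injective ℳ 𝒩 hT (by
        show φ (t • p) = GrSeg.act k R S M N (ψ t) (φ p)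
        rw [hP.map_smul]) }
  have hf : ∀ p, segι ℳ 𝒩 hT (f p) = φ p := fun p => rfl
  refine ⟨LinearEquiv.ofBijective f ⟨fun p q h => hP.injective ?_, fun z => ?_⟩, fun g p hp => ?_, hf⟩
  · rw [← hf, ← hf, h]
  · obtain ⟨p, hp⟩ := hr.ge (segι_mem ℳ 𝒩 hT z)
    exact ⟨p, segι_injective ℳ 𝒩 hT (by rw [hf, hp])⟩
  · show φ p ∈ GrSeg.segrePiece k ℳ 𝒩 g
    rw [← SetLike.mem_coe, ← hP.image_piece g]
    exact ⟨p, hp, rfl⟩

end Equiv

section Left

variable [IsNoetherianRing R] [IsNoetherianRing S] [IsNoetherianRing T]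
  {mR : HomogeneousIdeal 𝒜} {mS : HomogeneousIdeal ℬ} {mT : HomogeneousIdeal 𝒯}
  (D : Data 𝒜 ℬ 𝒯 ψ mR mS mT)
variable {M N P : Type u} [AddCommGroup M] [Module R M] [Module k M] [IsScalarTower k R M]
  [AddCommGroup N] [Module S N] [Module k N] [IsScalarTower k S N]
  [AddCommGroup P] [Module T P] [Module k P] [IsScalarTower k T P]
  {τ τ' τ'' : Type u} [SetLike τ M] [AddSubgroupClass τ M] [SetLike τ' N] [AddSubgroupClass τ' N]
  [SetLike τ'' P] [AddSubgroupClass τ'' P]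
  {ℳ : ℤ → τ} [Decomposition ℳ] [SetLike.GradedSMul 𝒜 ℳ]
  {𝒩 : ℤ → τ'} [Decomposition 𝒩] [SetLike.GradedSMul ℬ 𝒩]
  {𝒬 : ℤ → τ''} [Decomposition 𝒬] [SetLike.GradedSMul 𝒯 𝒬]
  (EM : GrLC.StarInjRes 𝒜 ℳ) {e : ℕ} (he : 0 < e) {y : S} (hy : y ∈ ℬ (e : ℤ))
  (hbij : Function.Bijective fun n : N => y • n)

variable (𝒩) in
include D he hy hbij in
theorem Data.isBij_left {X : GrLC.GMod.{u} 𝒜} (hX : IsBij mR X) : IsBij mT (seg X.gr 𝒩 D.isSegre) := by
  rcases exists_pos_degree D.posR D.irrR hX with hX | ⟨d, hd, x, hx, hxb⟩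
  · have : Subsingleton (seg X.gr 𝒩 D.isSegre).carrier := by
      refine subsingleton_of_forall_eq 0 fun z => ?_
      refine seg_induction X.gr 𝒩 D.isSegre (P := fun z => z = 0) z rfl (fun a b ha hb => by show a + b = 0; rw [ha, hb, add_zero]) ?_
      intro g a b _ _ w hw
      refine segι_injective X.gr 𝒩 D.isSegre ?_
      rw [hw, Subsingleton.elim a 0, TensorProduct.zero_tmul, map_zero]
    exact ⟨0, 0, Submodule.zero_mem _, Submodule.zero_mem _, fun _ _ _ => Subsingleton.elim _ _,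
      fun z => ⟨z, Subsingleton.elim _ _⟩⟩
  exact D.isBij hd he hx hy hxb hbij

include D he hy hbij in
theorem Data.fac_left {Q : GrLC.GMod.{u} 𝒯 → Prop} {Q₁ : GrLC.GMod.{u} 𝒜 → Prop}
    (hQ : ∀ Z, Q₁ Z → Q (seg Z.gr 𝒩 D.isSegre)) {X X' : GrLC.GMod.{u} 𝒜} {φ : X.carrier →ₗ[R] X'.carrier}
    (hφ : FacThrough Q₁ X X' φ) :
    FacThrough Q (seg X.gr 𝒩 D.isSegre) (seg X'.gr 𝒩 D.isSegre)
      (segMap D.isSegre hφ.grHom (GrLC21.isGrHom_id 𝒩)) := by
  induction hφ with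
  | zero => rw [segMap_zero_left]; exact .zero
  | thru Z hZ f g hf hg =>
    have h := FacThrough.thru (Q := Q) _ (hQ Z hZ) _ _ (segMap_grHom D.isSegre hf (GrLC21.isGrHom_id 𝒩))
      (segMap_grHom D.isSegre hg (GrLC21.isGrHom_id 𝒩))
    rw [segMap_comp D.isSegre hg (GrLC21.isGrHom_id 𝒩) hf (GrLC21.isGrHom_id 𝒩)] at h
    exact h
  | add h₁ h₂ i₁ i₂ => rw [segMap_add_left D.isSegre h₁.grHom h₂.grHom]; exact .add i₁ i₂

theorem eq_zero_of_fac_bij {A : Type u} [CommRing A] {σ : Type u} [SetLike σ A] [AddSubgroupClass σ A]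
    {𝒞 : ℤ → σ} [GradedRing 𝒞] {a : HomogeneousIdeal 𝒞} {X Y : GrLC.GMod.{u} 𝒞} {φ : X.carrier →ₗ[A] Y.carrier}
    (h : FacThrough (IsBij a) X Y φ) {z : X.carrier} (hz : z ∈ GrLC.gam a.toIdeal X.carrier) : φ z = 0 := by
  induction h with
  | zero => rfl
  | thru Z hZ f g hf hg => rw [LinearMap.comp_apply, hZ.eq_zero_of_mem_gam (map_mem_gam f hz), map_zero]
  | add _ _ h₁ h₂ => rw [LinearMap.add_apply, h₁, h₂, add_zero]

/-- The torsion part of a graded module. -/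
abbrev gamMod (a : HomogeneousIdeal 𝒜) (X : GrLC.GMod.{u} 𝒜) : GrLC.GMod.{u} 𝒜 :=
  sub X (GrLC.gam a.toIdeal X.carrier) (gam_isHomogeneous a X.gr)

include D he hy hbij in
/-- Torsion of `E # N` is `Γ(E) # N`. -/
theorem Data.gam_left {X : GrLC.GMod.{u} 𝒜} (hX : GrLC.IsStarInj 𝒜 X.gr) :
    GrLC.gam mT.toIdeal (seg X.gr 𝒩 D.isSegre).carrier =
      LinearMap.range (segMap D.isSegre (subι_grHom X _ (gam_isHomogeneous mR X.gr)) (GrLC21.isGrHom_id 𝒩)) := by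
  refine le_antisymm (fun z hz => ?_) ?_
  · rw [← range_segMap_eq_ker D.isSegre (subι_grHom X _ (gam_isHomogeneous mR X.gr))
      (quotπ_grHom X _ (gam_isHomogeneous mR X.gr))
      ((ker_quotπ X _ _).trans (Submodule.range_subtype _).symm), LinearMap.mem_ker]
    have hfac := D.fac_left (𝒩 := 𝒩) he hy hbij (fun Z hZ => D.isBij_left 𝒩 he hy hbij hZ)
      (fac_bij_quot_gam hX mR)
    have h0 := eq_zero_of_fac_bij hfac
      (map_mem_gam (segMap D.isSegre (quotπ_grHom X _ (gam_isHomogeneous mR X.gr)) (GrLC21.isGrHom_id 𝒩)) hz)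
    rwa [segMap_id] at h0
  · rintro _ ⟨w, rfl⟩
    have htors : ∀ a : (gamMod mR X).carrier, a ∈ GrLC.gam mR.toIdeal (gamMod mR X).carrier := fun a =>
      mem_gam_of_injective (subι X _ (gam_isHomogeneous mR X.gr)) (subι_injective X _ _)
        (a : GrLC.gam mR.toIdeal X.carrier).2
    exact map_mem_gam _ (D.isTors_left (ℳ := (gamMod mR X).gr) htors w)

variable (ε' : P ≃ₗ[T] (seg ℳ 𝒩 D.isSegre).carrier) (hε' : GrLC.IsGrHom 𝒬 (seg ℳ 𝒩 D.isSegre).gr ε'.toLinearMap)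

/-- The resolution of `M # N` by `E # N`. -/
def Data.leftRes : GRes 𝒯 𝒬 where
  X n := seg (EM.X n).gr 𝒩 D.isSegre
  d n := segMap D.isSegre (EM.d_grHom n) (GrLC21.isGrHom_id 𝒩)
  ε := segMap D.isSegre EM.ε_grHom (GrLC21.isGrHom_id 𝒩) ∘ₗ ε'.toLinearMap
  d_grHom n := segMap_grHom D.isSegre _ _
  ε_grHom := GrLC21.isGrHom_comp (segMap_grHom D.isSegre EM.ε_grHom (GrLC21.isGrHom_id 𝒩)) hε'
  ε_injective := (segMap_injective D.isSegre EM.ε_grHom (GrLC21.isGrHom_id 𝒩) EM.ε_injective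
    Function.injective_id).comp ε'.injective
  exact_zero := by
    rw [LinearMap.range_comp, LinearEquiv.range, Submodule.map_top]
    exact range_segMap_eq_ker D.isSegre EM.ε_grHom (EM.d_grHom 0) EM.exact_zero
  exact_succ n := range_segMap_eq_ker D.isSegre (EM.d_grHom n) (EM.d_grHom (n + 1)) (EM.exact_succ n)

include he hy hbij in
theorem Data.leftRes_acyclic (n : ℕ) : Acyc mT.toIdeal ((D.leftRes EM ε' hε').X n).carrier := by
  refine acyc_of_fac ?_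
  have h := D.fac_left (𝒩 := 𝒩) he hy hbij (Q := IsBasic mT) (fun Z hZ => ?_)
    (fac_basic_of_starInj (EM.starInj n) mR)
  · rwa [segMap_id] at h
  rcases hZ with hZ | hZ
  · exact Or.inl (D.isTors_left hZ)
  · exact Or.inr (D.isBij_left 𝒩 he hy hbij hZ)

theorem segMap_surjective {M' : Type u} [AddCommGroup M'] [Module R M'] [Module k M'] [IsScalarTower k R M']
    {τ₂ : Type u} [SetLike τ₂ M'] [AddSubgroupClass τ₂ M'] {ℳ' : ℤ → τ₂} [Decomposition ℳ']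
    [SetLike.GradedSMul 𝒜 ℳ'] {f : M →ₗ[R] M'} (hf : GrLC.IsGrHom ℳ ℳ' f)
    (hlift : ∀ g, ∀ a ∈ ℳ' g, ∃ x ∈ ℳ g, f x = a) (hT : GrSeg.IsSegreRing 𝒜 ℬ 𝒯 ψ) :
    Function.Surjective (segMap hT hf (GrLC21.isGrHom_id 𝒩)) := fun z => by
  refine seg_induction ℳ' 𝒩 hT (P := fun z => ∃ x, segMap hT hf (GrLC21.isGrHom_id 𝒩) x = z) z
    ⟨0, map_zero _⟩ (fun a b ⟨x, hx⟩ ⟨x', hx'⟩ => ⟨x + x', by rw [map_add, hx, hx']⟩) ?_
  intro g a b ha hb w hw
  obtain ⟨x, hx, rfl⟩ := hlift g a ha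
  obtain ⟨v, -, hv⟩ := exists_segι_piece ℳ 𝒩 hT (g := g) (w := x ⊗ₜ[k] b)
    (Submodule.subset_span ⟨_, hx, _, hb, rfl⟩)
  exact ⟨v, segι_injective ℳ' 𝒩 hT (by rw [segMap_tmul hT hf _ hv, hw]; rfl)⟩

/-- The cocycles as a graded module. -/
abbrev cocycG (q : ℕ) : GrLC.GMod.{u} 𝒜 := sub (EM.X q) (EM.cocyc mR q) (cocyc_isHomogeneous EM mR q)

include he hy hbij in
theorem Data.cocyc_left (q : ℕ) :
    (D.leftRes EM ε' hε').cocyc mT q =
      LinearMap.range (segMap D.isSegre (subι_grHom (EM.X q) (EM.cocyc mR q) (cocyc_isHomogeneous EM mR q))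
        (GrLC21.isGrHom_id 𝒩)) := by
  have hΓ := D.gam_left (𝒩 := 𝒩) he hy hbij (EM.starInj q)
  let Γ := gamMod mR (EM.X q)
  have hι : GrLC.IsGrHom Γ.gr (EM.X q).gr (subι (EM.X q) _ (gam_isHomogeneous mR (EM.X q).gr)) := subι_grHom _ _ _
  let dΓ : Γ.carrier →ₗ[R] (EM.X (q + 1)).carrier := EM.d q ∘ₗ subι (EM.X q) _ (gam_isHomogeneous mR (EM.X q).gr)
  have hdΓ : GrLC.IsGrHom Γ.gr (EM.X (q + 1)).gr dΓ := GrLC21.isGrHom_comp (EM.d_grHom q) hι
  let j : (cocycG (mR := mR) EM q).carrier →ₗ[R] Γ.carrier :=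
    Submodule.inclusion (inf_le_left : EM.cocyc mR q ≤ GrLC.gam mR.toIdeal (EM.X q).carrier)
  have hj : GrLC.IsGrHom (cocycG (mR := mR) EM q).gr Γ.gr j := fun _ _ h => h
  have hker : LinearMap.ker dΓ = LinearMap.range j := by
    refine SetLike.ext fun x => ⟨fun hx => LinearMap.mem_range.2 ⟨(⟨(x : GrLC.gam mR.toIdeal (EM.X q).carrier).1,
      (x : GrLC.gam mR.toIdeal (EM.X q).carrier).2, hx⟩ : EM.cocyc mR q), rfl⟩, ?_⟩
    rintro ⟨z, rfl⟩
    exact (z : EM.cocyc mR q).2.2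
  have hcomp : segMap D.isSegre hι (GrLC21.isGrHom_id 𝒩) ∘ₗ segMap D.isSegre hj (GrLC21.isGrHom_id 𝒩) =
      segMap D.isSegre (subι_grHom (EM.X q) (EM.cocyc mR q) (cocyc_isHomogeneous EM mR q)) (GrLC21.isGrHom_id 𝒩) := by
    rw [segMap_comp]
    exact segMap_congr D.isSegre _ _ _ _ rfl rfl
  have hd : segMap D.isSegre (EM.d_grHom q) (GrLC21.isGrHom_id 𝒩) ∘ₗ segMap D.isSegre hι (GrLC21.isGrHom_id 𝒩) =
      segMap D.isSegre hdΓ (GrLC21.isGrHom_id 𝒩) := by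
    rw [segMap_comp]
  show GrLC.gam mT.toIdeal (seg (EM.X q).gr 𝒩 D.isSegre).carrier ⊓
    LinearMap.ker (segMap D.isSegre (EM.d_grHom q) (GrLC21.isGrHom_id 𝒩)) = _
  rw [hΓ, ← hcomp, LinearMap.range_comp, ← range_segMap_eq_ker D.isSegre hj hdΓ hker, ← hd, LinearMap.ker_comp,
    Submodule.map_comap_eq]

variable {Hq : Type u} [AddCommGroup Hq] [Module R Hq] [Module k Hq] [IsScalarTower k R Hq]
  {τh : Type u} [SetLike τh Hq] [AddSubgroupClass τh Hq] {ℋ : ℤ → τh} [Decomposition ℋ] [SetLike.GradedSMul 𝒜 ℋ]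

include he hy hbij in
/-- The cohomology of the resolution is `H # N`. -/
theorem Data.exists_equiv_left (q : ℕ) (p : EM.cocyc mR q →ₗ[R] Hq)
    (hp : GrLC.IsGrHom (cocycG (mR := mR) EM q).gr ℋ (p : (cocycG (mR := mR) EM q).carrier →ₗ[R] Hq))
    (hlift : ∀ g, ∀ a ∈ ℋ g, ∃ z : EM.cocyc mR q, (z : (EM.X q).carrier) ∈ (EM.X q).gr g ∧ p z = a)
    (hkp : ∀ z, p z = 0 ↔ (z : (EM.X q).carrier) ∈ EM.cobdy mR q) :
    ∃ Φ : ((D.leftRes EM ε' hε').Hmod mT q).carrier ≃ₗ[T] (seg ℋ 𝒩 D.isSegre).carrier,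
      GrLC.IsGrHom ((D.leftRes EM ε' hε').Hmod mT q).gr (seg ℋ 𝒩 D.isSegre).gr Φ.toLinearMap := by
  let C := D.leftRes EM ε' hε'
  let i := segMap D.isSegre (subι_grHom (EM.X q) (EM.cocyc mR q) (cocyc_isHomogeneous EM mR q)) (GrLC21.isGrHom_id 𝒩)
  have hi : GrLC.IsGrHom _ (C.X q).gr i := segMap_grHom D.isSegre _ _
  have hii : Function.Injective i :=
    segMap_injective D.isSegre _ _ (subι_injective _ _ _) Function.injective_id
  have hr : C.cocyc mT q = LinearMap.range i := D.cocyc_left EM he hy hbij ε' hε' q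
  let e₁ : (seg (cocycG (mR := mR) EM q).gr 𝒩 D.isSegre).carrier ≃ₗ[T] (C.cocycMod mT q).carrier :=
    (LinearEquiv.ofInjective i hii).trans (LinearEquiv.ofEq _ _ hr.symm)
  have he₁ : GrLC.IsGrHom (seg (cocycG (mR := mR) EM q).gr 𝒩 D.isSegre).gr (C.cocycMod mT q).gr e₁.toLinearMap :=
    fun g z hz => hi g z hz
  let p' : (cocycG (mR := mR) EM q).carrier →ₗ[R] Hq := p
  have hp' : GrLC.IsGrHom (cocycG (mR := mR) EM q).gr ℋ p' := hp
  let π := segMap D.isSegre hp' (GrLC21.isGrHom_id 𝒩)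
  have hπs : Function.Surjective π := segMap_surjective hp' (fun g a ha => hlift g a ha) D.isSegre
  have hπ : GrLC.IsGrHom _ (seg ℋ 𝒩 D.isSegre).gr π := segMap_grHom D.isSegre _ _
  let Ψ : (C.cocycMod mT q).carrier →ₗ[T] (seg ℋ 𝒩 D.isSegre).carrier := π ∘ₗ e₁.symm.toLinearMap
  have hΨ : GrLC.IsGrHom (C.cocycMod mT q).gr (seg ℋ 𝒩 D.isSegre).gr Ψ :=
    GrLC21.isGrHom_comp hπ (GrLC21.isGrHom_symm (e := e₁) he₁)
  have hker : LinearMap.ker π = (C.cobdy mT q).comap i := by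
    rcases q with _ | n
    · have hpi : Function.Injective p' := (injective_iff_map_eq_zero p').2 fun z hz =>
        Subtype.ext ((Submodule.mem_bot R).1 ((hkp z).1 hz))
      have hπi : Function.Injective π := segMap_injective D.isSegre _ _ hpi Function.injective_id
      rw [LinearMap.ker_eq_bot.2 hπi]
      show ⊥ = (⊥ : Submodule T _).comap i
      rw [Submodule.comap_bot, LinearMap.ker_eq_bot.2 hii]
    · let Γ := gamMod mR (EM.X n)
      let b : Γ.carrier →ₗ[R] (cocycG (mR := mR) EM (n + 1)).carrier :=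
        (EM.d n ∘ₗ subι (EM.X n) _ (gam_isHomogeneous mR (EM.X n).gr)).codRestrict (EM.cocyc mR (n + 1)) fun z =>
          ⟨map_mem_gam (EM.d n) (z : GrLC.gam mR.toIdeal (EM.X n).carrier).2, GrLC21.d_d EM n _⟩
      have hb : GrLC.IsGrHom Γ.gr (cocycG (mR := mR) EM (n + 1)).gr b := fun g z hz => EM.d_grHom n g _ hz
      have hex : LinearMap.ker p' = LinearMap.range b := by
        refine SetLike.ext fun z => ⟨fun hz => ?_, ?_⟩
        · obtain ⟨y', hy', e'⟩ := (hkp z).1 hz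
          exact ⟨⟨y', hy'⟩, Subtype.ext e'⟩
        · rintro ⟨w, rfl⟩
          exact (hkp _).2 ⟨_, (w : GrLC.gam mR.toIdeal (EM.X n).carrier).2, rfl⟩
      refine (range_segMap_eq_ker D.isSegre hb hp' hex).trans ?_
      have hcobdy : C.cobdy mT (n + 1) = (LinearMap.range (segMap D.isSegre hb (GrLC21.isGrHom_id 𝒩))).map i := by
        show (GrLC.gam mT.toIdeal (seg (EM.X n).gr 𝒩 D.isSegre).carrier).map
          (segMap D.isSegre (EM.d_grHom n) (GrLC21.isGrHom_id 𝒩)) = _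
        rw [D.gam_left (𝒩 := 𝒩) he hy hbij (EM.starInj n), ← LinearMap.range_comp, ← LinearMap.range_comp,
          segMap_comp, segMap_comp]
        exact congrArg LinearMap.range (segMap_congr D.isSegre _ _ _ _ rfl rfl)
      rw [hcobdy, Submodule.comap_map_eq_of_injective hii]
  have hΨs : Function.Surjective Ψ := hπs.comp e₁.symm.surjective
  have hΨk : LinearMap.ker Ψ = C.cobdyIn mT q := by
    refine SetLike.ext fun w => ?_
    obtain ⟨z, rfl⟩ := e₁.surjective w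
    rw [LinearMap.mem_ker, show Ψ (e₁ z) = π z from congrArg π (e₁.symm_apply_apply z)]
    exact SetLike.ext_iff.1 hker z
  refine ⟨(Submodule.quotEquivOfEq _ _ hΨk.symm).trans (LinearMap.quotKerEquivOfSurjective Ψ hΨs), ?_⟩
  intro g x hx
  obtain ⟨z, hz, rfl⟩ := (C.mem_Hmod_gr mT).1 hx
  exact hΨ g z hz

end Left

end Groth.Agent.SegLC
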