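import Groth.Agent.Lib.SegLC.Obj

/-!
# Functoriality of the Segre product of graded modules
-/

universe u

open DirectSum TensorProduct
open Groth.Agent.GrLC21 Groth.Agent.GrSegLib

noncomputable section

set_option linter.unusedSectionVars false

namespace Groth.Agent.SegLC

variable {k : Type u} [Field k] {R : Type u} [CommRing R] [Algebra k R]
  {𝒜 : ℤ → Submodule k R} [GradedAlgebra 𝒜]
  {S : Type u} [CommRing S] [Algebra k S] {ℬ : ℤ → Submodule k S} [GradedAlgebra ℬ]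
  {T : Type u} [CommRing T] [Algebra k T] {𝒯 : ℤ → Submodule k T} [GradedAlgebra 𝒯]
  {ψ : T →ₐ[k] R ⊗[k] S} (hT : GrSeg.IsSegreRing 𝒜 ℬ 𝒯 ψ)
variable {M M' M'' : Type u} [AddCommGroup M] [Module R M] [Module k M] [IsScalarTower k R M]
  [AddCommGroup M'] [Module R M'] [Module k M'] [IsScalarTower k R M']
  [AddCommGroup M''] [Module R M''] [Module k M''] [IsScalarTower k R M'']
  {N N' N'' : Type u} [AddCommGroup N] [Module S N] [Module k N] [IsScalarTower k S N]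
  [AddCommGroup N'] [Module S N'] [Module k N'] [IsScalarTower k S N']
  [AddCommGroup N''] [Module S N''] [Module k N''] [IsScalarTower k S N'']
  {τ₁ τ₂ τ₃ σ₁ σ₂ σ₃ : Type u} [SetLike τ₁ M] [AddSubgroupClass τ₁ M] [SetLike τ₂ M'] [AddSubgroupClass τ₂ M']
  [SetLike τ₃ M''] [AddSubgroupClass τ₃ M'']
  [SetLike σ₁ N] [AddSubgroupClass σ₁ N] [SetLike σ₂ N'] [AddSubgroupClass σ₂ N']
  [SetLike σ₃ N''] [AddSubgroupClass σ₃ N'']
  {ℳ : ℤ → τ₁} [Decomposition ℳ] [SetLike.GradedSMul 𝒜 ℳ]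
  {ℳ' : ℤ → τ₂} [Decomposition ℳ'] [SetLike.GradedSMul 𝒜 ℳ']
  {ℳ'' : ℤ → τ₃} [Decomposition ℳ''] [SetLike.GradedSMul 𝒜 ℳ'']
  {𝒩 : ℤ → σ₁} [Decomposition 𝒩] [SetLike.GradedSMul ℬ 𝒩]
  {𝒩' : ℤ → σ₂} [Decomposition 𝒩'] [SetLike.GradedSMul ℬ 𝒩']
  {𝒩'' : ℤ → σ₃} [Decomposition 𝒩''] [SetLike.GradedSMul ℬ 𝒩'']

/-- The tensor product of two maps, over the base field. -/
abbrev tmap (k : Type u) [Field k] {R S : Type u} [CommRing R] [Algebra k R] [CommRing S] [Algebra k S]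
    {M M' : Type u} [AddCommGroup M] [Module R M] [Module k M] [IsScalarTower k R M]
    [AddCommGroup M'] [Module R M'] [Module k M'] [IsScalarTower k R M']
    {N N' : Type u} [AddCommGroup N] [Module S N] [Module k N] [IsScalarTower k S N]
    [AddCommGroup N'] [Module S N'] [Module k N'] [IsScalarTower k S N']
    (f : M →ₗ[R] M') (g : N →ₗ[S] N') : M ⊗[k] N →ₗ[k] M' ⊗[k] N' :=
  TensorProduct.map (f.restrictScalars k) (g.restrictScalars k)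

theorem tmap_act (f : M →ₗ[R] M') (g : N →ₗ[S] N') (w : R ⊗[k] S) (z : M ⊗[k] N) :
    tmap k f g (GrSeg.act k R S M N w z) = GrSeg.act k R S M' N' w (tmap k f g z) := by
  induction w using TensorProduct.induction_on with
  | zero => simp
  | add a b ha hb => simp only [map_add, LinearMap.add_apply, ha, hb]
  | tmul a b =>
    induction z using TensorProduct.induction_on with
    | zero => simp
    | add x y hx hy => simp only [map_add, hx, hy]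
    | tmul x y =>
      rw [GrSeg.act_tmul]
      show (f (a • x)) ⊗ₜ[k] (g (b • y)) = GrSeg.act k R S M' N' _ (f x ⊗ₜ[k] g y)
      rw [GrSeg.act_tmul, map_smul, map_smul]


theorem tmap_piece {f : M →ₗ[R] M'} {g : N →ₗ[S] N'} (hf : GrLC.IsGrHom ℳ ℳ' f) (hg : GrLC.IsGrHom 𝒩 𝒩' g)
    {n : ℤ} {z : M ⊗[k] N} (hz : z ∈ GrSeg.segrePiece k ℳ 𝒩 n) :
    tmap k f g z ∈ GrSeg.segrePiece k ℳ' 𝒩' n := by
  have : GrSeg.segrePiece k ℳ 𝒩 n ≤ (GrSeg.segrePiece k ℳ' 𝒩' n).comap (tmap k f g) :=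
    Submodule.span_le.2 fun w ⟨a, ha, b, hb, hw⟩ => by
      subst hw
      exact Submodule.subset_span ⟨f a, hf n a ha, g b, hg n b hb, rfl⟩
  exact this hz

theorem tmap_segSub {f : M →ₗ[R] M'} {g : N →ₗ[S] N'} (hf : GrLC.IsGrHom ℳ ℳ' f) (hg : GrLC.IsGrHom 𝒩 𝒩' g)
    {z : M ⊗[k] N} (hz : z ∈ segSub k ℳ 𝒩) : tmap k f g z ∈ segSub k ℳ' 𝒩' :=
  Submodule.iSup_induction (motive := fun z => tmap k f g z ∈ segSub k ℳ' 𝒩') _ hz
    (fun n _ hx => Submodule.mem_iSup_of_mem n (tmap_piece hf hg hx))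
    (by rw [map_zero]; exact Submodule.zero_mem _)
    fun a b ha hb => by rw [map_add]; exact Submodule.add_mem _ ha hb

variable {f : M →ₗ[R] M'} {g : N →ₗ[S] N'}

/-- The map of Segre products. -/
def segMap (hf : GrLC.IsGrHom ℳ ℳ' f) (hg : GrLC.IsGrHom 𝒩 𝒩' g) :
    (seg ℳ 𝒩 hT).carrier →ₗ[T] (seg ℳ' 𝒩' hT).carrier where
  toFun z := (⟨tmap k f g (segι ℳ 𝒩 hT z), tmap_segSub hf hg (segι_mem ℳ 𝒩 hT z)⟩ : segSub k ℳ' 𝒩')
  map_add' x y := segι_injective ℳ' 𝒩' hT (by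
    show tmap k f g (segι ℳ 𝒩 hT (x + y)) = tmap k f g (segι ℳ 𝒩 hT x) + tmap k f g (segι ℳ 𝒩 hT y)
    rw [map_add, map_add])
  map_smul' t z := segι_injective ℳ' 𝒩' hT (by
    show tmap k f g (GrSeg.act k R S M N (ψ t) (segι ℳ 𝒩 hT z)) =
      GrSeg.act k R S M' N' (ψ t) (tmap k f g (segι ℳ 𝒩 hT z))
    exact tmap_act f g _ _)


theorem segι_segMap (hf : GrLC.IsGrHom ℳ ℳ' f) (hg : GrLC.IsGrHom 𝒩 𝒩' g) (z : (seg ℳ 𝒩 hT).carrier) :
    segι ℳ' 𝒩' hT (segMap hT hf hg z) = tmap k f g (segι ℳ 𝒩 hT z) := rfl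

theorem segMap_grHom (hf : GrLC.IsGrHom ℳ ℳ' f) (hg : GrLC.IsGrHom 𝒩 𝒩' g) :
    GrLC.IsGrHom (seg ℳ 𝒩 hT).gr (seg ℳ' 𝒩' hT).gr (segMap hT hf hg) := fun _ _ hz => tmap_piece hf hg hz

theorem segMap_tmul (hf : GrLC.IsGrHom ℳ ℳ' f) (hg : GrLC.IsGrHom 𝒩 𝒩' g) {z : (seg ℳ 𝒩 hT).carrier}
    {a : M} {b : N} (hz : segι ℳ 𝒩 hT z = a ⊗ₜ[k] b) : segι ℳ' 𝒩' hT (segMap hT hf hg z) = f a ⊗ₜ[k] g b := by
  rw [segι_segMap, hz]; rfl

/-- Segre maps are determined by their underlying maps. -/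
theorem segMap_congr {f₂ : M →ₗ[R] M'} {g₂ : N →ₗ[S] N'} (hf : GrLC.IsGrHom ℳ ℳ' f) (hg : GrLC.IsGrHom 𝒩 𝒩' g)
    (hf₂ : GrLC.IsGrHom ℳ ℳ' f₂) (hg₂ : GrLC.IsGrHom 𝒩 𝒩' g₂) (e : f = f₂) (e' : g = g₂) :
    segMap hT hf hg = segMap hT hf₂ hg₂ := by subst e; subst e'; rfl

theorem segMap_id : segMap hT (GrLC21.isGrHom_id ℳ) (GrLC21.isGrHom_id 𝒩) = (LinearMap.id : (seg ℳ 𝒩 hT).carrier →ₗ[T] _) :=
  LinearMap.ext fun z => segι_injective ℳ 𝒩 hT (by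
    rw [segι_segMap]
    show TensorProduct.map (LinearMap.id : M →ₗ[k] M) (LinearMap.id : N →ₗ[k] N) _ = _
    rw [TensorProduct.map_id]; rfl)

theorem segMap_comp {f' : M' →ₗ[R] M''} {g' : N' →ₗ[S] N''} (hf' : GrLC.IsGrHom ℳ' ℳ'' f')
    (hg' : GrLC.IsGrHom 𝒩' 𝒩'' g') (hf : GrLC.IsGrHom ℳ ℳ' f) (hg : GrLC.IsGrHom 𝒩 𝒩' g) :
    segMap hT hf' hg' ∘ₗ segMap hT hf hg = segMap hT (GrLC21.isGrHom_comp hf' hf) (GrLC21.isGrHom_comp hg' hg) :=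
  LinearMap.ext fun z => segι_injective ℳ'' 𝒩'' hT (by
    rw [LinearMap.comp_apply, segι_segMap, segι_segMap, segι_segMap]
    exact (LinearMap.congr_fun (TensorProduct.map_comp (f'.restrictScalars k) (g'.restrictScalars k)
      (f.restrictScalars k) (g.restrictScalars k)) _).symm)

theorem segMap_add_left {f₂ : M →ₗ[R] M'} (hf : GrLC.IsGrHom ℳ ℳ' f) (hf₂ : GrLC.IsGrHom ℳ ℳ' f₂)
    (hg : GrLC.IsGrHom 𝒩 𝒩' g) :
    segMap hT (GrLC21.isGrHom_add hf hf₂) hg = segMap hT hf hg + segMap hT hf₂ hg :=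
  LinearMap.ext fun z => segι_injective ℳ' 𝒩' hT (by
    rw [segι_segMap, LinearMap.add_apply, map_add, segι_segMap, segι_segMap]
    exact LinearMap.congr_fun (TensorProduct.map_add_left (f.restrictScalars k) (f₂.restrictScalars k)
      (g.restrictScalars k)) _)

theorem segMap_add_right {g₂ : N →ₗ[S] N'} (hf : GrLC.IsGrHom ℳ ℳ' f) (hg : GrLC.IsGrHom 𝒩 𝒩' g)
    (hg₂ : GrLC.IsGrHom 𝒩 𝒩' g₂) :
    segMap hT hf (GrLC21.isGrHom_add hg hg₂) = segMap hT hf hg + segMap hT hf hg₂ :=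
  LinearMap.ext fun z => segι_injective ℳ' 𝒩' hT (by
    rw [segι_segMap, LinearMap.add_apply, map_add, segι_segMap, segι_segMap]
    exact LinearMap.congr_fun (TensorProduct.map_add_right (f.restrictScalars k) (g.restrictScalars k)
      (g₂.restrictScalars k)) _)

theorem segMap_zero_left (hg : GrLC.IsGrHom 𝒩 𝒩' g) :
    segMap hT (GrLC21.isGrHom_zero (R := R) ℳ ℳ') hg = 0 :=
  LinearMap.ext fun z => segι_injective ℳ' 𝒩' hT (by
    rw [segι_segMap, LinearMap.zero_apply, map_zero]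
    exact LinearMap.congr_fun (TensorProduct.map_zero_left (g.restrictScalars k)) _)

theorem segMap_zero_right (hf : GrLC.IsGrHom ℳ ℳ' f) :
    segMap hT hf (GrLC21.isGrHom_zero (R := S) 𝒩 𝒩') = 0 :=
  LinearMap.ext fun z => segι_injective ℳ' 𝒩' hT (by
    rw [segι_segMap, LinearMap.zero_apply, map_zero]
    exact LinearMap.congr_fun (TensorProduct.map_zero_right (f.restrictScalars k)) _)

theorem tmap_injective (hf : Function.Injective f) (hg : Function.Injective g) :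
    Function.Injective (tmap k f g) := by
  rw [tmap, ← LinearMap.lTensor_comp_rTensor, LinearMap.coe_comp]
  exact (Module.Flat.lTensor_preserves_injective_linearMap (M := M') (g.restrictScalars k) hg).comp
    (Module.Flat.rTensor_preserves_injective_linearMap (M := N) (f.restrictScalars k) hf)

theorem segMap_injective (hf : GrLC.IsGrHom ℳ ℳ' f) (hg : GrLC.IsGrHom 𝒩 𝒩' g) (hfi : Function.Injective f)
    (hgi : Function.Injective g) : Function.Injective (segMap hT hf hg) := fun z z' h =>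
  segι_injective ℳ 𝒩 hT (tmap_injective (k := k) hfi hgi
    (by rw [← segι_segMap hT hf hg, ← segι_segMap hT hf hg, h]))

theorem diag_tmap (hf : GrLC.IsGrHom ℳ ℳ' f) (hg : GrLC.IsGrHom 𝒩 𝒩' g) (z : M ⊗[k] N) :
    diag 𝒜 ℬ ℳ' 𝒩' (tmap k f g z) = tmap k f g (diag 𝒜 ℬ ℳ 𝒩 z) := by
  refine tensor_induction ℳ 𝒩 (P := fun z => diag 𝒜 ℬ ℳ' 𝒩' (tmap k f g z) = tmap k f g (diag 𝒜 ℬ ℳ 𝒩 z))
    (by simp) (fun a b ha hb => by rw [map_add, map_add, ha, hb, map_add, map_add]) (fun i j x y hx hy => ?_) z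
  show diag 𝒜 ℬ ℳ' 𝒩' (f x ⊗ₜ[k] g y) = _
  rcases eq_or_ne i j with rfl | h
  · rw [diag_tmul_same 𝒜 ℬ ℳ' 𝒩' (hf i x hx) (hg i y hy), diag_tmul_same 𝒜 ℬ ℳ 𝒩 hx hy]; rfl
  · rw [diag_tmul_ne 𝒜 ℬ ℳ' 𝒩' (hf i x hx) (hg j y hy) h, diag_tmul_ne 𝒜 ℬ ℳ 𝒩 hx hy h, map_zero]

/-- Exactness of `- # N`. -/
theorem range_segMap_eq_ker {f' : M' →ₗ[R] M''} (hf : GrLC.IsGrHom ℳ ℳ' f) (hf' : GrLC.IsGrHom ℳ' ℳ'' f')
    (h : LinearMap.ker f' = LinearMap.range f) :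
    LinearMap.ker (segMap hT hf' (GrLC21.isGrHom_id 𝒩)) =
      LinearMap.range (segMap hT hf (GrLC21.isGrHom_id 𝒩)) := by
  have hex : Function.Exact (f.restrictScalars k) (f'.restrictScalars k) := LinearMap.exact_iff.2
    (SetLike.ext fun x => ⟨fun hx => (h.le hx), fun hx => (h.ge hx)⟩)
  have hex' := Module.Flat.rTensor_exact N hex
  ext z
  constructor
  · intro hz
    have hz' : tmap k f' (LinearMap.id : N →ₗ[S] N) (segι ℳ' 𝒩 hT z) = 0 := by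
      rw [← segι_segMap hT hf' (GrLC21.isGrHom_id 𝒩), LinearMap.mem_ker.1 hz, map_zero]
    obtain ⟨w, hw⟩ := (hex' _).1 hz'
    obtain ⟨y, hy⟩ := exists_segι ℳ 𝒩 hT (diag_mem_iSup 𝒜 ℬ ℳ 𝒩 w)
    refine ⟨y, segι_injective ℳ' 𝒩 hT ?_⟩
    rw [segι_segMap, hy, ← diag_tmap hf (GrLC21.isGrHom_id 𝒩),
      show tmap k f (LinearMap.id : N →ₗ[S] N) w = segι ℳ' 𝒩 hT z from hw]
    exact diag_eq_self 𝒜 ℬ ℳ' 𝒩 (segι_mem ℳ' 𝒩 hT z)
  · rintro ⟨y, rfl⟩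
    refine LinearMap.mem_ker.2 (segι_injective ℳ'' 𝒩 hT ?_)
    rw [segι_segMap, segι_segMap, map_zero]
    exact (hex' _).2 ⟨_, rfl⟩

end Groth.Agent.SegLC
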