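import Groth.Agent.Lib.GrSeg.Basic
import Groth.Agent.Lib.GrLC21.Split
import Groth.Agent.Lib.GrLC21.AcyclicRes
import Mathlib.RingTheory.Flat.Basic
import Mathlib.LinearAlgebra.TensorProduct.RightExactness

/-!
# Segre products of graded modules as graded modules
-/

universe u

open DirectSum TensorProduct
open Groth.Agent.GrLC21 Groth.Agent.GrSegLib

noncomputable section

set_option linter.unusedSectionVars false

namespace Groth.Agent.SegLC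

variable {k : Type u} [Field k] {R : Type u} [CommRing R] [Algebra k R]
  {𝒜 : ℤ → Submodule k R} [GradedAlgebra 𝒜]
  {S : Type u} [CommRing S] [Algebra k S] {ℬ : ℤ → Submodule k S} [GradedAlgebra ℬ]
  {T : Type u} [CommRing T] [Algebra k T] {𝒯 : ℤ → Submodule k T} [GradedAlgebra 𝒯]

/-- The base field acts on a graded module through the algebra map. -/
scoped instance gmodK (X : GrLC.GMod.{u} 𝒜) : Module k X.carrier := Module.compHom X.carrier (algebraMap k R)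

scoped instance gmodK_tower (X : GrLC.GMod.{u} 𝒜) : IsScalarTower k R X.carrier :=
  IsScalarTower.of_algebraMap_smul fun _ _ => rfl

/-- The Segre product inside the tensor product. -/
abbrev segSub (k : Type u) [Field k] {M N : Type u} [AddCommGroup M] [Module k M] [AddCommGroup N] [Module k N]
    {τ τ' : Type u} [SetLike τ M] [SetLike τ' N] (ℳ : ℤ → τ) (𝒩 : ℤ → τ') : Submodule k (M ⊗[k] N) :=
  ⨆ n, GrSeg.segrePiece k ℳ 𝒩 n

section Objects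

variable {M N : Type u} [AddCommGroup M] [Module R M] [Module k M] [IsScalarTower k R M]
  [AddCommGroup N] [Module S N] [Module k N] [IsScalarTower k S N]
  {τ τ' : Type u} [SetLike τ M] [AddSubgroupClass τ M] [SetLike τ' N] [AddSubgroupClass τ' N]
  (ℳ : ℤ → τ) [Decomposition ℳ] [SetLike.GradedSMul 𝒜 ℳ]
  (𝒩 : ℤ → τ') [Decomposition 𝒩] [SetLike.GradedSMul ℬ 𝒩]

omit [Decomposition ℳ] [Decomposition 𝒩] in
theorem act_mem {a g : ℤ} {w : R ⊗[k] S} {z : M ⊗[k] N} (hw : w ∈ GrSeg.segrePiece k 𝒜 ℬ a)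
    (hz : z ∈ GrSeg.segrePiece k ℳ 𝒩 g) :
    GrSeg.act k R S M N w z ∈ GrSeg.segrePiece k ℳ 𝒩 (a + g) := by
  induction hw using Submodule.span_induction with
  | mem w hw =>
    obtain ⟨r, hr, s, hs, rfl⟩ := hw
    induction hz using Submodule.span_induction with
    | mem z hz =>
      obtain ⟨x, hx, y, hy, rfl⟩ := hz
      rw [GrSeg.act_tmul]
      exact Submodule.subset_span ⟨_, GrLC21.smul_mem 𝒜 ℳ hr hx, _, GrLC21.smul_mem ℬ 𝒩 hs hy, rfl⟩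
    | zero => rw [map_zero]; exact Submodule.zero_mem _
    | add x y _ _ hx hy => rw [map_add]; exact Submodule.add_mem _ hx hy
    | smul c x _ hx => rw [map_smul]; exact Submodule.smul_mem _ c hx
  | zero => rw [map_zero, LinearMap.zero_apply]; exact Submodule.zero_mem _
  | add x y _ _ hx hy => rw [map_add, LinearMap.add_apply]; exact Submodule.add_mem _ hx hy
  | smul c x _ hx => rw [map_smul, LinearMap.smul_apply]; exact Submodule.smul_mem _ c hx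

/-- The projection of `M ⊗ N` to bidegree `(g, g)`. -/
def pr2 (𝒜 : ℤ → Submodule k R) [GradedAlgebra 𝒜] (ℬ : ℤ → Submodule k S) [GradedAlgebra ℬ]
    [SetLike.GradedSMul 𝒜 ℳ] [SetLike.GradedSMul ℬ 𝒩] (g : ℤ) : M ⊗[k] N →ₗ[k] M ⊗[k] N :=
  TensorProduct.map (pr 𝒜 ℳ g) (pr ℬ 𝒩 g)

theorem pr2_of_mem {g : ℤ} {z : M ⊗[k] N} (hz : z ∈ GrSeg.segrePiece k ℳ 𝒩 g) :
    pr2 ℳ 𝒩 𝒜 ℬ g z = z := by
  have : GrSeg.segrePiece k ℳ 𝒩 g ≤ LinearMap.eqLocus (pr2 ℳ 𝒩 𝒜 ℬ g) LinearMap.id :=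
    Submodule.span_le.2 fun w ⟨a, ha, b, hb, hw⟩ => by
      subst hw
      show TensorProduct.map _ _ (a ⊗ₜ[k] b) = a ⊗ₜ[k] b
      rw [TensorProduct.map_tmul, pr_of_mem 𝒜 ℳ ha, pr_of_mem ℬ 𝒩 hb]
  exact this hz

theorem pr2_of_mem_ne {g h : ℤ} {z : M ⊗[k] N} (hz : z ∈ GrSeg.segrePiece k ℳ 𝒩 h) (hgh : h ≠ g) :
    pr2 ℳ 𝒩 𝒜 ℬ g z = 0 := by
  have : GrSeg.segrePiece k ℳ 𝒩 h ≤ LinearMap.ker (pr2 ℳ 𝒩 𝒜 ℬ g) :=
    Submodule.span_le.2 fun w ⟨a, ha, b, hb, hw⟩ => by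
      subst hw
      show TensorProduct.map _ _ (a ⊗ₜ[k] b) = 0
      rw [TensorProduct.map_tmul, pr_of_mem_ne 𝒜 ℳ ha hgh, TensorProduct.zero_tmul]
  exact this hz

theorem pr2_mem (g : ℤ) (z : M ⊗[k] N) : pr2 ℳ 𝒩 𝒜 ℬ g z ∈ GrSeg.segrePiece k ℳ 𝒩 g := by
  induction z using TensorProduct.induction_on with
  | zero => rw [map_zero]; exact Submodule.zero_mem _
  | add a b ha hb => rw [map_add]; exact Submodule.add_mem _ ha hb
  | tmul a b =>
    show TensorProduct.map _ _ (a ⊗ₜ[k] b) ∈ _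
    rw [TensorProduct.map_tmul]
    exact Submodule.subset_span ⟨_, pr_mem 𝒜 ℳ g a, _, pr_mem ℬ 𝒩 g b, rfl⟩

variable {ψ : T →ₐ[k] R ⊗[k] S} (hT : GrSeg.IsSegreRing 𝒜 ℬ 𝒯 ψ)

include hT in
theorem act_mem_segSub (t : T) {z : M ⊗[k] N} (hz : z ∈ segSub k ℳ 𝒩) :
    GrSeg.act k R S M N (ψ t) z ∈ segSub k ℳ 𝒩 := by
  refine Submodule.iSup_induction (motive := fun z => GrSeg.act k R S M N (ψ t) z ∈ segSub k ℳ 𝒩) _ hz
    (fun g z hz => ?_) (by rw [map_zero]; exact Submodule.zero_mem _)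
    (fun a b ha hb => by rw [map_add]; exact Submodule.add_mem _ ha hb)
  induction t using DirectSum.Decomposition.inductionOn 𝒯 with
  | zero => rw [map_zero, map_zero, LinearMap.zero_apply]; exact Submodule.zero_mem _
  | @homogeneous a t =>
    exact Submodule.mem_iSup_of_mem (a + g) (act_mem ℳ 𝒩 ((hT.2 a).le ⟨t, t.2, rfl⟩) hz)
  | add a b ha hb => rw [map_add, map_add, LinearMap.add_apply]; exact Submodule.add_mem _ ha hb

/-- The `T`-module structure of a Segre product. -/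
@[reducible]
def segModule : Module T (segSub k ℳ 𝒩) where
  smul t z := ⟨GrSeg.act k R S M N (ψ t) z.1, act_mem_segSub ℳ 𝒩 hT t z.2⟩
  one_smul z := Subtype.ext (by
    show GrSeg.act k R S M N (ψ 1) z.1 = z.1
    rw [map_one, act_one]; rfl)
  mul_smul a b z := Subtype.ext (by
    show GrSeg.act k R S M N (ψ (a * b)) z.1 = GrSeg.act k R S M N (ψ a) (GrSeg.act k R S M N (ψ b) z.1)
    rw [map_mul, act_mul]; rfl)
  smul_zero a := Subtype.ext (map_zero _)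
  smul_add a x y := Subtype.ext (map_add _ _ _)
  add_smul a b z := Subtype.ext (by
    show GrSeg.act k R S M N (ψ (a + b)) z.1 = GrSeg.act k R S M N (ψ a) z.1 + GrSeg.act k R S M N (ψ b) z.1
    rw [map_add, map_add]; rfl)
  zero_smul z := Subtype.ext (by
    show GrSeg.act k R S M N (ψ 0) z.1 = 0
    rw [map_zero, map_zero]; rfl)

/-- The Segre product of two graded modules. -/
def seg : GrLC.GMod.{u} 𝒯 :=
  letI := segModule ℳ 𝒩 hT
  mkGMod (R := T) (segSub k ℳ 𝒩) (fun g => ((GrSeg.segrePiece k ℳ 𝒩 g).comap (segSub k ℳ 𝒩).subtype).toAddSubgroup)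
    (isInternal_of_proj _
      (fun g => ((pr2 ℳ 𝒩 𝒜 ℬ g).toAddMonoidHom.comp (segSub k ℳ 𝒩).subtype.toAddMonoidHom).codRestrict _
        fun z => Submodule.mem_iSup_of_mem g (pr2_mem ℳ 𝒩 g z.1))
      (fun g z hz => Subtype.ext (pr2_of_mem ℳ 𝒩 hz))
      (fun g h e z hz => Subtype.ext (pr2_of_mem_ne ℳ 𝒩 hz e.symm))
      fun z => by
        obtain ⟨z, hz⟩ := z
        refine Submodule.iSup_induction' (motive := fun z hz => (⟨z, hz⟩ : segSub k ℳ 𝒩) ∈ _)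
          (GrSeg.segrePiece k ℳ 𝒩) (fun g x hx => AddSubgroup.mem_iSup_of_mem g hx) (zero_mem _)
          (fun a b _ _ ha hb => add_mem ha hb) hz)
    fun a g t z ht hz => by
      show GrSeg.act k R S M N (ψ t) z.1 ∈ GrSeg.segrePiece k ℳ 𝒩 (a + g)
      exact act_mem ℳ 𝒩 ((hT.2 a).le ⟨t, ht, rfl⟩) hz

/-- The inclusion into the tensor product. -/
def segι : (seg ℳ 𝒩 hT).carrier →ₗ[k] M ⊗[k] N where
  toFun z := (z : segSub k ℳ 𝒩).1
  map_add' _ _ := rfl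
  map_smul' c z := by
    show GrSeg.act k R S M N (ψ (algebraMap k T c)) (z : segSub k ℳ 𝒩).1 = c • (z : segSub k ℳ 𝒩).1
    rw [AlgHom.commutes, Algebra.algebraMap_eq_smul_one, map_smul, act_one]
    rfl

theorem segι_injective : Function.Injective (segι ℳ 𝒩 hT) := fun _ _ h => Subtype.ext h

theorem segι_smul (t : T) (z : (seg ℳ 𝒩 hT).carrier) :
    segι ℳ 𝒩 hT (t • z) = GrSeg.act k R S M N (ψ t) (segι ℳ 𝒩 hT z) := rfl

theorem segι_mem (z : (seg ℳ 𝒩 hT).carrier) : segι ℳ 𝒩 hT z ∈ segSub k ℳ 𝒩 := (z : segSub k ℳ 𝒩).2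

theorem mem_seg_gr {g : ℤ} {z : (seg ℳ 𝒩 hT).carrier} :
    z ∈ (seg ℳ 𝒩 hT).gr g ↔ segι ℳ 𝒩 hT z ∈ GrSeg.segrePiece k ℳ 𝒩 g := Iff.rfl

theorem exists_segι {w : M ⊗[k] N} (hw : w ∈ segSub k ℳ 𝒩) : ∃ z, segι ℳ 𝒩 hT z = w := ⟨⟨w, hw⟩, rfl⟩

theorem exists_segι_piece {g : ℤ} {w : M ⊗[k] N} (hw : w ∈ GrSeg.segrePiece k ℳ 𝒩 g) :
    ∃ z ∈ (seg ℳ 𝒩 hT).gr g, segι ℳ 𝒩 hT z = w :=
  ⟨⟨w, Submodule.mem_iSup_of_mem g hw⟩, hw, rfl⟩

theorem isSegreMod_seg : GrSeg.IsSegreMod ψ ℳ 𝒩 (seg ℳ 𝒩 hT).gr (segι ℳ 𝒩 hT) where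
  injective := segι_injective ℳ 𝒩 hT
  image_piece n := by
    refine Set.ext fun w => ⟨?_, fun hw => ?_⟩
    · rintro ⟨z, hz, rfl⟩; exact hz
    · obtain ⟨z, hz, rfl⟩ := exists_segι_piece ℳ 𝒩 hT hw
      exact ⟨z, hz, rfl⟩
  map_smul := segι_smul ℳ 𝒩 hT

/-- Induction on homogeneous generators. -/
theorem seg_induction {P : (seg ℳ 𝒩 hT).carrier → Prop} (z : (seg ℳ 𝒩 hT).carrier) (h0 : P 0)
    (hadd : ∀ x y, P x → P y → P (x + y))
    (h : ∀ (g : ℤ) (a : M) (b : N), a ∈ ℳ g → b ∈ 𝒩 g → ∀ z, segι ℳ 𝒩 hT z = a ⊗ₜ[k] b → P z) : P z := by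
  have key : ∀ w ∈ segSub k ℳ 𝒩, ∃ z, segι ℳ 𝒩 hT z = w ∧ P z := by
    intro w hw
    refine Submodule.iSup_induction (motive := fun w => ∃ z, segι ℳ 𝒩 hT z = w ∧ P z) _ hw
      (fun g x hx => ?_) ⟨0, map_zero _, h0⟩
      (fun a b ⟨z, e, hz⟩ ⟨z', e', hz'⟩ => ⟨z + z', by rw [map_add, e, e'], hadd _ _ hz hz'⟩)
    induction hx using Submodule.closure_induction with
    | zero => exact ⟨0, map_zero _, h0⟩
    | add a b _ _ ha hb =>
      obtain ⟨z, e, hz⟩ := ha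
      obtain ⟨z', e', hz'⟩ := hb
      exact ⟨z + z', by rw [map_add, e, e'], hadd _ _ hz hz'⟩
    | smul_mem c x hx =>
      obtain ⟨a, ha, b, hb, rfl⟩ := hx
      have hca : c • a ∈ ℳ g := GrSegLib.smul_mem_piece 𝒜 ℳ c ha
      obtain ⟨z, -, e⟩ := exists_segι_piece ℳ 𝒩 hT (g := g) (w := (c • a) ⊗ₜ[k] b)
        (Submodule.subset_span ⟨_, hca, b, hb, rfl⟩)
      exact ⟨z, e.trans (TensorProduct.smul_tmul' c a b).symm, h g _ b hca hb z e⟩
  obtain ⟨z', e, hz'⟩ := key _ (segι_mem ℳ 𝒩 hT z)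
  rwa [← segι_injective ℳ 𝒩 hT e]

end Objects

end Groth.Agent.SegLC
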