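import Groth.Agent.Lib.SegLC.Obj
import Groth.Agent.Lib.SegLC.Coh

/-!
# The complexes in one degree of an acyclic resolution
-/

universe u

open DirectSum
open Groth.Agent.GrLC21

noncomputable section

set_option linter.unusedSectionVars false

namespace Groth.Agent.SegLC

variable {k : Type u} [Field k] {T : Type u} [CommRing T] [Algebra k T]
  {𝒯 : ℤ → Submodule k T} [GradedAlgebra 𝒯]

/-- A piece as a vector space. -/
def pieceK (X : GrLC.GMod.{u} 𝒯) (g : ℤ) : Submodule k X.carrier where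
  carrier := X.gr g
  add_mem' := add_mem
  zero_mem' := zero_mem _
  smul_mem' c _ hx := by
    have h := GrLC21.smul_mem 𝒯 X.gr (SetLike.algebraMap_mem_graded 𝒯 c) hx
    rwa [zero_add, algebraMap_smul] at h

theorem mem_pieceK {X : GrLC.GMod.{u} 𝒯} {g : ℤ} {x : X.carrier} : x ∈ pieceK X g ↔ x ∈ X.gr g := Iff.rfl

/-- A homogeneous map on one piece. -/
def pieceLin {X Y : GrLC.GMod.{u} 𝒯} (f : X.carrier →ₗ[T] Y.carrier) (hf : GrLC.IsGrHom X.gr Y.gr f) (g : ℤ) :
    pieceK X g →ₗ[k] pieceK Y g :=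
  ((f.restrictScalars k).comp (pieceK X g).subtype).codRestrict _ fun x => hf g _ x.2

theorem pieceLin_apply {X Y : GrLC.GMod.{u} 𝒯} (f : X.carrier →ₗ[T] Y.carrier) (hf : GrLC.IsGrHom X.gr Y.gr f)
    (g : ℤ) (x : pieceK X g) : (pieceLin f hf g x : Y.carrier) = f x.1 := rfl

/-- A homogeneous isomorphism on one piece. -/
def pieceEquiv {X Y : GrLC.GMod.{u} 𝒯} (e : X.carrier ≃ₗ[T] Y.carrier) (he : GrLC.IsGrHom X.gr Y.gr e.toLinearMap)
    (g : ℤ) : pieceK X g ≃ₗ[k] pieceK Y g :=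
  LinearEquiv.ofLinear (pieceLin e.toLinearMap he g) (pieceLin e.symm.toLinearMap (GrLC21.isGrHom_symm he) g)
    (LinearMap.ext fun x => Subtype.ext (e.apply_symm_apply x.1))
    (LinearMap.ext fun x => Subtype.ext (e.symm_apply_apply x.1))

variable {M : Type u} [AddCommGroup M] [Module T M] {τ : Type u} [SetLike τ M] [AddSubgroupClass τ M]
  {ℳ : ℤ → τ} [Decomposition ℳ] [SetLike.GradedSMul 𝒯 ℳ]
  (C : GRes 𝒯 ℳ) (a : HomogeneousIdeal 𝒯) (g : ℤ)

/-- The piece complex. -/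
abbrev VX (n : ℕ) : Submodule k (C.X n).carrier := pieceK (C.X n) g

/-- Its differential. -/
def Vd (n : ℕ) : VX C g n →ₗ[k] VX C g (n + 1) := pieceLin (C.d n) (C.d_grHom n) g

/-- The torsion-free quotient of a term. -/
abbrev QX (n : ℕ) : GrLC.GMod.{u} 𝒯 := quot (C.X n) _ (gam_isHomogeneous a (C.X n).gr)

/-- The induced differential. -/
def Qd (n : ℕ) : (QX C a n).carrier →ₗ[T] (QX C a (n + 1)).carrier :=
  Submodule.mapQ _ _ (C.d n) fun _ hx => map_mem_gam (C.d n) hx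

theorem Qd_grHom (n : ℕ) : GrLC.IsGrHom (QX C a n).gr (QX C a (n + 1)).gr (Qd C a n) := by
  rintro g _ ⟨x, hx, rfl⟩
  exact ⟨C.d n x, C.d_grHom n g x hx, rfl⟩

/-- The piece complex of the quotient. -/
abbrev QV (n : ℕ) : Submodule k (QX C a n).carrier := pieceK (QX C a n) g

/-- Its differential. -/
def QVd (n : ℕ) : QV C a g n →ₗ[k] QV C a g (n + 1) := pieceLin (Qd C a n) (Qd_grHom C a n) g

/-- The projection. -/
def Qp (n : ℕ) : VX C g n →ₗ[k] QV C a g n :=
  pieceLin (quotπ (C.X n) _ (gam_isHomogeneous a (C.X n).gr)) (quotπ_grHom _ _ _) g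

theorem Qp_comm (n : ℕ) (x : VX C g n) : QVd C a g n (Qp C a g n x) = Qp C a g (n + 1) (Vd C g n x) := Subtype.ext rfl

theorem Qp_surjective (n : ℕ) : Function.Surjective (Qp C a g n) := fun y => by
  obtain ⟨x, hx, e⟩ := y.2
  exact ⟨⟨x, hx⟩, Subtype.ext e⟩

theorem Qp_eq_zero_iff {n : ℕ} (x : VX C g n) :
    Qp C a g n x = 0 ↔ x.1 ∈ GrLC.gam a.toIdeal (C.X n).carrier :=
  ⟨fun h => (Submodule.Quotient.mk_eq_zero _).1 (congrArg Subtype.val h),
    fun h => Subtype.ext ((Submodule.Quotient.mk_eq_zero _).2 h)⟩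

/-- The torsion piece complex. -/
abbrev Kd (n : ℕ) := kerD (Vd C g) (QVd C a g) (Qp C a g) (Qp_comm C a g) n

theorem Vd_Vd (n : ℕ) (x : VX C g n) : Vd C g (n + 1) (Vd C g n x) = 0 := Subtype.ext (C.d_d n x.1)

theorem ker_Vd_succ (n : ℕ) : LinearMap.ker (Vd C g (n + 1)) ≤ LinearMap.range (Vd C g n) := fun x hx => by
  have h : x.1 ∈ LinearMap.range (C.d n) := (C.exact_succ n).le (congrArg Subtype.val hx)
  obtain ⟨y, hy, e⟩ := exists_homogeneous_preimage (C.d_grHom n) x.2 h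
  exact ⟨⟨y, hy⟩, Subtype.ext e⟩

/-- The torsion piece complex computes the piece of the cohomology. -/
theorem nonempty_piece_coh (q : ℕ) :
    Nonempty (pieceK (C.Hmod a q) g ≃ₗ[k] Coh (Kd C a g) q) := by
  let c : LinearMap.ker (Kd C a g q) →ₗ[k] (C.cocycMod a q).carrier :=
    { toFun := fun z =>
        (⟨z.1.1.1, (Qp_eq_zero_iff C a g z.1.1).1 z.1.2,
          congrArg (fun w : LinearMap.ker (Qp C a g (q + 1)) => w.1.1) z.2⟩ : C.cocyc a q)
      map_add' := fun _ _ => rfl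
      map_smul' := fun _ _ => rfl }
  let toHG : (C.cocycMod a q).carrier →ₗ[T] (C.Hmod a q).carrier := C.toH a q
  let f : LinearMap.ker (Kd C a g q) →ₗ[k] pieceK (C.Hmod a q) g :=
    (toHG.restrictScalars k ∘ₗ c).codRestrict _ fun z => (C.mem_Hmod_gr a).2 ⟨c z, z.1.1.2, rfl⟩
  have hfs : Function.Surjective f := by
    rintro ⟨y, hy⟩
    obtain ⟨z, hz, rfl⟩ := (C.mem_Hmod_gr a).1 hy
    exact ⟨⟨⟨⟨z.1, hz⟩, (Qp_eq_zero_iff C a g _).2 z.2.1⟩, Subtype.ext (Subtype.ext z.2.2)⟩, rfl⟩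
  have hk : LinearMap.ker f = (cob (Kd C a g) q).comap (LinearMap.ker (Kd C a g q)).subtype := by
    refine SetLike.ext fun z => ⟨fun hz => ?_, fun hz => Subtype.ext ((C.toH_eq_zero_iff a _).2 ?_)⟩
    · have h := (C.toH_eq_zero_iff a _).1 (congrArg Subtype.val hz)
      rcases q with _ | n
      · exact (Submodule.mem_bot k).2 (Subtype.ext (Subtype.ext ((Submodule.mem_bot T).1 h)))
      · obtain ⟨y, hy, e⟩ := h
        refine ⟨⟨⟨proj (C.X n).gr g y, GrLC21.proj_mem (C.X n).gr g y⟩, (Qp_eq_zero_iff C a g _).2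
          (gam_isHomogeneous a (C.X n).gr g hy)⟩, Subtype.ext (Subtype.ext ?_)⟩
        show C.d n (proj (C.X n).gr g y) = z.1.1.1
        rw [GrLC21.map_proj (C.d_grHom n), e]
        exact proj_of_mem _ z.1.1.2
    · rcases q with _ | n
      · have h0 : z.1 = 0 := (Submodule.mem_bot k).1 hz
        show z.1.1.1 ∈ (⊥ : Submodule T _)
        rw [h0]
        exact Submodule.zero_mem _
      · obtain ⟨y, hy⟩ := hz
        exact ⟨y.1.1, (Qp_eq_zero_iff C a g _).1 y.2,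
          congrArg (fun w : LinearMap.ker (Qp C a g (n + 1)) => w.1.1) hy⟩
  exact ⟨((Submodule.quotEquivOfEq _ _ hk.symm).trans (f.quotKerEquivOfSurjective hfs)).symm⟩

/-- In degrees at least two. -/
theorem nonempty_piece_succ (q : ℕ) :
    Nonempty (pieceK (C.Hmod a (q + 2)) g ≃ₗ[k] Coh (QVd C a g) (q + 1)) := by
  obtain ⟨δ, hδ, hker⟩ := exists_connecting (Vd C g) (QVd C a g) (Qp C a g) (Qp_comm C a g) (Qp_surjective C a g)
    (Vd_Vd C g) (q + 1) (ker_Vd_succ C g (q + 1))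
  have hk : LinearMap.ker δ = (cob (QVd C a g) (q + 1)).comap (LinearMap.ker (QVd C a g (q + 1))).subtype := by
    refine SetLike.ext fun z => ⟨fun hz => ?_, fun hz => (hker z).2 ⟨0, map_zero _, ?_⟩⟩
    · obtain ⟨x, hx, hz'⟩ := (hker z).1 hz
      obtain ⟨y, rfl⟩ := ker_Vd_succ C g q hx
      have h1 : Qp C a g (q + 1) (Vd C g q y) ∈ cob (QVd C a g) (q + 1) := ⟨Qp C a g q y, Qp_comm C a g q y⟩
      have := Submodule.add_mem _ hz' h1
      rwa [sub_add_cancel] at this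
    · rw [map_zero, sub_zero]
      exact hz
  obtain ⟨e⟩ := nonempty_piece_coh C a g (q + 2)
  exact ⟨e.trans ((Submodule.quotEquivOfEq _ _ hk.symm).trans (δ.quotKerEquivOfSurjective hδ)).symm⟩

/-- In degree one. -/
theorem finrank_piece_one (htf : ∀ m ∈ ℳ g, m ∈ GrLC.gam a.toIdeal M → m = 0)
    [Module.Finite k (pieceK (C.Hmod a 1) g)] [Module.Finite k (pieceK (toGMod 𝒯 ℳ) g)] :
    Module.Finite k (Coh (QVd C a g) 0) ∧
      Module.finrank k (pieceK (C.Hmod a 1) g) + Module.finrank k (pieceK (toGMod 𝒯 ℳ) g) =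
        Module.finrank k (Coh (QVd C a g) 0) := by
  obtain ⟨δ, hδ, hker⟩ := exists_connecting (Vd C g) (QVd C a g) (Qp C a g) (Qp_comm C a g) (Qp_surjective C a g)
    (Vd_Vd C g) 0 (ker_Vd_succ C g 0)
  let εk : (toGMod 𝒯 ℳ).carrier →ₗ[T] (C.X 0).carrier := C.ε
  have hεk : GrLC.IsGrHom (toGMod 𝒯 ℳ).gr (C.X 0).gr εk := C.ε_grHom
  let j : pieceK (toGMod 𝒯 ℳ) g →ₗ[k] LinearMap.ker (QVd C a g 0) :=
    (Qp C a g 0 ∘ₗ pieceLin εk hεk g).codRestrict _ fun m => by
      rw [LinearMap.mem_ker, LinearMap.comp_apply, Qp_comm]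
      refine (congrArg _ (Subtype.ext ?_ : Vd C g 0 (pieceLin εk hεk g m) = 0)).trans (map_zero _)
      exact LinearMap.mem_ker.1 (C.exact_zero.ge (LinearMap.mem_range_self C.ε m.1))
  have hj : Function.Injective j := (injective_iff_map_eq_zero j).2 fun m hm => by
    have h := (Qp_eq_zero_iff C a g _).1 (congrArg Subtype.val hm)
    exact Subtype.ext (htf m.1 m.2 (mem_gam_of_injective C.ε C.ε_injective h))
  have hr : LinearMap.ker δ = LinearMap.range j := by
    refine SetLike.ext fun z => ⟨fun hz => ?_, ?_⟩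
    · obtain ⟨x, hx, hz'⟩ := (hker z).1 hz
      have hx' : x.1 ∈ LinearMap.range C.ε := C.exact_zero.le (congrArg Subtype.val hx)
      obtain ⟨m, hm, e⟩ := exists_homogeneous_preimage C.ε_grHom x.2 hx'
      refine ⟨⟨m, hm⟩, Subtype.ext ?_⟩
      rw [sub_eq_zero.1 ((Submodule.mem_bot k).1 hz')]
      exact congrArg (Qp C a g 0) (Subtype.ext e)
    · rintro ⟨m, rfl⟩
      refine (hker _).2 ⟨pieceLin εk hεk g m, Subtype.ext ?_, ?_⟩
      · exact LinearMap.mem_ker.1 (C.exact_zero.ge (LinearMap.mem_range_self C.ε m.1))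
      · exact (Submodule.mem_bot k).2 (sub_self _)
  obtain ⟨e⟩ := nonempty_piece_coh C a g 1
  obtain ⟨e₀⟩ := nonempty_coh_zero (QVd C a g)
  let δ' : LinearMap.ker (QVd C a g 0) →ₗ[k] pieceK (C.Hmod a 1) g := e.symm.toLinearMap ∘ₗ δ
  have hδ' : Function.Surjective δ' := e.symm.surjective.comp hδ
  have hk' : LinearMap.ker δ' = LinearMap.range j := by
    rw [LinearMap.ker_comp, LinearEquiv.ker, Submodule.comap_bot, hr]
  have : IsNoetherian k (LinearMap.ker (QVd C a g 0)) := isNoetherian_of_range_eq_ker j δ' hk'.symm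
  refine ⟨Module.Finite.equiv e₀.symm, ?_⟩
  have h := δ'.finrank_range_add_finrank_ker
  rw [LinearMap.range_eq_top.2 hδ', finrank_top, hk', LinearMap.finrank_range_of_inj hj] at h
  rw [h, e₀.finrank_eq]

end Groth.Agent.SegLC
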