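import Groth.Agent.Lib.SegLC.SegCM
import Groth.Agent.Lib.GrLC21.RegPoly
import Groth.Agent.Lib.GrLC21.TopPiece
import Groth.Agent.Lib.VarDim.Alg

/-!
# Shifted polynomial rings and their Segre products
-/

universe u

open DirectSum TensorProduct MvPolynomial GrSyz
open Groth.Agent.GrLC21 Groth.Agent.GrSegLib

noncomputable section

set_option linter.unusedSectionVars false
set_option backward.isDefEq.respectTransparency false

namespace Groth.Agent.SegLC

variable (k : Type u) [Field k] (d : ℕ) (a : ℤ)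

/-- The standard grading moved by `a`. -/
abbrev shiftStd : ℤ → Submodule k (MvPolynomial (Fin d) k) :=
  fun n => (MvPolynomial.weightedHomogeneousSubmodule k (fun _ : Fin d => (1 : ℤ))) (n + a)

instance stdGrGraded : GradedAlgebra (MvPolynomial.weightedHomogeneousSubmodule k (fun _ : Fin d => (1 : ℤ))) :=
  MvPolynomial.weightedGradedAlgebra k (fun _ : Fin d => (1 : ℤ))

instance shiftStdDecomposition : Decomposition (shiftStd k d a) :=
  IsInternal.chooseDecomposition (shiftStd k d a)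
    (GrLC21.isInternal_of_proj (shiftStd k d a) (fun g => GrLC21.proj (stdGr k (Fin d)) (g + a))
      (fun _ _ hx => GrLC21.proj_of_mem _ hx)
      (fun _ _ e _ hx => GrLC21.proj_of_mem_ne _ hx fun e' => e (add_right_cancel e').symm)
      (fun x => by
        refine GrLC21.spans_induction (GrLC21.spans_of_decomposition (stdGr k (Fin d))) x (zero_mem _)
          (fun _ _ => add_mem) fun g y hy => AddSubgroup.mem_iSup_of_mem (g - a) ?_
        show y ∈ stdGr k (Fin d) (g - a + a)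
        rwa [sub_add_cancel]))

instance shiftStdGradedSMul :
    SetLike.GradedSMul (MvPolynomial.weightedHomogeneousSubmodule k (fun _ : Fin d => (1 : ℤ))) (shiftStd k d a) :=
  ⟨fun {i j r x} hr hx => by
    show r * x ∈ stdGr k (Fin d) (i + j + a)
    rw [add_assoc]
    exact SetLike.mul_mem_graded hr hx⟩

instance shiftStdGradedSMul' : SetLike.GradedSMul (stdGr k (Fin d)) (shiftStd k d a) :=
  shiftStdGradedSMul k d a

theorem van_shiftStd_iff (m : HomogeneousIdeal (stdGr k (Fin d))) (i : ℕ) (g : ℤ) :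
    Van m i g (toGMod (stdGr k (Fin d)) (shiftStd k d a)) ↔ Van m i (g + a) (polyMod k d) := by
  have h := van_shift_iff (a := m) (i := i) (g := g) (X := polyMod k d) (-a)
  rw [sub_neg_eq_add] at h
  let e : (toGMod (stdGr k (Fin d)) (shiftStd k d a)).carrier ≃ₗ[MvPolynomial (Fin d) k]
      (shift (polyMod k d) (-a)).carrier := LinearEquiv.refl _ _
  have he : GrLC.IsGrHom (toGMod (stdGr k (Fin d)) (shiftStd k d a)).gr (shift (polyMod k d) (-a)).gr e.toLinearMap :=
    fun n x hx => by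
      show x ∈ (polyMod k d).gr (n - -a)
      rw [sub_neg_eq_add]
      exact hx
  rw [← h]
  exact ⟨fun hv => Van.of_equiv e he hv, fun hv => Van.of_equiv' e he hv⟩

theorem stdGr_pos : ∀ n : ℤ, n < 0 → stdGr k (Fin d) n = ⊥ := fun n hn =>
  (Submodule.eq_bot_iff _).2 (GrLC21.hpos_std n hn)

theorem stdGr_zero : stdGr k (Fin d) 0 = Submodule.span k {(1 : MvPolynomial (Fin d) k)} := by
  refine le_antisymm (fun p hp => ?_) (Submodule.span_le.2 (by
    rintro _ rfl
    exact SetLike.GradedOne.one_mem))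
  have hw := (GrSyz.mem_stdGr_iff _ _ _ _).1 hp
  refine Submodule.mem_span_singleton.2 ⟨constantCoeff p, ?_⟩
  ext m
  rcases eq_or_ne m 0 with rfl | hm
  · simp [MvPolynomial.constantCoeff_eq]
  · rw [MvPolynomial.coeff_smul, MvPolynomial.coeff_one, if_neg (Ne.symm hm), smul_zero]
    by_contra hc
    have h := hw (Ne.symm hc)
    refine hm (Finsupp.ext fun i => ?_)
    rw [Finsupp.weight_apply, Finsupp.sum_fintype _ _ (by simp)] at h
    simp only [nsmul_eq_mul, mul_one] at h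
    have h' := (Finset.sum_eq_zero_iff_of_nonneg fun j _ => Int.natCast_nonneg (m j)).1 h i (Finset.mem_univ i)
    simpa using h'

theorem shiftStd_eq_zero_iff [NeZero d] (n : ℤ) : (∀ x ∈ shiftStd k d a n, x = 0) ↔ n + a < 0 := by
  refine ⟨fun h => ?_, fun h => GrLC21.hpos_std _ h⟩
  by_contra hn
  obtain ⟨j, hj⟩ := Int.eq_ofNat_of_zero_le (not_lt.1 hn)
  refine pow_ne_zero j (X_ne_zero (0 : Fin d) (R := k)) (h _ ?_)
  show _ ∈ stdGr k (Fin d) (n + a)
  have h' := SetLike.pow_mem_graded j (GrLC21.X_mem_stdGr (k := k) (0 : Fin d))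
  rwa [show j • (1 : ℤ) = n + a by simp [hj]] at h'

theorem irr_stdGr_toIdeal : (irr (stdGr k (Fin d))).toIdeal = (GrSyz.irrel (stdGr k (Fin d))).toIdeal :=
  le_antisymm (Ideal.span_le.2 fun x hx => by
    obtain ⟨n, hn, hx⟩ := Set.mem_iUnion₂.1 hx
    exact Ideal.subset_span ⟨n, hn, hx⟩) GrLC21.irrel_le_posSpan

theorem irr_stdGr : irr (stdGr k (Fin d)) = GrSyz.irrel (stdGr k (Fin d)) :=
  HomogeneousIdeal.ext (irr_stdGr_toIdeal k d)

theorem supportDim_poly : Module.supportDim (MvPolynomial (Fin d) k) (MvPolynomial (Fin d) k) = d := by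
  rw [Module.supportDim_self_eq_ringKrullDim]
  exact Groth.Agent.VarDim.ringKrullDim_mvPolynomial k d

theorem van_shiftStd_top_iff [NeZero d] (g : ℤ) :
    Van (irr (stdGr k (Fin d))) d g (toGMod (stdGr k (Fin d)) (shiftStd k d a)) ↔ -(d : ℤ) < g + a := by
  rw [van_shiftStd_iff, irr_stdGr]
  refine ⟨fun h => ?_, fun h => GrLC21.van_polyMod.2.1 _ h⟩
  by_contra hlt
  have key : ∀ j : ℕ, Van (irrel (stdGr k (Fin d))) d (g + a + j) (polyMod k d) := by
    intro j
    induction j with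
    | zero => simpa using h
    | succ j ih =>
      rw [Nat.cast_succ, ← add_assoc]
      exact GrLC21.van_top_succ GrLC21.irrel_eq_span_one (Groth.Agent.VarDim.ringKrullDim_mvPolynomial k d)
        (Nat.one_le_iff_ne_zero.2 (NeZero.ne d)) ih
  refine (GrLC21.van_polyMod (k := k) (d := d)).2.2 ?_
  have := key (-(d : ℤ) - (g + a)).toNat
  rwa [show g + a + ((-(d : ℤ) - (g + a)).toNat : ℤ) = -(d : ℤ) by omega] at this

theorem cm_shiftStd : ∀ (q : Ideal (MvPolynomial (Fin d) k)) [q.IsPrime],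
    Subsingleton (LocalizedModule q.primeCompl (MvPolynomial (Fin d) k)) ∨
      LocCoh.IsCohenMacaulayModule (Localization.AtPrime q) (LocalizedModule q.primeCompl (MvPolynomial (Fin d) k)) :=
  (GrLC21.cm_iff_van (m := irr (stdGr k (Fin d))) GrLC21.hpos_std
    (isStarLocal_plus (stdGr_pos k d) (stdGr_zero k d) rfl) (shiftStd k d 0) (supportDim_poly k d)).2
    fun i hi g => (van_shiftStd_iff k d 0 _ i g).2 (by rw [irr_stdGr]; exact GrLC21.van_polyMod.1 i _ hi)

section Segre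

variable {k} (r s : ℕ) [NeZero r] [NeZero s]
variable {T : Type u} [CommRing T] [Algebra k T] {𝒯 : ℤ → Submodule k T} [GradedAlgebra 𝒯]
  {ψ : T →ₐ[k] MvPolynomial (Fin r) k ⊗[k] MvPolynomial (Fin s) k}
  (hT : GrSeg.IsSegreRing (stdGr k (Fin r)) (stdGr k (Fin s)) 𝒯 ψ)
  {mT : HomogeneousIdeal 𝒯} (hmT : mT.toIdeal = Ideal.span (⋃ n ∈ Set.Ioi (0 : ℤ), (𝒯 n : Set T)))
  (b : ℤ) {P : Type u} [AddCommGroup P] [Module T P] [Module k P] [IsScalarTower k T P]
  {τ : Type u} [SetLike τ P] [AddSubgroupClass τ P] {𝒬 : ℤ → τ} [Decomposition 𝒬]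
  {φ : P →ₗ[k] MvPolynomial (Fin r) k ⊗[k] MvPolynomial (Fin s) k}
  (hP : GrSeg.IsSegreMod ψ (shiftStd k r a) (shiftStd k s b) 𝒬 φ)

include hP in
theorem nontrivial_segre_shiftStd : Nontrivial P := by
  by_contra hP0
  rw [not_nontrivial_iff_subsingleton] at hP0
  let n : ℤ := max (-a) (-b)
  have h1 : ¬ ∀ x ∈ shiftStd k r a n, x = 0 := fun h => by
    have := (shiftStd_eq_zero_iff k r a n).1 h
    omega
  have h2 : ¬ ∀ x ∈ shiftStd k s b n, x = 0 := fun h => by
    have := (shiftStd_eq_zero_iff k s b n).1 h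
    omega
  push Not at h1 h2
  obtain ⟨x, hx, hx0⟩ := h1
  obtain ⟨y, hy, hy0⟩ := h2
  obtain ⟨p, -, hp⟩ := exists_preimage (shiftStd k r a) (shiftStd k s b) 𝒬 hP
    (Submodule.subset_span ⟨x, hx, y, hy, rfl⟩ :
      x ⊗ₜ[k] y ∈ GrSeg.segrePiece k (shiftStd k r a) (shiftStd k s b) n)
  rw [Subsingleton.elim p 0, map_zero] at hp
  let f := LinearMap.toSpanSingleton k (MvPolynomial (Fin r) k) x
  let g := LinearMap.toSpanSingleton k (MvPolynomial (Fin s) k) y
  have hfg : Function.Injective (TensorProduct.map f g) := by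
    rw [← LinearMap.lTensor_comp_rTensor, LinearMap.coe_comp]
    exact (Module.Flat.lTensor_preserves_injective_linearMap g (smul_left_injective k hy0)).comp
      (Module.Flat.rTensor_preserves_injective_linearMap f (smul_left_injective k hx0))
  have h : ((1 : k) ⊗ₜ[k] (1 : k)) = 0 := hfg (by
    rw [TensorProduct.map_tmul, map_zero]
    simp [f, g, ← hp])
  have := congrArg (TensorProduct.lid k k) h
  simp at this

include hT hmT hP in
theorem cm_segre_shiftStd_iff :
    (∀ (q : Ideal T) [q.IsPrime], Subsingleton (LocalizedModule q.primeCompl P) ∨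
      LocCoh.IsCohenMacaulayModule (Localization.AtPrime q) (LocalizedModule q.primeCompl P)) ↔
    (2 ≤ r → a - b < (s : ℤ)) ∧ (2 ≤ s → -(r : ℤ) < a - b) := by
  have := nontrivial_segre_shiftStd a r s b hP
  have D : Data (stdGr k (Fin r)) (stdGr k (Fin s)) 𝒯 ψ (irr (stdGr k (Fin r))) (irr (stdGr k (Fin s))) mT :=
    ⟨hT, stdGr_pos k r, stdGr_pos k s, rfl, rfl, hmT⟩
  obtain ⟨EM⟩ := nonempty_res (𝒜 := stdGr k (Fin r)) (shiftStd k r a)
  obtain ⟨EN⟩ := nonempty_res (𝒜 := stdGr k (Fin s)) (shiftStd k s b)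
  rw [D.cm_segre_iff (stdGr_zero k r) (stdGr_zero k s) EM EN hP (Nat.one_le_iff_ne_zero.2 (NeZero.ne r))
    (Nat.one_le_iff_ne_zero.2 (NeZero.ne s)) (supportDim_poly k r) (supportDim_poly k s) (cm_shiftStd k r)
    (cm_shiftStd k s)]
  simp only [Hcomp_eq_bot_iff_van, van_shiftStd_top_iff, shiftStd_eq_zero_iff]
  constructor
  · rintro ⟨hA, hB⟩
    refine ⟨fun h2 => ?_, fun h2 => ?_⟩
    · rcases hA h2 (-(s : ℤ) - b) with h | h <;> omega
    · rcases hB h2 (-(r : ℤ) - a) with h | h <;> omega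
  · rintro ⟨hA, hB⟩
    refine ⟨fun h2 d => ?_, fun h2 d => ?_⟩
    · have := hA h2; omega
    · have := hB h2; omega

include hT hmT hP in
/-- The local cohomology of a Segre product of shifted polynomial rings below the top degree. -/
theorem van_segre_shiftStd [IsNoetherianRing T] [SetLike.GradedSMul 𝒯 𝒬] [Module.Finite T P] {q : ℕ}
    (hq : q ≠ r + s - 1) (g : ℤ) :
    Van mT q g (toGMod 𝒯 𝒬) ↔
      (q = s → g + a < 0 ∨ -(s : ℤ) < g + b) ∧ (q = r → -(r : ℤ) < g + a ∨ g + b < 0) := by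
  have D : Data (stdGr k (Fin r)) (stdGr k (Fin s)) 𝒯 ψ (irr (stdGr k (Fin r))) (irr (stdGr k (Fin s))) mT :=
    ⟨hT, stdGr_pos k r, stdGr_pos k s, rfl, rfl, hmT⟩
  obtain ⟨_, h0T⟩ := D.deg0T (stdGr_zero k r) (stdGr_zero k s)
  obtain ⟨EM⟩ := nonempty_res (𝒜 := stdGr k (Fin r)) (shiftStd k r a)
  obtain ⟨EN⟩ := nonempty_res (𝒜 := stdGr k (Fin s)) (shiftStd k s b)
  obtain ⟨EP⟩ := nonempty_res (𝒜 := 𝒯) 𝒬
  have hposT : ∀ n : ℤ, n < 0 → 𝒯 n = ⊥ := fun n hn => by
    refine (Submodule.eq_bot_iff _).2 fun t ht => hT.1 ?_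
    have h : ψ t ∈ GrSeg.segrePiece k (stdGr k (Fin r)) (stdGr k (Fin s)) n := (hT.2 n).le ⟨t, ht, rfl⟩
    have hbot : GrSeg.segrePiece k (stdGr k (Fin r)) (stdGr k (Fin s)) n ≤ ⊥ :=
      Submodule.span_le.2 fun z ⟨c, hc, d, hd, e⟩ => by
        subst e
        simp [GrLC21.hpos_std n hn c hc]
    rw [map_zero]
    exact (Submodule.mem_bot k).1 (hbot h)
  rw [van_iff_finrank h0T hposT EP hmT q g, D.finrank_segre (stdGr_zero k r) (stdGr_zero k s) EM EN hP
    (Nat.one_le_iff_ne_zero.2 (NeZero.ne r)) (Nat.one_le_iff_ne_zero.2 (NeZero.ne s)) (supportDim_poly k r)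
    (supportDim_poly k s) (cm_shiftStd k r) (cm_shiftStd k s) EP hq g, Nat.add_eq_zero_iff]
  refine and_congr ?_ ?_
  · split_ifs with h
    · rw [mul_eq_zero, finrank_comp_eq_zero_iff (stdGr_zero k r),
        ← van_iff_finrank (stdGr_zero k s) (stdGr_pos k s) EN D.irrS, shiftStd_eq_zero_iff, van_shiftStd_top_iff]
      exact ⟨fun h' _ => h', fun h' => h' h⟩
    · exact ⟨fun _ h' => absurd h' h, fun _ => rfl⟩
  · split_ifs with h
    · rw [mul_eq_zero, finrank_comp_eq_zero_iff (stdGr_zero k s),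
        ← van_iff_finrank (stdGr_zero k r) (stdGr_pos k r) EM D.irrR, shiftStd_eq_zero_iff, van_shiftStd_top_iff]
      exact ⟨fun h' _ => h', fun h' => h' h⟩
    · exact ⟨fun _ h' => absurd h' h, fun _ => rfl⟩

include hT hmT hP in
theorem idealDepth_segre_shiftStd {n : ℕ} (hn : n ≠ r + s - 1) (hn' : n ≤ r + s - 1)
    (hlow : ∀ q < n, ∀ g : ℤ, (q = s → g + a < 0 ∨ -(s : ℤ) < g + b) ∧ (q = r → -(r : ℤ) < g + a ∨ g + b < 0))
    (g : ℤ) (htop : ¬ ((n = s → g + a < 0 ∨ -(s : ℤ) < g + b) ∧ (n = r → -(r : ℤ) < g + a ∨ g + b < 0))) :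
    LocCoh.idealDepth mT.toIdeal P = (n : ℕ∞) := by
  obtain ⟨_, _, _⟩ := segre_module_facts hT hP
  exact le_antisymm (GrLC21.idealDepth_le_of_not_van 𝒬 fun hv =>
      htop ((van_segre_shiftStd a r s hT hmT b hP hn g).1 hv))
    ((GrLC21.natCast_le_idealDepth_iff_van (ℳ := 𝒬) n).2 fun q hq g =>
      (van_segre_shiftStd a r s hT hmT b hP (by omega) g).2 (hlow q hq g))

end Segre

end Groth.Agent.SegLC
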