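import Groth.Agent.Lib.SegLC.Formula
import Groth.Agent.Lib.GrLC21.Acyclic
import Groth.Agent.Lib.LocCoh.Dim

/-!
# The top graded local cohomology of a Segre product
-/

universe u

open DirectSum TensorProduct
open Groth.Agent.GrLC21 Groth.Agent.GrSegLib

noncomputable section

set_option linter.unusedSectionVars false

namespace Groth.Agent.SegLC

section LinAlg

variable {k : Type u} [Field k] {V H H' : Type u} [AddCommGroup V] [Module k V] [AddCommGroup H] [Module k H]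
  [AddCommGroup H'] [Module k H']

theorem surjective_and_ker_eq_of_finrank [Module.Finite k H] {p : V →ₗ[k] H'} {f : V →ₗ[k] H}
    (hp : Function.Surjective p) (hker : LinearMap.ker f ≤ LinearMap.ker p)
    (hd : Module.finrank k H = Module.finrank k H') :
    Function.Surjective f ∧ LinearMap.ker p = LinearMap.ker f := by
  obtain ⟨τ, hτ⟩ : ∃ τ : LinearMap.range f →ₗ[k] H', ∀ v, τ ⟨f v, ⟨v, rfl⟩⟩ = p v := by
    let u := (LinearMap.ker f).liftQ p hker
    refine ⟨u ∘ₗ f.quotKerEquivRange.symm.toLinearMap, fun v => ?_⟩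
    show u (f.quotKerEquivRange.symm ⟨f v, ⟨v, rfl⟩⟩) = p v
    rw [show (⟨f v, ⟨v, rfl⟩⟩ : LinearMap.range f) = f.quotKerEquivRange (Submodule.Quotient.mk v) from rfl,
      LinearEquiv.symm_apply_apply]
    rfl
  have hτs : Function.Surjective τ := fun y => by
    obtain ⟨v, rfl⟩ := hp y
    exact ⟨_, hτ v⟩
  have h1 := LinearMap.finrank_le_finrank_of_injective (f := (LinearMap.range f).subtype) (Submodule.injective_subtype _)
  have h2 : Module.finrank k H' ≤ Module.finrank k (LinearMap.range f) := by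
    have := LinearMap.finrank_range_le τ
    rwa [LinearMap.range_eq_top.2 hτs, finrank_top] at this
  have : Module.Finite k H' := Module.Finite.of_surjective τ hτs
  have hτi : Function.Injective τ :=
    (LinearMap.injective_iff_surjective_of_finrank_eq_finrank (by omega)).2 hτs
  refine ⟨LinearMap.range_eq_top.1 (Submodule.eq_top_of_finrank_eq (by omega)), le_antisymm (fun v hv => ?_) hker⟩
  exact congrArg Subtype.val (hτi ((hτ v).trans (hv.trans (map_zero τ).symm)))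

end LinAlg

variable {k : Type u} [Field k]

section Lift

variable {A : Type u} [CommRing A] [Algebra k A] {𝒞 : ℤ → Submodule k A} [GradedAlgebra 𝒞]
variable {L : Type u} [AddCommGroup L] [Module A L] {τ : Type u} [SetLike τ L] [AddSubgroupClass τ L]
  {ℒ : ℤ → τ} [Decomposition ℒ] [SetLike.GradedSMul 𝒞 ℒ]
  (C : GRes 𝒞 ℒ) (m : HomogeneousIdeal 𝒞) (n : ℕ)

/-- Elements whose differential is a torsion cocycle. -/
abbrev liftMod : GrLC.GMod.{u} 𝒞 :=
  sub (C.X (n + 1)) ((C.cocyc m (n + 1 + 1)).comap (C.d (n + 1)))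
    (isHomogeneous_comap (C.d_grHom (n + 1)) (C.cocyc_isHomogeneous m (n + 1 + 1)))

/-- The inclusion. -/
abbrev liftι : (liftMod C m n).carrier →ₗ[A] (C.X (n + 1)).carrier :=
  subι (C.X (n + 1)) _ (isHomogeneous_comap (C.d_grHom (n + 1)) (C.cocyc_isHomogeneous m (n + 1 + 1)))

/-- The class of the differential. -/
def liftπ : (liftMod C m n).carrier →ₗ[A] (C.Hmod m (n + 1 + 1)).carrier :=
  C.toH m (n + 1 + 1) ∘ₗ (C.d (n + 1) ∘ₗ liftι C m n).codRestrict (C.cocyc m (n + 1 + 1)) fun x =>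
    (x : (C.cocyc m (n + 1 + 1)).comap (C.d (n + 1))).2

theorem liftπ_grHom : GrLC.IsGrHom (liftMod C m n).gr (C.Hmod m (n + 1 + 1)).gr (liftπ C m n) := fun g x hx =>
  (C.mem_Hmod_gr m).2 ⟨_, C.d_grHom (n + 1) g _ hx, rfl⟩

theorem liftπ_lift {g : ℤ} {y : (C.Hmod m (n + 1 + 1)).carrier} (hy : y ∈ (C.Hmod m (n + 1 + 1)).gr g) :
    ∃ x ∈ (liftMod C m n).gr g, liftπ C m n x = y := by
  obtain ⟨z, hz, rfl⟩ := (C.mem_Hmod_gr m).1 hy
  obtain ⟨x, hx, e⟩ := exists_homogeneous_preimage (C.d_grHom (n + 1)) hz ((C.exact_succ (n + 1)).le z.2.2)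
  exact ⟨(⟨x, show C.d (n + 1) x ∈ C.cocyc m (n + 1 + 1) from e.symm ▸ z.2⟩ :
    (C.cocyc m (n + 1 + 1)).comap (C.d (n + 1))), hx, congrArg (C.toH m (n + 1 + 1)) (Subtype.ext e)⟩

theorem liftSub_isHomogeneous :
    (GrLC.gam m.toIdeal (C.X (n + 1)).carrier ⊔ LinearMap.range (C.d n)).IsHomogeneous (C.X (n + 1)).gr :=
  isHomogeneous_sup (gam_isHomogeneous m (C.X (n + 1)).gr) (isHomogeneous_range (spans_of_decomposition (C.X n).gr) (C.d_grHom n))

/-- The quotient detecting the class. -/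
abbrev detMod : GrLC.GMod.{u} 𝒞 := quot (C.X (n + 1)) _ (liftSub_isHomogeneous C m n)

/-- The projection to the detecting quotient. -/
abbrev detπ : (C.X (n + 1)).carrier →ₗ[A] (detMod C m n).carrier := quotπ _ _ (liftSub_isHomogeneous C m n)

theorem detπ_d (x : (C.X n).carrier) : detπ C m n (C.d n x) = 0 :=
  (Submodule.Quotient.mk_eq_zero _).2 (Submodule.mem_sup_right (LinearMap.mem_range_self _ x))

theorem exists_detπ_factor : ∃ u : (quot (C.X (n + 1)) _ (gam_isHomogeneous m (C.X (n + 1)).gr)).carrier →ₗ[A]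
    (detMod C m n).carrier, u ∘ₗ quotπ _ _ (gam_isHomogeneous m (C.X (n + 1)).gr) = detπ C m n := by
  obtain ⟨u, -, e⟩ := exists_quot_lift (C.X (n + 1)) (gam_isHomogeneous m (C.X (n + 1)).gr)
    (quotπ_grHom _ _ (liftSub_isHomogeneous C m n)) fun x hx =>
      (Submodule.Quotient.mk_eq_zero _).2 (Submodule.mem_sup_left hx)
  exact ⟨u, e⟩

theorem liftπ_eq_zero_iff (x : (liftMod C m n).carrier) :
    liftπ C m n x = 0 ↔ detπ C m n (liftι C m n x) = 0 := by
  refine (C.toH_eq_zero_iff m _).trans (Iff.trans ?_ (Submodule.Quotient.mk_eq_zero _).symm)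
  show C.d (n + 1) (liftι C m n x) ∈ (GrLC.gam m.toIdeal (C.X (n + 1)).carrier).map (C.d (n + 1)) ↔ _
  rw [← C.exact_succ n, ← Submodule.comap_map_eq, Submodule.mem_comap]

theorem exists_det_embedding : ∃ j : (C.Hmod m (n + 1 + 1)).carrier →ₗ[A] (detMod C m n).carrier,
    Function.Injective j ∧ GrLC.IsGrHom (C.Hmod m (n + 1 + 1)).gr (detMod C m n).gr j ∧
      ∀ x, j (liftπ C m n x) = detπ C m n (liftι C m n x) := by
  have hs : Function.Surjective (liftπ C m n) := fun y => by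
    refine spans_induction (P := fun y => ∃ x, liftπ C m n x = y)
      (spans_of_decomposition (C.Hmod m (n + 1 + 1)).gr) y ⟨0, map_zero _⟩
      (fun p q ⟨x, hx⟩ ⟨x', hx'⟩ => ⟨x + x', by rw [map_add, hx, hx']⟩) fun g q hq => ?_
    obtain ⟨x, -, hx⟩ := liftπ_lift C m n hq
    exact ⟨x, hx⟩
  let u := (LinearMap.ker (liftπ C m n)).liftQ (detπ C m n ∘ₗ liftι C m n)
    fun x hx => (liftπ_eq_zero_iff C m n x).1 hx
  let e := (liftπ C m n).quotKerEquivOfSurjective hs
  have hj : ∀ x, (u ∘ₗ e.symm.toLinearMap) (liftπ C m n x) = detπ C m n (liftι C m n x) := fun x => by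
    show u (e.symm (e (Submodule.Quotient.mk x))) = _
    rw [LinearEquiv.symm_apply_apply]
    rfl
  refine ⟨u ∘ₗ e.symm.toLinearMap, (injective_iff_map_eq_zero _).2 fun y hy => ?_, fun g y hy => ?_, hj⟩
  · obtain ⟨x, rfl⟩ := hs y
    rw [hj] at hy
    exact (liftπ_eq_zero_iff C m n x).2 hy
  · obtain ⟨x, hx, rfl⟩ := liftπ_lift C m n hy
    rw [hj]
    exact GrLC21.isGrHom_comp (quotπ_grHom _ _ (liftSub_isHomogeneous C m n)) (subι_grHom _ _ _) g x hx

end Lift

variable {R : Type u} [CommRing R] [Algebra k R] [IsNoetherianRing R] [Nontrivial R]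
  {𝒜 : ℤ → Submodule k R} [GradedAlgebra 𝒜]
  {S : Type u} [CommRing S] [Algebra k S] [IsNoetherianRing S] [Nontrivial S]
  {ℬ : ℤ → Submodule k S} [GradedAlgebra ℬ]
  {T : Type u} [CommRing T] [Algebra k T] [IsNoetherianRing T] {𝒯 : ℤ → Submodule k T} [GradedAlgebra 𝒯]
  {ψ : T →ₐ[k] R ⊗[k] S}
  {mR : HomogeneousIdeal 𝒜} {mS : HomogeneousIdeal ℬ} {mT : HomogeneousIdeal 𝒯}
  (D : Data 𝒜 ℬ 𝒯 ψ mR mS mT)
  (h0R : 𝒜 0 = Submodule.span k {(1 : R)}) (h0S : ℬ 0 = Submodule.span k {(1 : S)})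
  {M N P : Type u} [AddCommGroup M] [Module R M] [Module k M] [IsScalarTower k R M]
  [AddCommGroup N] [Module S N] [Module k N] [IsScalarTower k S N]
  [AddCommGroup P] [Module T P] [Module k P] [IsScalarTower k T P]
  {τ τ' τ'' : Type u} [SetLike τ M] [AddSubgroupClass τ M] [SetLike τ' N] [AddSubgroupClass τ' N]
  [SetLike τ'' P] [AddSubgroupClass τ'' P]
  {ℳ : ℤ → τ} [Decomposition ℳ] [SetLike.GradedSMul 𝒜 ℳ] [Module.Finite R M]
  {𝒩 : ℤ → τ'} [Decomposition 𝒩] [SetLike.GradedSMul ℬ 𝒩] [Module.Finite S N]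
  {𝒬 : ℤ → τ''} [Decomposition 𝒬] [SetLike.GradedSMul 𝒯 𝒬]
  (EM : GrLC.StarInjRes 𝒜 ℳ) (EN : GrLC.StarInjRes ℬ 𝒩) (EP : GrLC.StarInjRes 𝒯 𝒬)

theorem totι_piSingle_ne (hT : GrSeg.IsSegreRing 𝒜 ℬ 𝒯 ψ) {n : ℕ} (i j : ℕ) (h : i + j = n)
    (y : (seg (EM.X i).gr (EN.X j).gr hT).carrier) (p : AD n) (hp : p ≠ ⟨(i, j), h⟩) :
    totι hT EM EN n (piSingle (fun p : AD n => seg (EM.X p.1.1).gr (EN.X p.1.2).gr hT) ⟨(i, j), h⟩ y) p = 0 := by
  show segι _ _ hT ((Pi.single (⟨(i, j), h⟩ : AD n) y : (p : AD n) → (seg (EM.X p.1.1).gr (EN.X p.1.2).gr hT).carrier) p) = 0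
  rw [Pi.single_eq_of_ne hp, map_zero]

theorem totι_piSingle_same (hT : GrSeg.IsSegreRing 𝒜 ℬ 𝒯 ψ) {n : ℕ} (i j : ℕ) (h : i + j = n)
    (y : (seg (EM.X i).gr (EN.X j).gr hT).carrier) :
    totι hT EM EN n (piSingle (fun p : AD n => seg (EM.X p.1.1).gr (EN.X p.1.2).gr hT) ⟨(i, j), h⟩ y) ⟨(i, j), h⟩ =
      segι (EM.X i).gr (EN.X j).gr hT y := by
  show segι _ _ hT ((Pi.single (⟨(i, j), h⟩ : AD n) y : (p : AD n) → (seg (EM.X p.1.1).gr (EN.X p.1.2).gr hT).carrier) ⟨(i, j), h⟩) = _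
  rw [Pi.single_eq_same]

include D h0R h0S in
set_option maxHeartbeats 1600000 in
/-- The top cohomology of a Segre product is the Segre product of the top cohomologies. -/
theorem Data.exists_top_equiv (a b : ℕ) (hvR : ∀ i, a + 2 < i → ∀ g, EM.Hcomp mR i g = ⊥)
    (hvS : ∀ i, b + 2 < i → ∀ g, EN.Hcomp mS i g = ⊥)
    {φ : P →ₗ[k] M ⊗[k] N} (hP : GrSeg.IsSegreMod ψ ℳ 𝒩 𝒬 φ) :
    ∃ Φ : (seg ((toGRes EM).Hmod mR (a + 1 + 1)).gr ((toGRes EN).Hmod mS (b + 1 + 1)).gr D.isSegre).carrier ≃ₗ[T]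
        EP.H mT (a + b + 1 + 2),
      GrLC.IsGrHom (seg ((toGRes EM).Hmod mR (a + 1 + 1)).gr ((toGRes EN).Hmod mS (b + 1 + 1)).gr D.isSegre).gr
        (EP.Hgr mT (a + b + 1 + 2)) Φ.toLinearMap := by
  classical
  obtain ⟨_, h0T⟩ := D.deg0T h0R h0S
  obtain ⟨ε', hε', -⟩ := exists_segEquiv D.isSegre hP
  let C := D.totRes EM EN ε' hε'
  obtain ⟨θ, hθ, -⟩ := C.exists_equiv_H mT EP (fun n => D.totRes_acyclic EM EN ε' hε' n) (a + b + 1 + 2)
  let LA := liftMod (toGRes EM) mR a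
  let LB := liftMod (toGRes EN) mS b
  let W := seg LA.gr LB.gr D.isSegre
  let pA := liftπ (toGRes EM) mR a
  let pB := liftπ (toGRes EN) mS b
  let π := segMap D.isSegre (liftπ_grHom (toGRes EM) mR a) (liftπ_grHom (toGRes EN) mS b)
  let ιA : LA.carrier →ₗ[R] (EM.X (a + 1)).carrier := liftι (toGRes EM) mR a
  let ιB : LB.carrier →ₗ[S] (EN.X (b + 1)).carrier := liftι (toGRes EN) mS b
  have hιA : GrLC.IsGrHom LA.gr (EM.X (a + 1)).gr ιA := subι_grHom _ _ _
  have hιB : GrLC.IsGrHom LB.gr (EN.X (b + 1)).gr ιB := subι_grHom _ _ _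
  have hn : (a + 1) + (b + 1) = a + b + 1 + 1 := by omega
  let κ : W.carrier →ₗ[T] (totX D.isSegre EM EN (a + b + 1 + 1)).carrier :=
    piSingle (fun p : AD (a + b + 1 + 1) => seg (EM.X p.1.1).gr (EN.X p.1.2).gr D.isSegre) ⟨(a + 1, b + 1), hn⟩ ∘ₗ
      segMap D.isSegre hιA hιB
  have hκ : GrLC.IsGrHom W.gr (C.X (a + b + 1 + 1)).gr κ :=
    GrLC21.isGrHom_comp (piSingle_grHom (fun p : AD (a + b + 1 + 1) => seg (EM.X p.1.1).gr (EN.X p.1.2).gr D.isSegre) ⟨(a + 1, b + 1), hn⟩) (segMap_grHom D.isSegre hιA hιB)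
  -- the differential is torsion
  have htors : ∀ z, C.d (a + b + 1 + 1) (κ z) ∈ C.cocyc mT (a + b + 1 + 2) := by
    intro z
    refine ⟨mem_gam_pi _ mT |>.2 fun p => (D.gam_seg_starInj (EM.starInj p.1.1) (EN.starInj p.1.2) _).2 ?_,
      C.d_d _ _⟩
    obtain ⟨⟨i, j⟩, hij⟩ := p
    show tmap k (quotπ (EM.X i) _ (gam_isHomogeneous mR (EM.X i).gr)) (quotπ (EN.X j) _ (gam_isHomogeneous mS (EN.X j).gr))
      (totι D.isSegre EM EN (a + b + 1 + 1 + 1) (segD D.isSegre EM EN (a + b + 1 + 1) (κ z)) ⟨(i, j), hij⟩) = 0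
    rw [totι_segD]
    show tmap k _ _ (totD₁ (dk EM) (a + b + 1 + 1) i j hij (totι D.isSegre EM EN (a + b + 1 + 1) (κ z)) +
      totD₂ (dk EN) (a + b + 1 + 1) i j hij (totι D.isSegre EM EN (a + b + 1 + 1) (κ z))) = 0
    rw [map_add]
    refine Eq.trans (congrArg₂ (· + ·) ?_ ?_) (add_zero 0)
    · rcases i with _ | i
      · exact map_zero _
      · by_cases hp : (i, j) = (a + 1, b + 1)
        · obtain ⟨rfl, rfl⟩ := Prod.mk.inj hp
          show tmap k _ _ (TensorProduct.map (dk EM (a + 1)) LinearMap.id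
            (totι D.isSegre EM EN (a + b + 1 + 1) (κ z) ⟨(a + 1, b + 1), hn⟩)) = 0
          rw [show κ z = piSingle (fun p : AD (a + b + 1 + 1) => seg (EM.X p.1.1).gr (EN.X p.1.2).gr D.isSegre)
            ⟨(a + 1, b + 1), hn⟩ (segMap D.isSegre hιA hιB z) from rfl, totι_piSingle_same, segι_segMap]
          show TensorProduct.map _ _ (TensorProduct.map _ _ (TensorProduct.map _ _ _)) = 0
          rw [TensorProduct.map_map, TensorProduct.map_map]
          have h0 : ((quotπ (EM.X (a + 1 + 1)) _ (gam_isHomogeneous mR (EM.X (a + 1 + 1)).gr)).restrictScalars k) ∘ₗ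
              (dk EM (a + 1) ∘ₗ ιA.restrictScalars k) = 0 := LinearMap.ext fun x =>
            (Submodule.Quotient.mk_eq_zero _).2 ((x : ((toGRes EM).cocyc mR (a + 1 + 1)).comap ((toGRes EM).d (a + 1))).2).1
          rw [← LinearMap.comp_assoc] at h0
          rw [h0, TensorProduct.map_zero_left]
          rfl
        · show tmap k _ _ (TensorProduct.map (dk EM i) LinearMap.id
            (totι D.isSegre EM EN (a + b + 1 + 1) (κ z) ⟨(i, j), _⟩)) = 0
          rw [show κ z = piSingle (fun p : AD (a + b + 1 + 1) => seg (EM.X p.1.1).gr (EN.X p.1.2).gr D.isSegre)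
            ⟨(a + 1, b + 1), hn⟩ (segMap D.isSegre hιA hιB z) from rfl,
            totι_piSingle_ne EM EN D.isSegre _ _ hn _ _ fun h => hp (congrArg Subtype.val h)]
          rw [map_zero, map_zero]
    · rcases j with _ | j
      · exact map_zero _
      · by_cases hp : (i, j) = (a + 1, b + 1)
        · obtain ⟨rfl, rfl⟩ := Prod.mk.inj hp
          show tmap k _ _ (((-1 : k) ^ (a + 1)) • TensorProduct.map LinearMap.id (dk EN (b + 1))
            (totι D.isSegre EM EN (a + b + 1 + 1) (κ z) ⟨(a + 1, b + 1), hn⟩)) = 0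
          rw [show κ z = piSingle (fun p : AD (a + b + 1 + 1) => seg (EM.X p.1.1).gr (EN.X p.1.2).gr D.isSegre)
            ⟨(a + 1, b + 1), hn⟩ (segMap D.isSegre hιA hιB z) from rfl, totι_piSingle_same, segι_segMap, map_smul]
          show _ • TensorProduct.map _ _ (TensorProduct.map _ _ (TensorProduct.map _ _ _)) = 0
          rw [TensorProduct.map_map, TensorProduct.map_map]
          have h0 : ((quotπ (EN.X (b + 1 + 1)) _ (gam_isHomogeneous mS (EN.X (b + 1 + 1)).gr)).restrictScalars k) ∘ₗ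
              (dk EN (b + 1) ∘ₗ ιB.restrictScalars k) = 0 := LinearMap.ext fun x =>
            (Submodule.Quotient.mk_eq_zero _).2 ((x : ((toGRes EN).cocyc mS (b + 1 + 1)).comap ((toGRes EN).d (b + 1))).2).1
          rw [← LinearMap.comp_assoc] at h0
          rw [h0, TensorProduct.map_zero_right]
          exact smul_zero _
        · show tmap k _ _ (((-1 : k) ^ i) • TensorProduct.map LinearMap.id (dk EN j)
            (totι D.isSegre EM EN (a + b + 1 + 1) (κ z) ⟨(i, j), _⟩)) = 0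
          rw [show κ z = piSingle (fun p : AD (a + b + 1 + 1) => seg (EM.X p.1.1).gr (EN.X p.1.2).gr D.isSegre)
            ⟨(a + 1, b + 1), hn⟩ (segMap D.isSegre hιA hιB z) from rfl,
            totι_piSingle_ne EM EN D.isSegre _ _ hn _ _ fun h => hp (congrArg Subtype.val h)]
          rw [map_zero, smul_zero, map_zero]
  let Ψ : W.carrier →ₗ[T] (C.Hmod mT (a + b + 1 + 2)).carrier :=
    C.toH mT (a + b + 1 + 2) ∘ₗ (C.d (a + b + 1 + 1) ∘ₗ κ).codRestrict (C.cocyc mT (a + b + 1 + 2)) htors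
  have hΨ : GrLC.IsGrHom W.gr (C.Hmod mT (a + b + 1 + 2)).gr Ψ := fun g z hz =>
    (C.mem_Hmod_gr mT).2 ⟨_, C.d_grHom _ g _ (hκ g z hz), rfl⟩
  obtain ⟨jA, hjA, hjA', ejA⟩ := exists_det_embedding (toGRes EM) mR a
  obtain ⟨jB, hjB, hjB', ejB⟩ := exists_det_embedding (toGRes EN) mS b
  -- the kernel
  have hker : ∀ z, Ψ z = 0 → π z = 0 := by
    intro z hz
    obtain ⟨γ', hγ', e⟩ := (C.toH_eq_zero_iff mT _).1 hz
    let γ : (totX D.isSegre EM EN (a + b + 1 + 1)).carrier := γ'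
    have hγ : γ ∈ GrLC.gam mT.toIdeal (totX D.isSegre EM EN (a + b + 1 + 1)).carrier := hγ'
    have h1 : κ z - γ ∈ LinearMap.ker (segD D.isSegre EM EN (a + b + 1 + 1)) := by
      rw [LinearMap.mem_ker, map_sub,
        show segD D.isSegre EM EN (a + b + 1 + 1) γ = segD D.isSegre EM EN (a + b + 1 + 1) (κ z) from e, sub_self]
    obtain ⟨w, hw⟩ := (ker_segD_succ D.isSegre EM EN (a + b + 1)).le h1
    have hκz : κ z = segD D.isSegre EM EN (a + b + 1) w + γ := eq_add_of_sub_eq hw.symm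
    let qA : (EM.X (a + 1)).carrier →ₗ[R] (detMod (toGRes EM) mR a).carrier := detπ (toGRes EM) mR a
    let qB : (EN.X (b + 1)).carrier →ₗ[S] (detMod (toGRes EN) mS b).carrier := detπ (toGRes EN) mS b
    have hg : tmap k qA qB (segι (EM.X (a + 1)).gr (EN.X (b + 1)).gr D.isSegre
        (segMap D.isSegre hιA hιB z)) = 0 := by
      rw [← totι_piSingle_same EM EN D.isSegre (a + 1) (b + 1) hn]
      show tmap k qA qB (totι D.isSegre EM EN (a + b + 1 + 1) (κ z) ⟨(a + 1, b + 1), hn⟩) = 0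
      rw [hκz, map_add, Pi.add_apply, map_add, totι_segD]
      refine Eq.trans (congrArg₂ (· + ·) ?_ ?_) (add_zero 0)
      · show tmap k qA qB (totD₁ (dk EM) (a + b + 1) (a + 1) (b + 1) hn (totι D.isSegre EM EN (a + b + 1) w) +
          totD₂ (dk EN) (a + b + 1) (a + 1) (b + 1) hn (totι D.isSegre EM EN (a + b + 1) w)) = 0
        have hA0 : qA.restrictScalars k ∘ₗ dk EM a = 0 := LinearMap.ext fun x => detπ_d (toGRes EM) mR a x
        have hB0 : qB.restrictScalars k ∘ₗ dk EN b = 0 := LinearMap.ext fun x => detπ_d (toGRes EN) mS b x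
        simp only [totD₁, totD₂, map_add, LinearMap.comp_apply, LinearMap.smul_apply, map_smul, tmap,
          TensorProduct.map_map, LinearMap.comp_id, hA0, hB0, TensorProduct.map_zero_left,
          TensorProduct.map_zero_right, LinearMap.zero_apply, smul_zero, add_zero]
      · obtain ⟨uA, euA⟩ : ∃ u : (quot (EM.X (a + 1)) _ (gam_isHomogeneous mR (EM.X (a + 1)).gr)).carrier →ₗ[R]
            (detMod (toGRes EM) mR a).carrier,
            u ∘ₗ quotπ (EM.X (a + 1)) _ (gam_isHomogeneous mR (EM.X (a + 1)).gr) = qA :=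
          exists_detπ_factor (toGRes EM) mR a
        obtain ⟨uB, euB⟩ : ∃ u : (quot (EN.X (b + 1)) _ (gam_isHomogeneous mS (EN.X (b + 1)).gr)).carrier →ₗ[S]
            (detMod (toGRes EN) mS b).carrier,
            u ∘ₗ quotπ (EN.X (b + 1)) _ (gam_isHomogeneous mS (EN.X (b + 1)).gr) = qB :=
          exists_detπ_factor (toGRes EN) mS b
        have h := (D.gam_seg_starInj (EM.starInj (a + 1)) (EN.starInj (b + 1)) _).1
          ((mem_gam_pi _ mT).1 hγ ⟨(a + 1, b + 1), hn⟩)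
        show tmap k qA qB (segι (EM.X (a + 1)).gr (EN.X (b + 1)).gr D.isSegre
          (tcmp D.isSegre EM EN (a + 1) (b + 1) hn γ)) = 0
        have hfac : tmap k qA qB = TensorProduct.map (uA.restrictScalars k) (uB.restrictScalars k) ∘ₗ
            tmap k (quotπ (EM.X (a + 1)) _ (gam_isHomogeneous mR (EM.X (a + 1)).gr))
              (quotπ (EN.X (b + 1)) _ (gam_isHomogeneous mS (EN.X (b + 1)).gr)) := by
          refine Eq.trans ?_ (TensorProduct.map_comp _ _ _ _)
          exact congrArg₂ TensorProduct.map (LinearMap.ext fun x => (LinearMap.congr_fun euA x).symm)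
            (LinearMap.ext fun x => (LinearMap.congr_fun euB x).symm)
        rw [hfac, LinearMap.comp_apply]
        exact (congrArg _ h).trans (map_zero _)
    refine segMap_injective D.isSegre hjA' hjB' hjA hjB (segι_injective _ _ D.isSegre ?_)
    rw [map_zero, map_zero, segι_segMap, segι_segMap]
    rw [segι_segMap] at hg
    refine Eq.trans ?_ hg
    show TensorProduct.map _ _ (TensorProduct.map _ _ _) = TensorProduct.map _ _ (TensorProduct.map _ _ _)
    rw [TensorProduct.map_map, TensorProduct.map_map]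
    exact LinearMap.congr_fun (congrArg₂ TensorProduct.map (LinearMap.ext fun x => ejA x)
      (LinearMap.ext fun x => ejB x)) _
  -- preimages for the projection
  have hπlift : ∀ g, ∀ y ∈ (seg ((toGRes EM).Hmod mR (a + 1 + 1)).gr ((toGRes EN).Hmod mS (b + 1 + 1)).gr D.isSegre).gr g,
      ∃ z ∈ W.gr g, π z = y := by
    intro g y hy
    refine Submodule.span_induction (p := fun w _ => ∃ z ∈ W.gr g, segι _ _ D.isSegre (π z) = w) ?_
      ⟨0, zero_mem _, by rw [map_zero, map_zero]⟩ ?_ ?_ (hy : segι _ _ D.isSegre y ∈ GrSeg.segrePiece k _ _ g) |>.imp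
      fun z hz => ⟨hz.1, segι_injective _ _ D.isSegre hz.2⟩
    · rintro _ ⟨x, hx, x', hx', rfl⟩
      obtain ⟨u, hu, rfl⟩ := liftπ_lift (toGRes EM) mR a hx
      obtain ⟨v, hv, rfl⟩ := liftπ_lift (toGRes EN) mS b hx'
      obtain ⟨z, hz, e⟩ := exists_segι_piece LA.gr LB.gr D.isSegre (g := g) (w := u ⊗ₜ[k] v)
        (Submodule.subset_span ⟨_, hu, _, hv, rfl⟩)
      exact ⟨z, hz, segMap_tmul D.isSegre _ _ e⟩
    · rintro w w' _ _ ⟨z, hz, rfl⟩ ⟨z', hz', rfl⟩
      exact ⟨z + z', add_mem hz hz', by rw [map_add, map_add]⟩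
    · rintro c w _ ⟨z, hz, rfl⟩
      exact ⟨(c • z : W.carrier), (pieceK W g).smul_mem c hz, by
        rw [LinearMap.map_smul_of_tower π c z, map_smul]⟩
  -- dimensions
  have hmain : ∀ g, (∀ y ∈ (C.Hmod mT (a + b + 1 + 2)).gr g, ∃ z ∈ W.gr g, Ψ z = y) ∧
      ∀ z ∈ W.gr g, π z = 0 → Ψ z = 0 := by
    intro g
    let Hs := seg ((toGRes EM).Hmod mR (a + 1 + 1)).gr ((toGRes EN).Hmod mS (b + 1 + 1)).gr D.isSegre
    have hps : Function.Surjective (pieceLin (X := W) (Y := Hs) π (segMap_grHom D.isSegre _ _) g) := fun y => by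
      obtain ⟨z, hz, e⟩ := hπlift g y.1 y.2
      exact ⟨⟨z, hz⟩, Subtype.ext e⟩
    obtain ⟨eH⟩ := D.piece_finrank (ℳ := ((toGRes EM).Hmod mR (a + 1 + 1)).gr)
      (𝒩 := ((toGRes EN).Hmod mS (b + 1 + 1)).gr) (isSegreMod_seg _ _ D.isSegre) g
    have := finite_Hcomp_piece EM mR h0R D.posR D.irrR
    have := finite_Hcomp_piece EN mS h0S D.posS D.irrS
    have hsub : ∀ {A : Type u} [CommRing A] [Algebra k A] {𝒞 : ℤ → Submodule k A} [GradedAlgebra 𝒞]
        {L : Type u} [AddCommGroup L] [Module A L] {τl : Type u} [SetLike τl L] [AddSubgroupClass τl L]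
        {ℒ : ℤ → τl} [Decomposition ℒ] [SetLike.GradedSMul 𝒞 ℒ] (E : GrLC.StarInjRes 𝒞 ℒ) (m : HomogeneousIdeal 𝒞)
        (c : ℕ), (∀ i, c + 2 < i → ∀ g, E.Hcomp m i g = ⊥) → ∀ i, c + 1 < i →
          Subsingleton (Coh (QVd (toGRes E) m g) i) := by
      intro _ _ _ _ _ _ _ _ _ _ _ _ _ _ E m c hv i hi
      obtain ⟨i, rfl⟩ : ∃ i', i = i' + 1 := ⟨i - 1, by omega⟩
      obtain ⟨e⟩ := nonempty_piece_succ (toGRes E) m g i
      obtain ⟨j, -⟩ := hcomp_piece E m (i + 2) g
      have := (GrLC21.Hcomp_subsingleton_iff (E := E) (a := m) (i := i + 2) g).2 (hv _ (by omega) g)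
      have := j.toEquiv.subsingleton
      exact e.symm.toEquiv.subsingleton
    obtain ⟨eK⟩ := D.nonempty_QV_kunneth EM EN ε' hε' g (a + b + 1 + 1)
    obtain ⟨eC⟩ := nonempty_piece_succ C mT g (a + b + 1)
    obtain ⟨eA⟩ := nonempty_piece_succ (toGRes EM) mR g a
    obtain ⟨eB⟩ := nonempty_piece_succ (toGRes EN) mS g b
    have hother : ∀ p : AD (a + b + 1 + 1), p ≠ ⟨(a + 1, b + 1), hn⟩ →
        Subsingleton (Coh (QVd (toGRes EM) mR g) p.1.1 ⊗[k] Coh (QVd (toGRes EN) mS g) p.1.2) := by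
      rintro ⟨⟨i, j⟩, hij⟩ hp
      refine subsingleton_of_forall_eq 0 fun x => ?_
      induction x using TensorProduct.induction_on with
      | zero => rfl
      | add u v hu hv => rw [hu, hv, add_zero]
      | tmul u v =>
        by_cases hi : a + 1 < i
        · have := hsub EM mR a hvR i hi
          rw [Subsingleton.elim u 0, TensorProduct.zero_tmul]
        · have := hsub EN mS b hvS j (by
            by_contra hj
            have : i + j = a + b + 1 + 1 := hij
            exact hp (Subtype.ext (Prod.ext (show i = a + 1 by omega) (show j = b + 1 by omega))))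
          rw [Subsingleton.elim v 0, TensorProduct.tmul_zero]
    have := Module.Finite.equiv eA
    have := Module.Finite.equiv eB
    have hfin : ∀ p : AD (a + b + 1 + 1),
        Module.Finite k (Coh (QVd (toGRes EM) mR g) p.1.1 ⊗[k] Coh (QVd (toGRes EN) mS g) p.1.2) := fun p => by
      by_cases hp : p = ⟨(a + 1, b + 1), hn⟩
      · subst hp; exact inferInstanceAs (Module.Finite k (Coh (QVd (toGRes EM) mR g) (a + 1) ⊗[k] Coh (QVd (toGRes EN) mS g) (b + 1)))
      · have := hother p hp; exact Module.Finite.of_finite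
    have hHfin : Module.Finite k (pieceK (C.Hmod mT (a + b + 1 + 2)) g) := Module.Finite.equiv (eC.trans eK).symm
    have hfinrank : Module.finrank k (pieceK (C.Hmod mT (a + b + 1 + 2)) g) = Module.finrank k (pieceK Hs g) := by
      rw [(eC.trans eK).finrank_eq, Module.finrank_pi_fintype, Finset.sum_eq_single ⟨(a + 1, b + 1), hn⟩
        (fun p _ hp => by have := hother p hp; exact Module.finrank_zero_of_subsingleton)
        (fun h => absurd (Finset.mem_univ _) h)]
      refine Eq.trans ?_ eH.finrank_eq.symm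
      rw [Module.finrank_tensorProduct, Module.finrank_tensorProduct, ← eA.finrank_eq, ← eB.finrank_eq]
      rfl
    obtain ⟨hsurj, hkeq⟩ := surjective_and_ker_eq_of_finrank (f := pieceLin (X := W) Ψ hΨ g) hps
      (fun z hz => Subtype.ext (hker z.1 (congrArg Subtype.val hz))) hfinrank
    refine ⟨fun y hy => ?_, fun z hz h => ?_⟩
    · obtain ⟨z, e⟩ := hsurj ⟨y, hy⟩
      exact ⟨z.1, z.2, congrArg Subtype.val e⟩
    · exact congrArg Subtype.val (hkeq.le (Subtype.ext h : (⟨z, hz⟩ : pieceK W g) ∈ LinearMap.ker _))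
  have hΨs : Function.Surjective Ψ := fun y => by
    refine spans_induction (P := fun y => ∃ z, Ψ z = y) (spans_of_decomposition (C.Hmod mT (a + b + 1 + 2)).gr) y
      ⟨0, map_zero _⟩ (fun p q ⟨x, hx⟩ ⟨x', hx'⟩ => ⟨x + x', by rw [map_add, hx, hx']⟩) fun g q hq => ?_
    obtain ⟨z, -, e⟩ := (hmain g).1 q hq
    exact ⟨z, e⟩
  have hπs : Function.Surjective π := fun y => by
    refine spans_induction (P := fun y => ∃ z, π z = y)
      (spans_of_decomposition (seg ((toGRes EM).Hmod mR (a + 1 + 1)).gr ((toGRes EN).Hmod mS (b + 1 + 1)).gr D.isSegre).gr)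
      y ⟨0, map_zero _⟩ (fun p q ⟨x, hx⟩ ⟨x', hx'⟩ => ⟨x + x', by rw [map_add, hx, hx']⟩) fun g q hq => ?_
    obtain ⟨z, -, e⟩ := hπlift g q hq
    exact ⟨z, e⟩
  have hkk : LinearMap.ker π = LinearMap.ker Ψ := le_antisymm
    (le_of_homogeneous (isHomogeneous_ker (segMap_grHom D.isSegre _ _)) fun g z hz h => (hmain g).2 z hz h) hker
  let e := (π.quotKerEquivOfSurjective hπs).symm.trans ((Submodule.quotEquivOfEq _ _ hkk).trans
    (Ψ.quotKerEquivOfSurjective hΨs))
  refine ⟨e.trans θ, fun g y hy => ?_⟩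
  obtain ⟨z, hz, rfl⟩ := hπlift g y hy
  refine hθ g _ ?_
  show (Ψ.quotKerEquivOfSurjective hΨs) (Submodule.quotEquivOfEq _ _ hkk
    ((π.quotKerEquivOfSurjective hπs).symm ((π.quotKerEquivOfSurjective hπs) (Submodule.Quotient.mk z)))) ∈ _
  rw [LinearEquiv.symm_apply_apply]
  exact hΨ g z hz

end Groth.Agent.SegLC
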