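import Groth.Agent.Lib.SegLC.LeftRes
import Groth.Agent.Lib.SegLC.PieceComplex
import Groth.Agent.Lib.SegLC.KunnethLA
import Groth.Agent.Lib.SegLC.Deg0

/-!
# The total resolution of a Segre product
-/

universe u

open DirectSum TensorProduct
open Groth.Agent.GrLC21 Groth.Agent.GrSegLib

noncomputable section

set_option linter.unusedSectionVars false
set_option maxHeartbeats 400000

namespace Groth.Agent.SegLC

section PiMod

variable {ι : Type} [AddCommGroup ι] [DecidableEq ι] {A : Type u} [CommRing A] {σ : Type u} [SetLike σ A]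
  [AddSubgroupClass σ A] {𝒞 : ι → σ} [GradedRing 𝒞] {J : Type} [Fintype J] [DecidableEq J] (X : J → GrLC.GMod.{u} 𝒞)

/-- The product of finitely many graded modules. -/
def piMod : GrLC.GMod.{u} 𝒞 :=
  mkGMod ((j : J) → (X j).carrier) (fun g => AddSubgroup.pi Set.univ fun j => (X j).gr g)
    (isInternal_of_proj _ (fun g => Pi.addMonoidHom fun j => (GrLC21.proj (X j).gr g).comp (Pi.evalAddMonoidHom _ j))
      (fun g z hz => funext fun j => proj_of_mem (X j).gr (hz j trivial))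
      (fun g h e z hz => funext fun j => proj_of_mem_ne (X j).gr (hz j trivial) e.symm)
      (fun z => by
        rw [← Finset.univ_sum_single z]
        refine sum_mem fun j _ => ?_
        refine spans_induction (P := fun a => (Pi.single j a : (j : J) → (X j).carrier) ∈ _)
          (spans_of_decomposition (X j).gr) (z j) ?_ (fun a b ha hb => ?_) fun g a ha => ?_
        · rw [Pi.single_zero]; exact zero_mem _
        · rw [Pi.single_add]; exact add_mem ha hb
        · refine AddSubgroup.mem_iSup_of_mem g fun i _ => ?_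
          rcases eq_or_ne i j with rfl | h
          · rw [Pi.single_eq_same]; exact ha
          · show (Pi.single j a : (j : J) → (X j).carrier) i ∈ (X i).gr g
            rw [Pi.single_eq_of_ne h]; exact zero_mem _))
    fun b g r x hr hx => fun j _ => GrLC21.smul_mem 𝒞 (X j).gr hr (hx j trivial)

/-- A component. -/
def piProj (j : J) : (piMod X).carrier →ₗ[A] (X j).carrier := LinearMap.proj (R := A) (φ := fun j => (X j).carrier) j

/-- The inclusion of a factor. -/
def piSingle (j : J) : (X j).carrier →ₗ[A] (piMod X).carrier := LinearMap.single A (fun j => (X j).carrier) j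

theorem piProj_grHom (j : J) : GrLC.IsGrHom (piMod X).gr (X j).gr (piProj X j) := fun _ _ hz => hz j trivial

theorem piSingle_grHom (j : J) : GrLC.IsGrHom (X j).gr (piMod X).gr (piSingle X j) := fun g x hx i _ => by
  show (Pi.single j x : (j : J) → (X j).carrier) i ∈ (X i).gr g
  rcases eq_or_ne i j with rfl | h
  · rw [Pi.single_eq_same]; exact hx
  · rw [Pi.single_eq_of_ne h]; exact zero_mem _

theorem pi_ext {z w : (piMod X).carrier} (h : ∀ j, piProj X j z = piProj X j w) : z = w := funext h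

theorem mem_gam_pi (a : HomogeneousIdeal 𝒞) {z : (piMod X).carrier} :
    z ∈ GrLC.gam a.toIdeal (piMod X).carrier ↔ ∀ j, piProj X j z ∈ GrLC.gam a.toIdeal (X j).carrier := by
  refine ⟨fun h j => map_mem_gam _ h, fun h => ?_⟩
  have hz : z = ∑ j, piSingle X j (piProj X j z) := (Finset.univ_sum_single (z : (j : J) → (X j).carrier)).symm
  rw [hz]
  exact Submodule.sum_mem _ fun j _ => map_mem_gam _ (h j)

theorem fac_piMod {Q : GrLC.GMod.{u} 𝒞 → Prop} (h : ∀ j, FacThrough Q (X j) (X j) LinearMap.id) :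
    FacThrough Q (piMod X) (piMod X) LinearMap.id := by
  have hid : (LinearMap.id : (piMod X).carrier →ₗ[A] _) = ∑ j, piSingle X j ∘ₗ piProj X j :=
    LinearMap.ext fun z => by
      rw [LinearMap.sum_apply]
      exact (Finset.univ_sum_single (z : (j : J) → (X j).carrier)).symm
  rw [hid]
  refine Finset.sum_induction _ (fun φ => FacThrough Q (piMod X) (piMod X) φ) (fun _ _ => .add) .zero fun j _ => ?_
  have h1 := ((h j).comp_left (piSingle_grHom X j)).comp_right (piProj_grHom X j)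
  rwa [LinearMap.comp_id] at h1

end PiMod

variable {k : Type u} [Field k] {R : Type u} [CommRing R] [Algebra k R]
  {𝒜 : ℤ → Submodule k R} [GradedAlgebra 𝒜]
  {S : Type u} [CommRing S] [Algebra k S] {ℬ : ℤ → Submodule k S} [GradedAlgebra ℬ]
  {T : Type u} [CommRing T] [Algebra k T] {𝒯 : ℤ → Submodule k T} [GradedAlgebra 𝒯]
  {ψ : T →ₐ[k] R ⊗[k] S} (hT : GrSeg.IsSegreRing 𝒜 ℬ 𝒯 ψ)

section Right

variable {M : Type u} [AddCommGroup M] [Module R M] [Module k M] [IsScalarTower k R M]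
  {τ : Type u} [SetLike τ M] [AddSubgroupClass τ M] {ℳ : ℤ → τ} [Decomposition ℳ] [SetLike.GradedSMul 𝒜 ℳ]
  {N N' N'' : Type u} [AddCommGroup N] [Module S N] [Module k N] [IsScalarTower k S N]
  [AddCommGroup N'] [Module S N'] [Module k N'] [IsScalarTower k S N']
  [AddCommGroup N''] [Module S N''] [Module k N''] [IsScalarTower k S N'']
  {σ₁ σ₂ σ₃ : Type u} [SetLike σ₁ N] [AddSubgroupClass σ₁ N] [SetLike σ₂ N'] [AddSubgroupClass σ₂ N']
  [SetLike σ₃ N''] [AddSubgroupClass σ₃ N'']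
  {𝒩 : ℤ → σ₁} [Decomposition 𝒩] [SetLike.GradedSMul ℬ 𝒩]
  {𝒩' : ℤ → σ₂} [Decomposition 𝒩'] [SetLike.GradedSMul ℬ 𝒩']
  {𝒩'' : ℤ → σ₃} [Decomposition 𝒩''] [SetLike.GradedSMul ℬ 𝒩'']

/-- Exactness of `M # -`. -/
theorem range_segMap_eq_ker_right {g : N →ₗ[S] N'} {g' : N' →ₗ[S] N''} (hg : GrLC.IsGrHom 𝒩 𝒩' g)
    (hg' : GrLC.IsGrHom 𝒩' 𝒩'' g') (h : LinearMap.ker g' = LinearMap.range g) :
    LinearMap.ker (segMap hT (GrLC21.isGrHom_id ℳ) hg') =
      LinearMap.range (segMap hT (GrLC21.isGrHom_id ℳ) hg) := by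
  have hex : Function.Exact (g.restrictScalars k) (g'.restrictScalars k) := LinearMap.exact_iff.2
    (SetLike.ext fun x => ⟨fun hx => (h.le hx), fun hx => (h.ge hx)⟩)
  have hex' := Module.Flat.lTensor_exact M hex
  ext z
  constructor
  · intro hz
    have hz' : tmap k (LinearMap.id : M →ₗ[R] M) g' (segι ℳ 𝒩' hT z) = 0 := by
      rw [← segι_segMap hT (GrLC21.isGrHom_id ℳ) hg', LinearMap.mem_ker.1 hz, map_zero]
    obtain ⟨w, hw⟩ := (hex' _).1 hz'
    obtain ⟨y, hy⟩ := exists_segι ℳ 𝒩 hT (diag_mem_iSup 𝒜 ℬ ℳ 𝒩 w)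
    refine ⟨y, segι_injective ℳ 𝒩' hT ?_⟩
    rw [segι_segMap, hy, ← diag_tmap (GrLC21.isGrHom_id ℳ) hg,
      show tmap k (LinearMap.id : M →ₗ[R] M) g w = segι ℳ 𝒩' hT z from hw]
    exact diag_eq_self 𝒜 ℬ ℳ 𝒩' (segι_mem ℳ 𝒩' hT z)
  · rintro ⟨y, rfl⟩
    refine LinearMap.mem_ker.2 (segι_injective ℳ 𝒩'' hT ?_)
    rw [segι_segMap, segι_segMap, map_zero]
    exact (hex' _).2 ⟨_, rfl⟩

end Right

section Piece

variable (X : GrLC.GMod.{u} 𝒜) (Y : GrLC.GMod.{u} ℬ)

/-- The tensor product of two pieces inside the tensor product. -/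
def pieceTensor (g : ℤ) : pieceK X g ⊗[k] pieceK Y g →ₗ[k] X.carrier ⊗[k] Y.carrier :=
  TensorProduct.map (pieceK X g).subtype (pieceK Y g).subtype

theorem pieceTensor_injective (g : ℤ) : Function.Injective (pieceTensor X Y g) := by
  show Function.Injective (TensorProduct.map _ _)
  rw [← LinearMap.lTensor_comp_rTensor, LinearMap.coe_comp]
  exact (Module.Flat.lTensor_preserves_injective_linearMap _ (Submodule.injective_subtype _)).comp
    (Module.Flat.rTensor_preserves_injective_linearMap _ (Submodule.injective_subtype _))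

theorem range_pieceTensor (g : ℤ) :
    LinearMap.range (pieceTensor X Y g) = GrSeg.segrePiece k X.gr Y.gr g := by
  refine le_antisymm ?_ (Submodule.span_le.2 ?_)
  · rintro _ ⟨w, rfl⟩
    induction w using TensorProduct.induction_on with
    | zero => rw [map_zero]; exact Submodule.zero_mem _
    | add a b ha hb => rw [map_add]; exact Submodule.add_mem _ ha hb
    | tmul a b => exact Submodule.subset_span ⟨a.1, a.2, b.1, b.2, rfl⟩
  · rintro _ ⟨a, ha, b, hb, rfl⟩
    exact ⟨(⟨a, ha⟩ : pieceK X g) ⊗ₜ[k] (⟨b, hb⟩ : pieceK Y g), rfl⟩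

theorem pieceTensor_natural {X' : GrLC.GMod.{u} 𝒜} {Y' : GrLC.GMod.{u} ℬ} {f : X.carrier →ₗ[R] X'.carrier}
    {f' : Y.carrier →ₗ[S] Y'.carrier} (hf : GrLC.IsGrHom X.gr X'.gr f) (hf' : GrLC.IsGrHom Y.gr Y'.gr f') (g : ℤ)
    (w : pieceK X g ⊗[k] pieceK Y g) :
    pieceTensor X' Y' g (TensorProduct.map (pieceLin f hf g) (pieceLin f' hf' g) w) =
      tmap k f f' (pieceTensor X Y g w) := by
  show TensorProduct.map _ _ (TensorProduct.map _ _ w) = TensorProduct.map _ _ (TensorProduct.map _ _ w)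
  rw [TensorProduct.map_map, TensorProduct.map_map]
  rfl

end Piece

variable {M N P : Type u} [AddCommGroup M] [Module R M] [Module k M] [IsScalarTower k R M]
  [AddCommGroup N] [Module S N] [Module k N] [IsScalarTower k S N]
  [AddCommGroup P] [Module T P] [Module k P] [IsScalarTower k T P]
  {τ τ' τ'' : Type u} [SetLike τ M] [AddSubgroupClass τ M] [SetLike τ' N] [AddSubgroupClass τ' N]
  [SetLike τ'' P] [AddSubgroupClass τ'' P]
  {ℳ : ℤ → τ} [Decomposition ℳ] [SetLike.GradedSMul 𝒜 ℳ]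
  {𝒩 : ℤ → τ'} [Decomposition 𝒩] [SetLike.GradedSMul ℬ 𝒩]
  {𝒬 : ℤ → τ''} [Decomposition 𝒬] [SetLike.GradedSMul 𝒯 𝒬]
  (EM : GrLC.StarInjRes 𝒜 ℳ) (EN : GrLC.StarInjRes ℬ 𝒩)

/-- The terms of the total resolution. -/
abbrev totX (n : ℕ) : GrLC.GMod.{u} 𝒯 :=
  piMod fun p : AD n => seg (EM.X p.1.1).gr (EN.X p.1.2).gr hT

/-- A component of a term. -/
def tcmp {n : ℕ} (i j : ℕ) (h : i + j = n) :
    (totX hT EM EN n).carrier →ₗ[T] (seg (EM.X i).gr (EN.X j).gr hT).carrier :=
  piProj (fun p : AD n => seg (EM.X p.1.1).gr (EN.X p.1.2).gr hT) ⟨(i, j), h⟩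

theorem tcmp_grHom {n : ℕ} (i j : ℕ) (h : i + j = n) :
    GrLC.IsGrHom (totX hT EM EN n).gr (seg (EM.X i).gr (EN.X j).gr hT).gr (tcmp hT EM EN i j h) :=
  piProj_grHom (fun p : AD n => seg (EM.X p.1.1).gr (EN.X p.1.2).gr hT) ⟨(i, j), h⟩

/-- The first part of the differential. -/
def segD₁ (n : ℕ) : (i j : ℕ) → i + j = n + 1 →
    ((totX hT EM EN n).carrier →ₗ[T] (seg (EM.X i).gr (EN.X j).gr hT).carrier)
  | 0, _, _ => 0
  | i + 1, j, h => segMap hT (EM.d_grHom i) (GrLC21.isGrHom_id (EN.X j).gr) ∘ₗ tcmp hT EM EN i j (by omega)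

/-- The second part of the differential. -/
def segD₂ (n : ℕ) : (i j : ℕ) → i + j = n + 1 →
    ((totX hT EM EN n).carrier →ₗ[T] (seg (EM.X i).gr (EN.X j).gr hT).carrier)
  | _, 0, _ => 0
  | i, j + 1, h => algebraMap k T ((-1) ^ i) •
      (segMap hT (GrLC21.isGrHom_id (EM.X i).gr) (EN.d_grHom j) ∘ₗ tcmp hT EM EN i j (by omega))

/-- The differential. -/
def segD (n : ℕ) : (totX hT EM EN n).carrier →ₗ[T] (totX hT EM EN (n + 1)).carrier :=
  LinearMap.pi fun p => segD₁ hT EM EN n p.1.1 p.1.2 p.2 + segD₂ hT EM EN n p.1.1 p.1.2 p.2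

theorem segD₁_grHom (n : ℕ) : ∀ (i j : ℕ) (h : i + j = n + 1),
    GrLC.IsGrHom (totX hT EM EN n).gr (seg (EM.X i).gr (EN.X j).gr hT).gr (segD₁ hT EM EN n i j h)
  | 0, _, _ => GrLC21.isGrHom_zero _ _
  | i + 1, _, _ => GrLC21.isGrHom_comp (segMap_grHom hT _ _) (tcmp_grHom hT EM EN _ _ _)

theorem segD₂_grHom (n : ℕ) : ∀ (i j : ℕ) (h : i + j = n + 1),
    GrLC.IsGrHom (totX hT EM EN n).gr (seg (EM.X i).gr (EN.X j).gr hT).gr (segD₂ hT EM EN n i j h)
  | _, 0, _ => GrLC21.isGrHom_zero _ _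
  | i, j + 1, _ => fun g z hz => by
    have h := GrLC21.smul_mem 𝒯 (seg (EM.X i).gr (EN.X (j + 1)).gr hT).gr
      (SetLike.algebraMap_mem_graded 𝒯 ((-1 : k) ^ i))
      (GrLC21.isGrHom_comp (segMap_grHom hT (GrLC21.isGrHom_id (EM.X i).gr) (EN.d_grHom j))
        (tcmp_grHom hT EM EN i j (by omega)) g z hz)
    rwa [zero_add] at h

theorem segD_grHom (n : ℕ) : GrLC.IsGrHom (totX hT EM EN n).gr (totX hT EM EN (n + 1)).gr (segD hT EM EN n) :=
  fun g z hz p _ => add_mem (segD₁_grHom hT EM EN n p.1.1 p.1.2 p.2 g z hz) (segD₂_grHom hT EM EN n p.1.1 p.1.2 p.2 g z hz)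

/-- The whole term inside the tensor products. -/
def totι (n : ℕ) : (totX hT EM EN n).carrier →ₗ[k]
    Tot k (fun i => (EM.X i).carrier) (fun j => (EN.X j).carrier) n :=
  LinearMap.pi fun p => segι (EM.X p.1.1).gr (EN.X p.1.2).gr hT ∘ₗ
    (tcmp hT EM EN p.1.1 p.1.2 p.2).restrictScalars k

theorem totι_injective (n : ℕ) : Function.Injective (totι hT EM EN n) := fun z w h =>
  pi_ext _ fun p => segι_injective (EM.X p.1.1).gr (EN.X p.1.2).gr hT (congrFun h p)

/-- The differentials of the factors. -/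
abbrev dk {A : Type u} [CommRing A] [Algebra k A] {𝒞 : ℤ → Submodule k A} [GradedAlgebra 𝒞]
    {M : Type u} [AddCommGroup M] [Module A M] {τ : Type u} [SetLike τ M] [AddSubgroupClass τ M]
    {ℳ : ℤ → τ} [Decomposition ℳ] [SetLike.GradedSMul 𝒞 ℳ] (E : GrLC.StarInjRes 𝒞 ℳ) (n : ℕ) :
    (E.X n).carrier →ₗ[k] (E.X (n + 1)).carrier := (E.d n).restrictScalars k

theorem totι_segD (n : ℕ) (z : (totX hT EM EN n).carrier) :
    totι hT EM EN (n + 1) (segD hT EM EN n z) = totD (dk EM) (dk EN) n (totι hT EM EN n z) := by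
  funext p
  obtain ⟨⟨i, j⟩, h⟩ := p
  show segι (EM.X i).gr (EN.X j).gr hT (segD₁ hT EM EN n i j h z + segD₂ hT EM EN n i j h z) =
    totD₁ (dk EM) n i j h (totι hT EM EN n z) + totD₂ (dk EN) n i j h (totι hT EM EN n z)
  rw [map_add]
  refine congrArg₂ (· + ·) ?_ ?_
  · rcases i with _ | i
    · exact map_zero _
    · exact segι_segMap hT (EM.d_grHom i) (GrLC21.isGrHom_id (EN.X j).gr) (tcmp hT EM EN i j (by simpa [Nat.succ_add] using h) z)
  · rcases j with _ | j
    · exact map_zero _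
    · show segι (EM.X i).gr (EN.X (j + 1)).gr hT (algebraMap k T ((-1) ^ i) •
        segMap hT (GrLC21.isGrHom_id (EM.X i).gr) (EN.d_grHom j) (tcmp hT EM EN i j (by omega) z)) = _
      rw [algebraMap_smul, map_smul, segι_segMap]
      rfl

theorem segD_segD (n : ℕ) (z : (totX hT EM EN n).carrier) :
    segD hT EM EN (n + 1) (segD hT EM EN n z) = 0 := totι_injective hT EM EN (n + 2) (by
  rw [totι_segD, totι_segD, map_zero]
  exact totD_dd (dk EM) (dk EN) (fun m x => GrLC21.d_d EM m x) (fun m x => GrLC21.d_d EN m x) n _)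

section Degree

variable (g : ℤ)

/-- The total complex of the pieces. -/
abbrev dP {A : Type u} [CommRing A] [Algebra k A] {𝒞 : ℤ → Submodule k A} [GradedAlgebra 𝒞]
    {M : Type u} [AddCommGroup M] [Module A M] {τ : Type u} [SetLike τ M] [AddSubgroupClass τ M]
    {ℳ : ℤ → τ} [Decomposition ℳ] [SetLike.GradedSMul 𝒞 ℳ] (E : GrLC.StarInjRes 𝒞 ℳ) (g : ℤ) (n : ℕ) :
    pieceK (E.X n) g →ₗ[k] pieceK (E.X (n + 1)) g := Vd (toGRes E) g n

/-- The pieces inside the whole. -/
def pieceTot (n : ℕ) : Tot k (fun i => pieceK (EM.X i) g) (fun j => pieceK (EN.X j) g) n →ₗ[k]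
    Tot k (fun i => (EM.X i).carrier) (fun j => (EN.X j).carrier) n :=
  totMap (fun i => (pieceK (EM.X i) g).subtype) (fun j => (pieceK (EN.X j) g).subtype) n

theorem exists_piece_equiv (n : ℕ) :
    ∃ e : Tot k (fun i => pieceK (EM.X i) g) (fun j => pieceK (EN.X j) g) n ≃ₗ[k] pieceK (totX hT EM EN n) g,
      ∀ w, totι hT EM EN n (e w).1 = pieceTot EM EN g n w := by
  have hfwd : ∀ (p : AD n) (w : pieceK (EM.X p.1.1) g ⊗[k] pieceK (EN.X p.1.2) g),
      ∃ x ∈ (seg (EM.X p.1.1).gr (EN.X p.1.2).gr hT).gr g,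
        segι (EM.X p.1.1).gr (EN.X p.1.2).gr hT x = pieceTensor (EM.X p.1.1) (EN.X p.1.2) g w := fun p w =>
    exists_segι_piece _ _ hT ((range_pieceTensor _ _ g).le ⟨w, rfl⟩)
  choose x hx hxe using hfwd
  let f : Tot k (fun i => pieceK (EM.X i) g) (fun j => pieceK (EN.X j) g) n →ₗ[k] pieceK (totX hT EM EN n) g :=
    { toFun := fun w => ⟨fun p => x p (w p), fun p _ => hx p (w p)⟩
      map_add' := fun v w => Subtype.ext (totι_injective hT EM EN n (by
        rw [Submodule.coe_add, map_add]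
        funext p
        show segι _ _ hT (x p (v p + w p)) = segι _ _ hT (x p (v p)) + segι _ _ hT (x p (w p))
        rw [hxe, hxe, hxe, map_add]))
      map_smul' := fun c w => Subtype.ext (totι_injective hT EM EN n (by
        rw [RingHom.id_apply, Submodule.coe_smul, map_smul]
        funext p
        show segι _ _ hT (x p (c • w p)) = c • segι _ _ hT (x p (w p))
        rw [hxe, hxe, map_smul])) }
  have hf : ∀ w, totι hT EM EN n (f w).1 = pieceTot EM EN g n w := fun w => funext fun p => hxe p (w p)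
  refine ⟨LinearEquiv.ofBijective f ⟨fun v w h => funext fun p => pieceTensor_injective _ _ g ?_, fun z => ?_⟩, hf⟩
  · rw [← hxe, ← hxe]
    exact congrArg (segι _ _ hT) (congrFun (congrArg Subtype.val h) p)
  · have hz : ∀ p : AD n, ∃ w, pieceTensor (EM.X p.1.1) (EN.X p.1.2) g w =
        segι (EM.X p.1.1).gr (EN.X p.1.2).gr hT (tcmp hT EM EN p.1.1 p.1.2 p.2 z.1) := fun p =>
      (range_pieceTensor _ _ g).ge (tcmp_grHom hT EM EN p.1.1 p.1.2 p.2 g _ z.2)
    choose w hw using hz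
    refine ⟨w, Subtype.ext (totι_injective hT EM EN n ?_)⟩
    rw [hf]
    exact funext hw

theorem pieceTot_totD (n : ℕ) (w : Tot k (fun i => pieceK (EM.X i) g) (fun j => pieceK (EN.X j) g) n) :
    pieceTot EM EN g (n + 1) (totD (dP EM g) (dP EN g) n w) = totD (dk EM) (dk EN) n (pieceTot EM EN g n w) :=
  (totMap_comm (dP EM g) (dP EN g) (dk EM) (dk EN) (fun m x => rfl) (fun m x => rfl) n w).symm

end Degree

variable [IsNoetherianRing R] [IsNoetherianRing S] [IsNoetherianRing T]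
  {mR : HomogeneousIdeal 𝒜} {mS : HomogeneousIdeal ℬ} {mT : HomogeneousIdeal 𝒯}
  (D : Data 𝒜 ℬ 𝒯 ψ mR mS mT)

include hT in
theorem subsingleton_coh_tot (g : ℤ) (n : ℕ) :
    Subsingleton (Coh (totD (dP EM g) (dP EN g)) (n + 1)) := by
  obtain ⟨e⟩ := nonempty_kunneth (dP EM g) (dP EN g) (fun m x => Vd_Vd (toGRes EM) g m x)
    (fun m x => Vd_Vd (toGRes EN) g m x) (n + 1)
  suffices ∀ p : AD (n + 1), Subsingleton (Coh (dP EM g) p.1.1 ⊗[k] Coh (dP EN g) p.1.2) from
    e.toEquiv.subsingleton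
  rintro ⟨⟨i, j⟩, h⟩
  refine subsingleton_of_forall_eq 0 fun w => ?_
  induction w using TensorProduct.induction_on with
  | zero => rfl
  | add a b ha hb => rw [ha, hb, add_zero]
  | tmul a b =>
    rcases i with _ | i
    · obtain ⟨j, rfl⟩ : ∃ j', j = j' + 1 := ⟨n, by simpa using h⟩
      have := subsingleton_coh_succ (dP EN g) (ker_Vd_succ (toGRes EN) g j)
      rw [Subsingleton.elim b 0, TensorProduct.tmul_zero]
    · have := subsingleton_coh_succ (dP EM g) (ker_Vd_succ (toGRes EM) g i)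
      rw [Subsingleton.elim a 0, TensorProduct.zero_tmul]

theorem ker_segD_succ (n : ℕ) :
    LinearMap.ker (segD hT EM EN (n + 1)) = LinearMap.range (segD hT EM EN n) := by
  refine le_antisymm (le_of_homogeneous (isHomogeneous_ker (segD_grHom hT EM EN (n + 1))) fun g z hz hzk => ?_)
    (LinearMap.range_le_ker_iff.2 (LinearMap.ext fun z => segD_segD hT EM EN n z))
  obtain ⟨e, he⟩ := exists_piece_equiv hT EM EN g (n + 1)
  obtain ⟨e', he'⟩ := exists_piece_equiv hT EM EN g n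
  obtain ⟨e'', he''⟩ := exists_piece_equiv hT EM EN g (n + 2)
  obtain ⟨w, hw⟩ := e.surjective ⟨z, hz⟩
  have hwk : totD (dP EM g) (dP EN g) (n + 1) w = 0 := by
    refine e''.injective (Subtype.ext (totι_injective hT EM EN (n + 2) ?_))
    rw [he'', pieceTot_totD, ← he, hw, ← totι_segD, LinearMap.mem_ker.1 hzk, map_zero, map_zero]
    exact (map_zero (totι hT EM EN (n + 2))).symm
  have := subsingleton_coh_tot hT EM EN g n
  have h0 : (⟨w, hwk⟩ : LinearMap.ker (totD (dP EM g) (dP EN g) (n + 1))) ∈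
      (cob (totD (dP EM g) (dP EN g)) (n + 1)).comap (Submodule.subtype _) :=
    (Submodule.Quotient.mk_eq_zero _).1 (Subsingleton.elim _ _)
  obtain ⟨v, hv⟩ := h0
  refine ⟨(e' v).1, totι_injective hT EM EN (n + 1) ?_⟩
  rw [totι_segD, he', ← pieceTot_totD, hv]
  exact (he w).symm.trans (congrArg (fun y => totι hT EM EN (n + 1) y.1) hw)

/-- The augmentation. -/
def segε : (seg ℳ 𝒩 hT).carrier →ₗ[T] (totX hT EM EN 0).carrier :=
  piSingle (fun p : AD 0 => seg (EM.X p.1.1).gr (EN.X p.1.2).gr hT) ⟨(0, 0), rfl⟩ ∘ₗ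
    segMap hT EM.ε_grHom EN.ε_grHom

theorem segε_grHom : GrLC.IsGrHom (seg ℳ 𝒩 hT).gr (totX hT EM EN 0).gr (segε hT EM EN) :=
  GrLC21.isGrHom_comp (piSingle_grHom (fun p : AD 0 => seg (EM.X p.1.1).gr (EN.X p.1.2).gr hT) ⟨(0, 0), rfl⟩) (segMap_grHom hT EM.ε_grHom EN.ε_grHom)

theorem tcmp_segε (y : (seg ℳ 𝒩 hT).carrier) :
    tcmp hT EM EN 0 0 rfl (segε hT EM EN y) = segMap hT EM.ε_grHom EN.ε_grHom y :=
  show (Pi.single (⟨(0, 0), rfl⟩ : AD 0) (segMap hT EM.ε_grHom EN.ε_grHom y) :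
    (p : AD 0) → (seg (EM.X p.1.1).gr (EN.X p.1.2).gr hT).carrier) ⟨(0, 0), rfl⟩ = _ from Pi.single_eq_same _ _

theorem segε_injective : Function.Injective (segε hT EM EN) := fun y y' h =>
  segMap_injective hT EM.ε_grHom EN.ε_grHom EM.ε_injective EN.ε_injective
    (by rw [← tcmp_segε, ← tcmp_segε, h])

theorem ker_segD_zero : LinearMap.ker (segD hT EM EN 0) = LinearMap.range (segε hT EM EN) := by
  have hid := GrLC21.isGrHom_id (R := S) (EN.X 0).gr
  have hid' := GrLC21.isGrHom_id (R := R) ℳ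
  have hD : ∀ z, segD hT EM EN 0 z = 0 ↔
      segMap hT (EM.d_grHom 0) hid (tcmp hT EM EN 0 0 rfl z) = 0 ∧
        segMap hT (GrLC21.isGrHom_id (EM.X 0).gr) (EN.d_grHom 0) (tcmp hT EM EN 0 0 rfl z) = 0 := by
    intro z
    refine ⟨fun h => ⟨?_, ?_⟩, fun h => pi_ext _ fun p => ?_⟩
    · have h' := congrFun h ⟨(1, 0), rfl⟩
      have h'' : segMap hT (EM.d_grHom 0) hid (tcmp hT EM EN 0 0 rfl z) + (0 : (seg (EM.X 1).gr (EN.X 0).gr hT).carrier) = 0 := h'
      rwa [add_zero] at h''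
    · have h' := congrFun h ⟨(0, 1), rfl⟩
      have h'' : (0 : (seg (EM.X 0).gr (EN.X 1).gr hT).carrier) + algebraMap k T ((-1) ^ 0) •
          segMap hT (GrLC21.isGrHom_id (EM.X 0).gr) (EN.d_grHom 0) (tcmp hT EM EN 0 0 rfl z) = 0 := h'
      rwa [pow_zero, map_one, one_smul, zero_add] at h''
    · rw [map_zero]
      obtain ⟨⟨i, j⟩, hij⟩ := p
      show segD₁ hT EM EN 0 i j hij z + segD₂ hT EM EN 0 i j hij z = 0
      rcases i with _ | i
      · obtain rfl : j = 1 := by simpa using hij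
        show (0 : (seg (EM.X 0).gr (EN.X 1).gr hT).carrier) + algebraMap k T ((-1) ^ 0) •
          segMap hT (GrLC21.isGrHom_id (EM.X 0).gr) (EN.d_grHom 0) (tcmp hT EM EN 0 0 rfl z) = 0
        rw [h.2, smul_zero, add_zero]
      · obtain ⟨rfl, rfl⟩ : i = 0 ∧ j = 0 := by
          have hij' : i + 1 + j = 0 + 1 := hij
          constructor <;> omega
        show segMap hT (EM.d_grHom 0) hid (tcmp hT EM EN 0 0 rfl z) + 0 = 0
        rw [h.1, add_zero]
  refine le_antisymm (fun z hz => ?_) ?_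
  · obtain ⟨h1, h2⟩ := (hD z).1 hz
    obtain ⟨y, hy⟩ := (range_segMap_eq_ker hT EM.ε_grHom (EM.d_grHom 0) EM.exact_zero).le h1
    have h3 : segMap hT hid' (EN.d_grHom 0) y = 0 := by
      refine segMap_injective hT EM.ε_grHom (GrLC21.isGrHom_id (EN.X 1).gr) EM.ε_injective Function.injective_id ?_
      rw [map_zero, ← h2, ← hy, ← LinearMap.comp_apply, ← LinearMap.comp_apply, segMap_comp, segMap_comp]
    obtain ⟨v, rfl⟩ := (range_segMap_eq_ker_right hT EN.ε_grHom (EN.d_grHom 0) EN.exact_zero).le h3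
    refine ⟨v, pi_ext _ fun p => ?_⟩
    obtain ⟨⟨i, j⟩, hij⟩ := p
    obtain ⟨rfl, rfl⟩ : i = 0 ∧ j = 0 := by
      have hij' : i + j = 0 := hij
      constructor <;> omega
    show tcmp hT EM EN 0 0 rfl (segε hT EM EN v) = tcmp hT EM EN 0 0 rfl z
    rw [tcmp_segε, ← hy, ← LinearMap.comp_apply, segMap_comp]
  · rintro _ ⟨v, rfl⟩
    refine (hD _).2 ⟨?_, ?_⟩ <;> rw [tcmp_segε] <;> refine segι_injective _ _ hT ?_ <;>
      rw [segι_segMap, segι_segMap, map_zero]
    · induction segι ℳ 𝒩 hT v using TensorProduct.induction_on with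
      | zero => rw [map_zero, map_zero]
      | add a b ha hb => rw [map_add, map_add, ha, hb, add_zero]
      | tmul a b =>
        show EM.d 0 (EM.ε a) ⊗ₜ[k] EN.ε b = 0
        rw [LinearMap.mem_ker.1 (EM.exact_zero.ge (LinearMap.mem_range_self EM.ε a)), TensorProduct.zero_tmul]
    · induction segι ℳ 𝒩 hT v using TensorProduct.induction_on with
      | zero => rw [map_zero, map_zero]
      | add a b ha hb => rw [map_add, map_add, ha, hb, add_zero]
      | tmul a b =>
        show EM.ε a ⊗ₜ[k] EN.d 0 (EN.ε b) = 0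
        rw [LinearMap.mem_ker.1 (EN.exact_zero.ge (LinearMap.mem_range_self EN.ε b)), TensorProduct.tmul_zero]

variable (ε' : P ≃ₗ[T] (seg ℳ 𝒩 D.isSegre).carrier) (hε' : GrLC.IsGrHom 𝒬 (seg ℳ 𝒩 D.isSegre).gr ε'.toLinearMap)

/-- The total resolution. -/
def Data.totRes : GRes 𝒯 𝒬 where
  X n := totX D.isSegre EM EN n
  d n := segD D.isSegre EM EN n
  ε := segε D.isSegre EM EN ∘ₗ ε'.toLinearMap
  d_grHom n := segD_grHom D.isSegre EM EN n
  ε_grHom := GrLC21.isGrHom_comp (segε_grHom D.isSegre EM EN) hε'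
  ε_injective := (segε_injective D.isSegre EM EN).comp ε'.injective
  exact_zero := by
    rw [LinearMap.range_comp, LinearEquiv.range, Submodule.map_top]
    exact ker_segD_zero D.isSegre EM EN
  exact_succ n := ker_segD_succ D.isSegre EM EN n

theorem Data.totRes_acyclic (n : ℕ) : Acyc mT.toIdeal ((D.totRes EM EN ε' hε').X n).carrier :=
  acyc_of_fac (fac_piMod _ fun p => D.fac_seg_starInj (EM.starInj p.1.1) (EN.starInj p.1.2))

theorem Data.gam_seg_starInj {X : GrLC.GMod.{u} 𝒜} {Y : GrLC.GMod.{u} ℬ} (hX : GrLC.IsStarInj 𝒜 X.gr)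
    (hY : GrLC.IsStarInj ℬ Y.gr) (z : (seg X.gr Y.gr D.isSegre).carrier) :
    z ∈ GrLC.gam mT.toIdeal (seg X.gr Y.gr D.isSegre).carrier ↔
      tmap k (quotπ X _ (gam_isHomogeneous mR X.gr)) (quotπ Y _ (gam_isHomogeneous mS Y.gr))
        (segι X.gr Y.gr D.isSegre z) = 0 := by
  let π := segMap D.isSegre (quotπ_grHom X _ (gam_isHomogeneous mR X.gr)) (quotπ_grHom Y _ (gam_isHomogeneous mS Y.gr))
  constructor
  · intro hz
    have hfac := D.fac_seg (fun _ _ h h' => D.isBij_seg h h') (fac_bij_quot_gam hX mR) (fac_bij_quot_gam hY mS)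
    have h0 := eq_zero_of_fac_bij hfac (map_mem_gam π hz)
    rw [segMap_id, LinearMap.id_apply] at h0
    have h1 := segι_segMap D.isSegre (quotπ_grHom X _ (gam_isHomogeneous mR X.gr))
      (quotπ_grHom Y _ (gam_isHomogeneous mS Y.gr)) z
    rw [← h1]
    show segι _ _ D.isSegre (π z) = 0
    rw [h0]
    exact map_zero _
  · intro hz
    let f₁ : (GrLC.gam mR.toIdeal X.carrier).restrictScalars k →ₗ[k] X.carrier := Submodule.subtype _
    have hex₁ : Function.Exact f₁ ((quotπ X _ (gam_isHomogeneous mR X.gr)).restrictScalars k) := fun x =>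
      ⟨fun h => ⟨⟨x, (Submodule.Quotient.mk_eq_zero _).1 h⟩, rfl⟩,
        fun ⟨y, hy⟩ => (Submodule.Quotient.mk_eq_zero _).2 (hy ▸ y.2)⟩
    let f₂ : (GrLC.gam mS.toIdeal Y.carrier).restrictScalars k →ₗ[k] Y.carrier := Submodule.subtype _
    have hex₂ : Function.Exact f₂ ((quotπ Y _ (gam_isHomogeneous mS Y.gr)).restrictScalars k) := fun x =>
      ⟨fun h => ⟨⟨x, (Submodule.Quotient.mk_eq_zero _).1 h⟩, rfl⟩,
        fun ⟨y, hy⟩ => (Submodule.Quotient.mk_eq_zero _).2 (hy ▸ y.2)⟩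
    have hker := TensorProduct.map_ker hex₁ (quotπ_surjective X _ (gam_isHomogeneous mR X.gr)) hex₂
      (quotπ_surjective Y _ (gam_isHomogeneous mS Y.gr))
    obtain ⟨u, ⟨u', rfl⟩, v, ⟨v', rfl⟩, huv⟩ := Submodule.mem_sup.1 (hker.le hz)
    have key : ∀ w : X.carrier ⊗[k] Y.carrier, ∀ (G : Submodule k (X.carrier ⊗[k] Y.carrier)),
        G = ((GrLC.gam mT.toIdeal (seg X.gr Y.gr D.isSegre).carrier).restrictScalars k).map
          (segι X.gr Y.gr D.isSegre) → diag 𝒜 ℬ X.gr Y.gr w ∈ G →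
        ∃ y ∈ GrLC.gam mT.toIdeal (seg X.gr Y.gr D.isSegre).carrier,
          segι X.gr Y.gr D.isSegre y = diag 𝒜 ℬ X.gr Y.gr w := fun w G hG h => by subst hG; exact h
    let G := ((GrLC.gam mT.toIdeal (seg X.gr Y.gr D.isSegre).carrier).restrictScalars k).map
      (segι X.gr Y.gr D.isSegre)
    have hpure : ∀ (a : X.carrier) (b : Y.carrier),
        a ∈ GrLC.gam mR.toIdeal X.carrier ∨ b ∈ GrLC.gam mS.toIdeal Y.carrier →
          diag 𝒜 ℬ X.gr Y.gr (a ⊗ₜ[k] b) ∈ G := by
      intro a b hab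
      rw [← GrLC21.sum_proj X.gr a, ← GrLC21.sum_proj Y.gr b, TensorProduct.sum_tmul, map_sum]
      refine Submodule.sum_mem _ fun i _ => ?_
      rw [TensorProduct.tmul_sum, map_sum]
      refine Submodule.sum_mem _ fun j _ => ?_
      rcases eq_or_ne i j with rfl | hij
      · rw [diag_tmul_same 𝒜 ℬ X.gr Y.gr (GrLC21.proj_mem X.gr i a) (GrLC21.proj_mem Y.gr i b)]
        obtain ⟨y, -, hy⟩ := exists_segι_piece X.gr Y.gr D.isSegre (g := i)
          (w := GrLC21.proj X.gr i a ⊗ₜ[k] GrLC21.proj Y.gr i b)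
          (Submodule.subset_span ⟨_, GrLC21.proj_mem X.gr i a, _, GrLC21.proj_mem Y.gr i b, rfl⟩)
        refine ⟨y, ?_, hy⟩
        rcases hab with ha | hb
        · exact D.mem_gam_left hy (gam_isHomogeneous mR X.gr i ha)
        · exact D.mem_gam_right hy (gam_isHomogeneous mS Y.gr i hb)
      · rw [diag_tmul_ne 𝒜 ℬ X.gr Y.gr (GrLC21.proj_mem X.gr i a) (GrLC21.proj_mem Y.gr j b) hij]
        exact Submodule.zero_mem _
    obtain ⟨y, hy, hye⟩ : ∃ y ∈ GrLC.gam mT.toIdeal (seg X.gr Y.gr D.isSegre).carrier,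
        segι X.gr Y.gr D.isSegre y = diag 𝒜 ℬ X.gr Y.gr (segι X.gr Y.gr D.isSegre z) := by
      refine key _ G rfl ?_
      rw [← huv, map_add]
      refine Submodule.add_mem _ ?_ ?_
      · clear huv
        induction u' using TensorProduct.induction_on with
        | zero => rw [map_zero, map_zero]; exact Submodule.zero_mem _
        | add a b ha hb => rw [map_add, map_add]; exact Submodule.add_mem _ ha hb
        | tmul a b => exact hpure _ _ (Or.inr b.2)
      · clear huv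
        induction v' using TensorProduct.induction_on with
        | zero => rw [map_zero, map_zero]; exact Submodule.zero_mem _
        | add a b ha hb => rw [map_add, map_add]; exact Submodule.add_mem _ ha hb
        | tmul a b => exact hpure _ _ (Or.inl a.2)
    rw [diag_eq_self 𝒜 ℬ X.gr Y.gr (segι_mem X.gr Y.gr D.isSegre z)] at hye
    exact segι_injective X.gr Y.gr D.isSegre hye ▸ hy

/-- The cohomology of the torsion-free pieces is a tensor product. -/
theorem Data.nonempty_QV_kunneth (g : ℤ) (q : ℕ) :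
    Nonempty (Coh (QVd (D.totRes EM EN ε' hε') mT g) q ≃ₗ[k]
      ((p : AD q) → Coh (QVd (toGRes EM) mR g) p.1.1 ⊗[k] Coh (QVd (toGRes EN) mS g) p.1.2)) := by
  let C := D.totRes EM EN ε' hε'
  have hex : ∀ n, ∃ e : Tot k (fun i => pieceK (EM.X i) g) (fun j => pieceK (EN.X j) g) n ≃ₗ[k] VX C g n,
      ∀ w, totι D.isSegre EM EN n (e w).1 = pieceTot EM EN g n w := fun n => exists_piece_equiv D.isSegre EM EN g n
  choose e he using hex
  let p₁ := fun i => Qp (toGRes EM) mR g i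
  let p₂ := fun j => Qp (toGRes EN) mS g j
  let W : ℕ → Type u := fun n => Tot k (fun i => QV (toGRes EM) mR g i) (fun j => QV (toGRes EN) mS g j) n
  let u : ∀ n, VX C g n →ₗ[k] W n := fun n => totMap p₁ p₂ n ∘ₗ (e n).symm.toLinearMap
  have hu : ∀ n, Function.Surjective (u n) := fun n =>
    (totMap_surjective (Qp_surjective (toGRes EM) mR g) (Qp_surjective (toGRes EN) mS g) n).comp (e n).symm.surjective
  have hker : ∀ n, LinearMap.ker (Qp C mT g n) = LinearMap.ker (u n) := fun n => by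
    refine SetLike.ext fun x => ?_
    obtain ⟨w, rfl⟩ := (e n).surjective x
    rw [LinearMap.mem_ker, Qp_eq_zero_iff, LinearMap.mem_ker,
      show u n (e n w) = totMap p₁ p₂ n w from congrArg (totMap p₁ p₂ n) ((e n).symm_apply_apply w)]
    let x' : (totX D.isSegre EM EN n).carrier := (e n w).1
    show x' ∈ GrLC.gam mT.toIdeal (totX D.isSegre EM EN n).carrier ↔ _
    rw [mem_gam_pi]
    constructor
    · intro h
      funext p
      have h1 := (D.gam_seg_starInj (EM.starInj p.1.1) (EN.starInj p.1.2) _).1 (h p)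
      rw [show segι _ _ D.isSegre (piProj _ p (e n w).1) = pieceTot EM EN g n w p from congrFun (he n w) p] at h1
      refine pieceTensor_injective _ _ g ?_
      rw [Pi.zero_apply, map_zero]
      exact (pieceTensor_natural (EM.X p.1.1) (EN.X p.1.2) (quotπ_grHom _ _ _) (quotπ_grHom _ _ _) g (w p)).trans h1
    · intro h p
      refine (D.gam_seg_starInj (EM.starInj p.1.1) (EN.starInj p.1.2) _).2 ?_
      rw [show segι _ _ D.isSegre (piProj _ p (e n w).1) = pieceTot EM EN g n w p from congrFun (he n w) p]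
      refine (pieceTensor_natural (EM.X p.1.1) (EN.X p.1.2) (quotπ_grHom _ _ _) (quotπ_grHom _ _ _) g (w p)).symm.trans ?_
      exact (congrArg _ (congrFun h p)).trans (map_zero _)
  let E : ∀ n, QV C mT g n ≃ₗ[k] W n := fun n =>
    ((Qp C mT g n).quotKerEquivOfSurjective (Qp_surjective C mT g n)).symm.trans
      ((Submodule.quotEquivOfEq _ _ (hker n)).trans ((u n).quotKerEquivOfSurjective (hu n)))
  have hE : ∀ n x, E n (Qp C mT g n x) = u n x := fun n x => by
    have h1 : ((Qp C mT g n).quotKerEquivOfSurjective (Qp_surjective C mT g n)).symm (Qp C mT g n x) =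
        Submodule.Quotient.mk x :=
      ((Qp C mT g n).quotKerEquivOfSurjective (Qp_surjective C mT g n)).injective
        ((LinearEquiv.apply_symm_apply _ _).trans rfl)
    exact (congrArg ((Submodule.quotEquivOfEq _ _ (hker n)).trans ((u n).quotKerEquivOfSurjective (hu n))) h1).trans rfl
  have hcomm : ∀ n y, totD (QVd (toGRes EM) mR g) (QVd (toGRes EN) mS g) n (E n y) = E (n + 1) (QVd C mT g n y) := by
    intro n y
    obtain ⟨x, rfl⟩ := Qp_surjective C mT g n y
    obtain ⟨w, rfl⟩ := (e n).surjective x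
    have hd : Vd C g n (e n w) = e (n + 1) (totD (dP EM g) (dP EN g) n w) := by
      refine Subtype.ext (totι_injective D.isSegre EM EN (n + 1) ?_)
      rw [he, pieceTot_totD, ← he]
      exact totι_segD D.isSegre EM EN n _
    rw [hE, Qp_comm, hE, hd]
    show totD _ _ n (totMap p₁ p₂ n ((e n).symm (e n w))) = totMap p₁ p₂ (n + 1) ((e (n + 1)).symm (e (n + 1) _))
    rw [LinearEquiv.symm_apply_apply, LinearEquiv.symm_apply_apply]
    exact totMap_comm (dP EM g) (dP EN g) (QVd (toGRes EM) mR g) (QVd (toGRes EN) mS g)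
      (Qp_comm (toGRes EM) mR g) (Qp_comm (toGRes EN) mS g) n w
  obtain ⟨e₁⟩ := nonempty_coh_congr (QVd C mT g) (totD (QVd (toGRes EM) mR g) (QVd (toGRes EN) mS g)) E hcomm q
  have hdd : ∀ {A : Type u} [CommRing A] [Algebra k A] {𝒞 : ℤ → Submodule k A} [GradedAlgebra 𝒞]
      {L : Type u} [AddCommGroup L] [Module A L] {τl : Type u} [SetLike τl L] [AddSubgroupClass τl L]
      {ℒ : ℤ → τl} [Decomposition ℒ] [SetLike.GradedSMul 𝒞 ℒ] (G : GRes 𝒞 ℒ) (a : HomogeneousIdeal 𝒞) (m : ℕ)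
      (y : QV G a g m), QVd G a g (m + 1) (QVd G a g m y) = 0 := by
    intros
    rename_i G a m y
    obtain ⟨x, rfl⟩ := Qp_surjective G a g m y
    rw [Qp_comm, Qp_comm, Vd_Vd, map_zero]
  obtain ⟨e₂⟩ := nonempty_kunneth (QVd (toGRes EM) mR g) (QVd (toGRes EN) mS g) (hdd _ _) (hdd _ _) q
  exact ⟨e₁.trans e₂⟩

end Groth.Agent.SegLC
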